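import Cfsg.Agent.Lib.Coprime
import Mathlib

/-!
Stable Sylow subgroups of a group with a coprime solvable operator group.
-/

set_option autoImplicit false

namespace CfsgLib.BaseTwo

open Subgroup

universe u v

variable {A : Type u} {K : Type v} [Group A] [Finite A] [Group K] [Finite K] [MulDistribMulAction A K]

/-- The elements fixed by a subgroup of operators. -/
def fixes (B : Subgroup A) : Subgroup K where
  carrier := {x | ∀ b ∈ B, b • x = x}
  one_mem' := fun b _ => smul_one b
  mul_mem' := fun hx hy b hb => by rw [smul_mul', hx b hb, hy b hb]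
  inv_mem' := fun hx b hb => by rw [smul_inv', hx b hb]

variable (p : ℕ) [Fact p.Prime]

/-- A stable Sylow subgroup meets the fixed points of any operators in a Sylow subgroup of them. -/
theorem exists_stable_sylow [Group.IsSolvable A] (hcop : (Nat.card A).Coprime (Nat.card K)) :
    ∃ P : Subgroup K, IsPGroup p P ∧ (∀ a : A, ∀ x ∈ P, a • x ∈ P) ∧ ¬ p ∣ P.index ∧
      ∀ B : Subgroup A, Nat.card (P ⊓ fixes B : Subgroup K) = p ^ (Nat.card (fixes (K := K) B)).factorization p := by
  let φ : A →* MulAut K := MulDistribMulAction.toMulAut A K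
  let iK : K →* SemidirectProduct K A φ := SemidirectProduct.inl
  let iA : A →* SemidirectProduct K A φ := SemidirectProduct.inr
  haveI : Finite (SemidirectProduct K A φ) := Finite.of_equiv _ SemidirectProduct.equivProd.symm
  have hconj : ∀ (a : A) (k : K), iA a * iK k * (iA a)⁻¹ = iK (a • k) := fun a k => by
    rw [← map_inv]
    exact (SemidirectProduct.inl_aut a k).symm
  have hnorm : ∀ (B : Subgroup A) (U : Subgroup K), (∀ b ∈ B, ∀ x ∈ U, b • x ∈ U) →
      B.map iA ≤ Subgroup.normalizer ((U.map iK : Subgroup _) : Set (SemidirectProduct K A φ)) := by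
    rintro B U hU _ ⟨b, hb, rfl⟩
    rw [Subgroup.mem_normalizer_iff]
    intro g
    constructor
    · rintro ⟨x, hx, rfl⟩
      exact ⟨b • x, hU b hb x hx, (hconj b x).symm⟩
    · rintro ⟨x, hx, e⟩
      refine ⟨b⁻¹ • x, hU b⁻¹ (B.inv_mem hb) x hx, ?_⟩
      rw [← hconj, map_inv, e]
      group
  let K' := (⊤ : Subgroup K).map iK
  have hK' : ∀ (B : Subgroup A), B.map iA ≤ Subgroup.normalizer (K' : Set (SemidirectProduct K A φ)) := fun B =>
    hnorm B ⊤ fun _ _ _ _ => Subgroup.mem_top _
  have hcop' : ∀ B : Subgroup A, (Nat.card (B.map iA)).Coprime (Nat.card K') := fun B => by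
    rw [Subgroup.card_map_of_injective SemidirectProduct.inr_injective,
      Subgroup.card_map_of_injective SemidirectProduct.inl_injective, Subgroup.card_top]
    exact Nat.Coprime.coprime_dvd_left B.card_subgroup_dvd_card hcop
  have hsolv : ∀ B : Subgroup A, Group.IsSolvable (B.map iA) := fun B => by
    exact Group.isSolvable_of_surjective (f := (B.equivMapOfInjective iA SemidirectProduct.inr_injective).toMonoidHom)
      (B.equivMapOfInjective iA SemidirectProduct.inr_injective).surjective
  have hmem : ∀ {B : Subgroup A} {Q : Subgroup K'},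
      B.map iA ≤ Subgroup.normalizer ((Q.map K'.subtype : Subgroup _) : Set (SemidirectProduct K A φ)) →
      ∀ b ∈ B, ∀ x : K, iK x ∈ Q.map K'.subtype → iK (b • x) ∈ Q.map K'.subtype := fun {B Q} hQ b hb x hx => by
    rw [← hconj]
    exact (Subgroup.mem_normalizer_iff.mp (hQ ⟨b, hb, rfl⟩) _).mp hx
  obtain ⟨P', hP'⟩ := coprime_exists_invariant_sylow (hK' ⊤) (hcop' ⊤) (Or.inl (hsolv ⊤)) p
  let P : Subgroup K := ((P' : Subgroup K').map K'.subtype).comap iK
  have hPmap : P.map iK = (P' : Subgroup K').map K'.subtype := by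
    refine le_antisymm (Subgroup.map_comap_le _ _) fun g hg => ?_
    obtain ⟨k, -, rfl⟩ : g ∈ K' := Subgroup.map_subtype_le _ hg
    exact ⟨k, hg, rfl⟩
  have hPp : IsPGroup p P := by
    have := P'.2.map K'.subtype
    rw [← hPmap] at this
    exact this.of_equiv (P.equivMapOfInjective iK SemidirectProduct.inl_injective).symm
  have hPcard : Nat.card P = Nat.card (P' : Subgroup K') := by
    rw [← Subgroup.card_map_of_injective (f := iK) (K := P) SemidirectProduct.inl_injective, hPmap,
      Subgroup.card_map_of_injective K'.subtype_injective]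
  have hPidx : ¬ p ∣ P.index := by
    have h1 := P.card_mul_index
    rw [hPcard] at h1
    have h2 : (P' : Subgroup K').index = P.index := by
      have h3 := (P' : Subgroup K').card_mul_index
      rw [Subgroup.card_map_of_injective SemidirectProduct.inl_injective, Subgroup.card_top] at h3
      exact Nat.eq_of_mul_eq_mul_left Nat.card_pos (h3.trans h1.symm)
    rw [← h2]
    exact P'.not_dvd_index
  refine ⟨P, hPp, fun a x hx => hmem hP' a (Subgroup.mem_top a) x hx, hPidx, fun B => ?_⟩
  set C : Subgroup K := fixes B with hC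
  obtain ⟨v, hv⟩ := IsPGroup.iff_card.mp (hPp.to_le (inf_le_left : P ⊓ C ≤ P))
  obtain ⟨R⟩ : Nonempty (Sylow p C) := inferInstance
  let R₀ : Subgroup K := (R : Subgroup C).map C.subtype
  have hR₀C : R₀ ≤ C := Subgroup.map_subtype_le _
  have hR₀p : IsPGroup p (R₀.map iK) := (R.2.map C.subtype).map iK
  obtain ⟨Q, hUQ, hQ⟩ := coprime_le_invariant_sylow (hK' B) (hcop' B) (Or.inl (hsolv B))
    (Subgroup.map_mono le_top) hR₀p (hnorm B R₀ fun b hb x hx => by rwa [hR₀C hx b hb])
  have hP'B : B.map iA ≤ Subgroup.normalizer (((P' : Subgroup K').map K'.subtype : Subgroup _) :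
      Set (SemidirectProduct K A φ)) :=
    (Subgroup.map_mono le_top).trans hP'
  obtain ⟨c, hc, hcQ⟩ := coprime_invariant_sylow_conj (hK' B) (hcop' B) (Or.inl (hsolv B)) P' Q hP'B hQ
  obtain ⟨c₀, -, hc₀⟩ := c.2
  have hc₀C : c₀ ∈ C := fun b hb => by
    refine SemidirectProduct.inl_injective (φ := φ) ?_
    show iK (b • c₀) = iK c₀
    rw [← hconj, hc₀, Subgroup.mem_centralizer_iff.mp hc (iA b) ⟨b, hb, rfl⟩, mul_inv_cancel_right]
  have hle : R₀.map (MulAut.conj c₀⁻¹).toMonoidHom ≤ P ⊓ C := by
    rintro _ ⟨r, hr, rfl⟩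
    refine ⟨?_, ?_⟩
    · show iK (c₀⁻¹ * r * c₀⁻¹⁻¹) ∈ (P' : Subgroup K').map K'.subtype
      obtain ⟨q, hq, eq⟩ := hUQ ⟨r, hr, rfl⟩
      rw [← hcQ] at hq
      obtain ⟨z, hz, e⟩ := Subgroup.mem_map.mp (show q ∈ (P' : Subgroup K').map (MulAut.conj c).toMonoidHom from hq)
      refine ⟨z, hz, ?_⟩
      rw [inv_inv, map_mul, map_mul, map_inv, ← eq, ← e, hc₀]
      simp [mul_assoc]
    · exact C.mul_mem (C.mul_mem (C.inv_mem hc₀C) (hR₀C hr)) (C.inv_mem (C.inv_mem hc₀C))
  have h1 : p ^ (Nat.card C).factorization p ≤ p ^ v := by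
    rw [← hv, ← Sylow.card_eq_multiplicity R,
      ← Subgroup.card_map_of_injective (K := (R : Subgroup C)) C.subtype_injective,
      ← Subgroup.card_map_of_injective (f := (MulAut.conj c₀⁻¹).toMonoidHom) (K := R₀) (MulAut.conj c₀⁻¹).injective]
    exact Nat.card_le_card_of_injective _ (Subgroup.inclusion_injective hle)
  rw [hv]
  refine le_antisymm (Nat.pow_le_pow_right (Fact.out : p.Prime).pos ?_) h1
  exact ((Fact.out : p.Prime).pow_dvd_iff_le_factorization Nat.card_pos.ne').mp
    (hv ▸ Subgroup.card_dvd_of_le (inf_le_right : P ⊓ C ≤ C))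

end CfsgLib.BaseTwo
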