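import Cfsg.Agent.Lib.OddBase.Basic

/-!
Complete reducibility of coprime actions on groups of prime exponent.
-/

set_option autoImplicit false

namespace CfsgLib.BaseTwo

open CfsgLib.OddBase

universe u v

/-- Averaging a projection. -/
theorem exists_complement {A : Type u} {V : Type v} [Group A] [Finite A] [AddCommGroup V] [DistribMulAction A V]
    (p : ℕ) [Fact p.Prime] (hV : ∀ x : V, p • x = 0) (hA : ¬ p ∣ Nat.card A) (U : AddSubgroup V)
    (hU : ∀ a : A, ∀ x ∈ U, a • x ∈ U) :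
    ∃ W : AddSubgroup V, (∀ a : A, ∀ x ∈ W, a • x ∈ W) ∧ U ⊓ W = ⊥ ∧ U ⊔ W = ⊤ := by
  classical
  haveI : Fintype A := Fintype.ofFinite _
  obtain ⟨iM⟩ : Nonempty (Module (ZMod p) V) := ⟨AddCommGroup.zmodModule hV⟩
  obtain ⟨U', hU'⟩ : ∃ U' : Submodule (ZMod p) V, ∀ x : V, x ∈ U' ↔ x ∈ U :=
    ⟨AddSubgroup.toZModSubmodule p U, fun x => Iff.rfl⟩
  obtain ⟨P, hP⟩ := U'.subtype.exists_leftInverse_of_injective U'.ker_subtype
  let π : V →+ V := (U'.subtype.comp P).toAddMonoidHom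
  have hπmem : ∀ x, π x ∈ U := fun x => (hU' _).mp (P x).2
  have hπU : ∀ x ∈ U, π x = x := fun x hx =>
    congrArg Subtype.val (LinearMap.congr_fun hP ⟨x, (hU' x).mpr hx⟩)
  obtain ⟨m, hm⟩ : ∃ m : ℕ, ((m * Nat.card A : ℕ) : ZMod p) = 1 := by
    refine ⟨((Nat.card A : ZMod p)⁻¹).val, ?_⟩
    rw [Nat.cast_mul, ZMod.natCast_zmod_val, inv_mul_cancel₀]
    rwa [Ne, ZMod.natCast_eq_zero_iff]
  let ψ : V →+ V :=
    { toFun := fun x => m • ∑ a : A, a • π (a⁻¹ • x)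
      map_zero' := by simp
      map_add' := fun x y => by simp only [smul_add, map_add, Finset.sum_add_distrib] }
  have hψ : ∀ (g : A) (x : V), ψ (g • x) = g • ψ x := fun g x => by
    show m • ∑ a : A, a • π (a⁻¹ • g • x) = g • m • ∑ a : A, a • π (a⁻¹ • x)
    rw [smul_comm g m, Finset.smul_sum (r := g)]
    congr 1
    refine (Fintype.sum_equiv (Equiv.mulLeft g) _ _ fun a => ?_).symm
    show g • a • π (a⁻¹ • x) = (g * a) • π ((g * a)⁻¹ • g • x)
    rw [mul_inv_rev, mul_smul a⁻¹, inv_smul_smul, mul_smul]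
  have hψU : ∀ x ∈ U, ψ x = x := fun x hx => by
    show m • ∑ a : A, a • π (a⁻¹ • x) = x
    rw [Finset.sum_congr rfl (fun a _ => by rw [hπU _ (hU a⁻¹ x hx), smul_inv_smul]), Finset.sum_const,
      Finset.card_univ, ← Nat.card_eq_fintype_card, ← mul_smul, ← Nat.cast_smul_eq_nsmul (ZMod p), hm, one_smul]
  have hψmem : ∀ x, ψ x ∈ U := fun x => U.nsmul_mem (sum_mem fun a _ => hU a _ (hπmem _)) m
  refine ⟨ψ.ker, fun a x hx => ?_, ?_, ?_⟩
  · rw [AddMonoidHom.mem_ker] at hx ⊢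
    rw [hψ, hx, smul_zero]
  · rw [eq_bot_iff]
    intro x hx
    exact AddSubgroup.mem_bot.mpr ((hψU x hx.1).symm.trans hx.2)
  · rw [eq_top_iff]
    intro x _
    refine AddSubgroup.mem_sup.mpr ⟨ψ x, hψmem x, x - ψ x, ?_, add_sub_cancel _ _⟩
    rw [AddMonoidHom.mem_ker, map_sub, hψU _ (hψmem x), sub_self]

end CfsgLib.BaseTwo
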