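import Mathlib

/-!
A free point is transferred between two actions with the same numbers of fixed points.
-/

set_option autoImplicit false

namespace CfsgLib.BaseTwo

open MulAction

universe u v w

/-- Points of trivial stabilizer are counted by the fixed points of all subgroups. -/
theorem exists_free_transfer {A : Type u} {X : Type v} {Y : Type w} [Group A] [Finite A] [MulAction A X]
    [MulAction A Y] [Finite X] [Finite Y]
    (h : ∀ B : Subgroup A, Nat.card {x : X // ∀ b ∈ B, b • x = x} = Nat.card {y : Y // ∀ b ∈ B, b • y = y})
    {y : Y} (hy : stabilizer A y = ⊥) : ∃ x : X, stabilizer A x = ⊥ := by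
  classical
  haveI : Fintype X := Fintype.ofFinite X
  haveI : Fintype Y := Fintype.ofFinite Y
  haveI : Fintype (Subgroup A) := Fintype.ofFinite _
  let T : Subgroup A → Finset (Subgroup A) := fun B => Finset.univ.filter fun C => B < C
  have hX : ∀ B : Subgroup A, Nat.card {x : X // ∀ b ∈ B, b • x = x} =
      (Finset.univ.filter fun x : X => stabilizer A x = B).card +
        ∑ C ∈ T B, (Finset.univ.filter fun x : X => stabilizer A x = C).card := fun B => by
    have hns : B ∉ T B := fun hB => lt_irrefl B (Finset.mem_filter.mp hB).2
    rw [← Finset.sum_insert (f := fun C => (Finset.univ.filter fun x : X => stabilizer A x = C).card) hns,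
      Nat.card_eq_fintype_card, Fintype.card_subtype,
      Finset.card_eq_sum_card_fiberwise (f := fun x : X => stabilizer A x) (t := insert B (T B)) fun x hx => by
        simp only [Finset.mem_coe, Finset.mem_filter] at hx
        rw [Finset.mem_coe, Finset.mem_insert]
        rcases (show B ≤ stabilizer A x from fun b hb => hx.2 b hb).eq_or_lt with e | e
        · exact Or.inl e.symm
        · exact Or.inr (Finset.mem_filter.mpr ⟨Finset.mem_univ _, e⟩)]
    refine Finset.sum_congr rfl fun C hC => congrArg Finset.card ?_
    have hBC : B ≤ C := by
      rcases Finset.mem_insert.mp hC with rfl | hC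
      · exact le_rfl
      · exact (Finset.mem_filter.mp hC).2.le
    rw [Finset.filter_filter]
    exact Finset.filter_congr fun x _ => ⟨fun e => e.2, fun e => ⟨fun b hb => (e ▸ hBC hb : b ∈ stabilizer A x), e⟩⟩
  have hY : ∀ B : Subgroup A, Nat.card {x : Y // ∀ b ∈ B, b • x = x} =
      (Finset.univ.filter fun x : Y => stabilizer A x = B).card +
        ∑ C ∈ T B, (Finset.univ.filter fun x : Y => stabilizer A x = C).card := fun B => by
    have hns : B ∉ T B := fun hB => lt_irrefl B (Finset.mem_filter.mp hB).2
    rw [← Finset.sum_insert (f := fun C => (Finset.univ.filter fun x : Y => stabilizer A x = C).card) hns,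
      Nat.card_eq_fintype_card, Fintype.card_subtype,
      Finset.card_eq_sum_card_fiberwise (f := fun x : Y => stabilizer A x) (t := insert B (T B)) fun x hx => by
        simp only [Finset.mem_coe, Finset.mem_filter] at hx
        rw [Finset.mem_coe, Finset.mem_insert]
        rcases (show B ≤ stabilizer A x from fun b hb => hx.2 b hb).eq_or_lt with e | e
        · exact Or.inl e.symm
        · exact Or.inr (Finset.mem_filter.mpr ⟨Finset.mem_univ _, e⟩)]
    refine Finset.sum_congr rfl fun C hC => congrArg Finset.card ?_
    have hBC : B ≤ C := by
      rcases Finset.mem_insert.mp hC with rfl | hC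
      · exact le_rfl
      · exact (Finset.mem_filter.mp hC).2.le
    rw [Finset.filter_filter]
    exact Finset.filter_congr fun x _ => ⟨fun e => e.2, fun e => ⟨fun b hb => (e ▸ hBC hb : b ∈ stabilizer A x), e⟩⟩
  haveI : WellFoundedGT (Subgroup A) := inferInstance
  have key : ∀ B : Subgroup A, (Finset.univ.filter fun x : X => stabilizer A x = B).card =
      (Finset.univ.filter fun x : Y => stabilizer A x = B).card := fun B => by
    induction B using WellFoundedGT.induction with
    | _ B ih =>
      have := (hX B).symm.trans ((h B).trans (hY B))
      rw [Finset.sum_congr rfl fun C hC => ih C (Finset.mem_filter.mp hC).2] at this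
      exact Nat.add_right_cancel this
  obtain ⟨x, hx⟩ := Finset.card_pos.mp ((key ⊥).ge.trans_lt' (Finset.card_pos.mpr ⟨y, by simp [hy]⟩))
  exact ⟨x, (Finset.mem_filter.mp hx).2⟩

end CfsgLib.BaseTwo
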