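import Cfsg.Agent.Lib.BaseTwo.Top
import Cfsg.Agent.Lib.BaseTwo.Maschke
import Cfsg.Agent.Lib.BaseTwo.Transfer
import Cfsg.Agent.Lib.BaseTwo.CoprimeSylow
import Cfsg.Agent.Lib.Elementary
import Cfsg.Agent.S4207

/-!
Two points with trivial common stabilizer under a coprime solvable group of automorphisms.
-/

set_option autoImplicit false

namespace CfsgLib.BaseTwo

open Subgroup CfsgLib.OddBase
open scoped commutatorElement

universe u v

/-- A coprime automorphism trivial modulo the Frattini subgroup is trivial. -/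
theorem aut_trivial_of_mod_frattini {X : Type v} [Group X] [Finite X] {p : ℕ} [Fact p.Prime] (hX : IsPGroup p X)
    {g : MulAut X} (hg : (orderOf g).Coprime p)
    (h : ∀ x, (QuotientGroup.mk (g x) : X ⧸ frattini X) = QuotientGroup.mk x) : g = 1 := by
  obtain ⟨n, hn⟩ := hX.exists_card_eq
  obtain ⟨r, -, hr⟩ := (Nat.dvd_prime_pow Fact.out).1 (hn ▸ Subgroup.index_dvd_card (frattini X))
  haveI : Finite (MulAut X) := Finite.of_injective (fun f => (f : X → X)) DFunLike.coe_injective
  have hd := Cfsg.Agent.S4207.aut_card_dvd hn hr (Subgroup.zpowers g) (by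
    intro β hβ x
    obtain ⟨k, rfl⟩ := mem_powers_iff_mem_zpowers.2 hβ
    rw [← div_eq_mul_inv, ← QuotientGroup.eq_iff_div_mem]
    induction k with
    | zero => rfl
    | succ k ih => exact (congrArg _ (DFunLike.congr_fun (pow_succ' g k) x)).trans ((h _).trans (ih ⟨k, rfl⟩)))
  rw [Nat.card_zpowers] at hd
  exact orderOf_eq_one_iff.1 (Nat.eq_one_of_dvd_coprimes (hg.pow_right _) dvd_rfl hd)

variable {A : Type u} [Group A] [Finite A]

/-- Two points of a group of prime power order whose common stabilizer acts trivially. -/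
theorem pgroup_pair {P : Type v} [Group P] [Finite P] [MulDistribMulAction A P] (hA : Group.IsSolvable A) {p : ℕ}
    [Fact p.Prime] (hP : IsPGroup p P) (hp : ¬ p ∣ Nat.card A) :
    ∃ x y : P, ∀ a : A, a • x = x → a • y = y → ∀ z : P, a • z = z := by
  classical
  let Q := P ⧸ frattini P
  letI : CommGroup Q :=
    { (inferInstance : Group Q) with
      mul_comm := fun x y => QuotientGroup.induction_on x fun a => QuotientGroup.induction_on y fun b => by
        rw [← QuotientGroup.mk_mul, ← QuotientGroup.mk_mul, QuotientGroup.eq]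
        refine commutator_le_frattini_pGroup hP ?_
        rw [show (a * b)⁻¹ * (b * a) = ⁅b⁻¹, a⁻¹⁆ by simp [commutatorElement_def, mul_assoc]]
        exact Subgroup.commutator_mem_commutator (Subgroup.mem_top _) (Subgroup.mem_top _) }
  let f : A → Q →* Q := fun a => QuotientGroup.map (frattini P) (frattini P) (MulDistribMulAction.toMulAut A P a).toMonoidHom
    (fun x hx => (Subgroup.characteristic_iff_comap_eq.mp inferInstance (MulDistribMulAction.toMulAut A P a)).ge hx)
  have hf1 : ∀ q : Q, f 1 q = q := fun q => QuotientGroup.induction_on q fun z =>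
    congrArg (fun w => (QuotientGroup.mk w : Q)) (one_smul A z)
  have hfm : ∀ (a b : A) (q : Q), f (a * b) q = f a (f b q) := fun a b q => QuotientGroup.induction_on q fun z =>
    congrArg (fun w => (QuotientGroup.mk w : Q)) (mul_smul a b z)
  letI : DistribMulAction A (Additive Q) :=
    { smul := fun a x => Additive.ofMul (f a (Additive.toMul x))
      one_smul := fun x => congrArg Additive.ofMul (hf1 (Additive.toMul x))
      mul_smul := fun a b x => congrArg Additive.ofMul (hfm a b (Additive.toMul x))
      smul_zero := fun a => congrArg Additive.ofMul (map_one (f a))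
      smul_add := fun a x y => congrArg Additive.ofMul (map_mul (f a) (Additive.toMul x) (Additive.toMul y)) }
  have hsmul : ∀ (a : A) (z : P), a • Additive.ofMul (QuotientGroup.mk z : Q) = Additive.ofMul (QuotientGroup.mk (a • z) : Q) :=
    fun a z => rfl
  have hexp : ∀ x : Additive Q, p • x = 0 := fun x => Additive.toMul.injective
    (QuotientGroup.induction_on (Additive.toMul x) fun z => by
      show (QuotientGroup.mk z : Q) ^ p = 1
      rw [← QuotientGroup.mk_pow, QuotientGroup.eq_one_iff]
      exact pow_mem_frattini_pGroup hP z : (Additive.toMul x) ^ p = 1)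
  have hcr : ∀ U : AddSubgroup (Additive Q), (∀ a : A, ∀ x ∈ U, a • x ∈ U) →
      ∃ W : AddSubgroup (Additive Q), (∀ a : A, ∀ x ∈ W, a • x ∈ W) ∧ U ⊓ W = ⊥ ∧ U ⊔ W = ⊤ :=
    exists_complement p hexp hp
  obtain ⟨n, hn⟩ := IsPGroup.iff_card.mp (hP.to_quotient (frattini P))
  have hcard : Nat.card (Additive Q) = p ^ n := (Nat.card_congr Additive.toMul).trans hn
  obtain ⟨v, w, hvw⟩ : ∃ v w : Additive Q, ∀ a : A, a • v = v → a • w = w → ∀ x : Additive Q, a • x = x := by
    let G : Subgroup (Equiv.Perm (Additive Q)) := (MulAction.toPermHom A (Additive Q)).range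
    have hmem : ∀ g : G, ∃ a : A, ∀ x : Additive Q, (g : Equiv.Perm (Additive Q)) x = a • x := fun g => by
      obtain ⟨a, ha⟩ := g.2
      exact ⟨a, fun x => by rw [← ha]; rfl⟩
    letI : DistribMulAction G (Additive Q) :=
      { smul := fun g x => (g : Equiv.Perm (Additive Q)) x
        one_smul := fun x => rfl
        mul_smul := fun g h x => rfl
        smul_zero := fun g => by
          obtain ⟨a, ha⟩ := hmem g
          exact (ha 0).trans (smul_zero a)
        smul_add := fun g x y => by
          obtain ⟨a, ha⟩ := hmem g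
          show (g : Equiv.Perm (Additive Q)) (x + y) = (g : Equiv.Perm _) x + (g : Equiv.Perm _) y
          rw [ha, ha, ha, smul_add] }
    haveI : FaithfulSMul G (Additive Q) := ⟨fun h => Subtype.ext (Equiv.ext h)⟩
    have hdvd : Nat.card G ∣ Nat.card A :=
      Subgroup.card_dvd_of_surjective _ (MulAction.toPermHom A (Additive Q)).rangeRestrict_surjective
    haveI := hA
    have hsol : Group.IsSolvable G :=
      Group.isSolvable_of_surjective (MulAction.toPermHom A (Additive Q)).rangeRestrict_surjective
    have hcr' : ∀ U : AddSubgroup (Additive Q), (∀ g : G, ∀ x ∈ U, g • x ∈ U) →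
        ∃ W : AddSubgroup (Additive Q), (∀ g : G, ∀ x ∈ W, g • x ∈ W) ∧ U ⊓ W = ⊥ ∧ U ⊔ W = ⊤ := fun U hU => by
      obtain ⟨W, hW, h1, h2⟩ := hcr U fun a x hx => hU ⟨_, a, rfl⟩ x hx
      exact ⟨W, fun g x hx => by
        obtain ⟨a, ha⟩ := hmem g
        show (g : Equiv.Perm (Additive Q)) x ∈ W
        rw [ha]; exact hW a x hx, h1, h2⟩
    have hpair : ∃ v w : Additive Q, ∀ g : G, g • v = v → g • w = w → g = 1 := by
      rcases (Fact.out : p.Prime).eq_two_or_odd' with h2 | hodd
      · subst h2
        exact exists_two_vectors (Nat.not_even_iff_odd.mp fun h => hp ((even_iff_two_dvd.mp h).trans hdvd)) hcr'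
      · refine exists_two_vectors_coprime hsol ?_ (hcard ▸ hodd.pow) hcr'
        rw [hcard]
        exact (((Fact.out : p.Prime).coprime_iff_not_dvd.mpr fun h => hp (h.trans hdvd)).symm).pow_right n
    obtain ⟨v, w, hvw⟩ := hpair
    refine ⟨v, w, fun a h1 h2 x => ?_⟩
    have := hvw ⟨_, a, rfl⟩ h1 h2
    exact Equiv.congr_fun (congrArg Subtype.val this) x
  obtain ⟨x, hx⟩ := QuotientGroup.mk_surjective (Additive.toMul v)
  obtain ⟨y, hy⟩ := QuotientGroup.mk_surjective (Additive.toMul w)
  refine ⟨x, y, fun a hax hay z => ?_⟩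
  have hv : Additive.ofMul (QuotientGroup.mk x : Q) = v := congrArg Additive.ofMul hx
  have hw : Additive.ofMul (QuotientGroup.mk y : Q) = w := congrArg Additive.ofMul hy
  have h1 := hvw a (by rw [← hv, hsmul, hax]) (by rw [← hw, hsmul, hay])
  have hg : MulDistribMulAction.toMulAut A P a = 1 := by
    refine aut_trivial_of_mod_frattini hP ?_ fun t => congrArg Additive.toMul (h1 (Additive.ofMul (QuotientGroup.mk t : Q)))
    exact Nat.Coprime.coprime_dvd_left ((orderOf_map_dvd _ a).trans (orderOf_dvd_natCard a))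
      ((Fact.out : p.Prime).coprime_iff_not_dvd.mpr hp).symm
  exact DFunLike.congr_fun hg z

/-- Two points with trivial common stabilizer. -/
theorem coprime_pair {K : Type v} [Group K] [Finite K] [MulDistribMulAction A K] [FaithfulSMul A K]
    (hA : Group.IsSolvable A) (hcop : (Nat.card A).Coprime (Nat.card K)) :
    ∃ x y : K, ∀ a : A, a • x = x → a • y = y → a = 1 := by
  classical
  let ι := {p : ℕ // p ∈ (Nat.card K).primeFactors}
  haveI hprime : ∀ p : ι, Fact p.1.Prime := fun p => ⟨Nat.prime_of_mem_primeFactors p.2⟩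
  haveI := hA
  choose P hPp hPst hPidx hPfix using fun p : ι => exists_stable_sylow (A := A) (K := K) p.1 hcop
  letI hact : ∀ p : ι, MulDistribMulAction A (P p) := fun p =>
    { smul := fun a x => ⟨a • (x : K), hPst p a x x.2⟩
      one_smul := fun x => Subtype.ext (one_smul A (x : K))
      mul_smul := fun a b x => Subtype.ext (mul_smul a b (x : K))
      smul_one := fun a => Subtype.ext (smul_one a)
      smul_mul := fun a x y => Subtype.ext (smul_mul' a (x : K) (y : K)) }
  have hpA : ∀ p : ι, ¬ p.1 ∣ Nat.card A := fun p h => (hprime p).out.ne_one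
    (Nat.eq_one_of_dvd_coprimes hcop h (Nat.dvd_of_mem_primeFactors p.2))
  choose x y hxy using fun p : ι => pgroup_pair (A := A) (P := P p) hA (hPp p) (hpA p)
  let Y := ((p : ι) → P p) × ((p : ι) → P p)
  let X := K × K
  haveI : ∀ p : ι, Finite (P p) := fun p => inferInstance
  have hstab : MulAction.stabilizer A ((x, y) : Y) = ⊥ := by
    rw [eq_bot_iff]
    intro a ha
    have ha' : a • ((x, y) : Y) = (x, y) := ha
    let D : Subgroup K :=
      { carrier := {z | a • z = z}
        one_mem' := smul_one a
        mul_mem' := fun {s t} hs ht => by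
          show a • (s * t) = s * t
          rw [smul_mul', show a • s = s from hs, show a • t = t from ht]
        inv_mem' := fun {s} hs => by
          show a • s⁻¹ = s⁻¹
          rw [smul_inv', show a • s = s from hs] }
    have hle : ∀ p : ι, P p ≤ D := fun p z hz => congrArg Subtype.val
      (hxy p a (congrFun (congrArg Prod.fst ha') p) (congrFun (congrArg Prod.snd ha') p) ⟨z, hz⟩)
    have htop : D = ⊤ := by
      refine Subgroup.index_eq_one.mp (Nat.eq_one_iff_not_exists_prime_dvd.mpr fun p hp hd => ?_)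
      have hpK : p ∣ Nat.card K := hd.trans D.index_dvd_card
      exact hPidx ⟨p, Nat.mem_primeFactors.mpr ⟨hp, hpK, Nat.card_pos.ne'⟩⟩ (hd.trans (Subgroup.index_dvd_of_le (hle _)))
    exact Subgroup.mem_bot.mpr (eq_of_smul_eq_smul fun z : K => by
      rw [one_smul]; exact (htop.ge (Subgroup.mem_top z) : z ∈ D))
  suffices hcount : ∀ B : Subgroup A,
      Nat.card {z : X // ∀ b ∈ B, b • z = z} = Nat.card {z : Y // ∀ b ∈ B, b • z = z} by
    obtain ⟨⟨s, t⟩, hst⟩ := exists_free_transfer (X := X) (Y := Y) hcount hstab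
    refine ⟨s, t, fun a hs ht => ?_⟩
    have : a ∈ MulAction.stabilizer A ((s, t) : X) := Prod.ext hs ht
    rwa [hst, Subgroup.mem_bot] at this
  intro B
  have hsq : ∀ (W : Type v) [MulAction A W], Nat.card {z : W × W // ∀ b ∈ B, b • z = z} =
      Nat.card {z : W // ∀ b ∈ B, b • z = z} * Nat.card {z : W // ∀ b ∈ B, b • z = z} := fun W _ => by
    rw [← Nat.card_prod]
    exact Nat.card_congr
      { toFun := fun z => (⟨z.1.1, fun b hb => congrArg Prod.fst (z.2 b hb)⟩,
          ⟨z.1.2, fun b hb => congrArg Prod.snd (z.2 b hb)⟩)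
        invFun := fun z => ⟨(z.1.1, z.2.1), fun b hb => Prod.ext (z.1.2 b hb) (z.2.2 b hb)⟩
        left_inv := fun z => rfl
        right_inv := fun z => rfl }
  rw [hsq K, hsq ((p : ι) → P p)]
  suffices h : Nat.card {z : K // ∀ b ∈ B, b • z = z} = Nat.card {z : (p : ι) → P p // ∀ b ∈ B, b • z = z} by rw [h]
  have hpi : Nat.card {z : (p : ι) → P p // ∀ b ∈ B, b • z = z} =
      ∏ p : ι, p.1 ^ (Nat.card (fixes (K := K) B)).factorization p.1 := by
    rw [Nat.card_congr (β := (p : ι) → (P p ⊓ fixes B : Subgroup K))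
      { toFun := fun z p => ⟨(z.1 p : K), (z.1 p).2, fun b hb => congrArg Subtype.val (congrFun (z.2 b hb) p)⟩
        invFun := fun z => ⟨fun p => ⟨(z p : K), (z p).2.1⟩, fun b hb => funext fun p => Subtype.ext ((z p).2.2 b hb)⟩
        left_inv := fun z => rfl
        right_inv := fun z => rfl },
      Nat.card_pi]
    exact Finset.prod_congr rfl fun p _ => hPfix p B
  rw [hpi, Finset.prod_coe_sort (Nat.card K).primeFactors fun p => p ^ (Nat.card (fixes (K := K) B)).factorization p]
  have hsub : (Nat.card (fixes (K := K) B)).factorization.support ⊆ (Nat.card K).primeFactors := by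
    rw [Nat.support_factorization]
    exact Nat.primeFactors_mono (Subgroup.card_subgroup_dvd_card _) Nat.card_pos.ne'
  rw [← Finsupp.prod_of_support_subset _ hsub (fun p k => p ^ k) (fun p _ => pow_zero p),
    Nat.prod_factorization_pow_eq_self Nat.card_pos.ne']
  rfl


end CfsgLib.BaseTwo
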