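import Cfsg.Agent.Lib.BaseTwo.Four

/-!
A vector of the eigenspace whose stabilizer, together with that of the line vector, is linear and fixes the
translates by the centralizer of the line stabilizer.
-/

set_option autoImplicit false

namespace CfsgLib.BaseTwo

open Subgroup CfsgLib.OddBase CfsgLib.BaseThree
open scoped commutatorElement

universe u

variable {A V : Type u} [Group A] [Finite A] [AddCommGroup V] [Finite V] [DistribMulAction A V]
  {Z F L₀ : Subgroup A} {hf : Frame A V Z F L₀} {u : V}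

theorem LS_eq_of_mem (hu : MaxLine hf u) {w : V} (hw : w ∈ Eig hf u) (hw0 : w ≠ 0) :
    LS hf w = LS hf u ∧ MaxLine hf w := by
  have hle : LS hf u ≤ LS hf w := fun l hl => by
    obtain ⟨hlF, r, hr, hr0, el⟩ := hl
    exact ⟨hlF, r, hr, hr0, hw l ⟨hlF, r, hr, hr0, el⟩ r hr el⟩
  have heq := (Subgroup.eq_of_le_of_card_ge hle (hu.2 w hw0)).symm
  exact ⟨heq, hw0, fun v hv => (hu.2 v hv).trans (le_of_eq (by rw [heq]))⟩

/-- The four-group in normal form with respect to a suitable line vector. -/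
theorem exists_base (hu : MaxLine hf u) {a b : A} (h4 : FourGroup hf u a b) :
    ∃ u' : V, MaxLine hf u' ∧ FourGroup hf u' a b ∧
      ∃ γ β : Sc V Z, b • u' = γ.1 u' + β.1 (a • u') := by
  classical
  letI : Field (Sc V Z) := hf.base.field.toField
  haveI : Fintype (Sc V Z) := Fintype.ofFinite _
  have hab : ⁅b, a⁆ ≠ 1 := fun h => h4.ne (by rw [← commutatorElement_inv, h, inv_one])
  have hzab : ⁅b, a⁆ ∈ Z := hf.comm b h4.right.1 a h4.left.1
  let ζ : Sc V Z := ⟨rho ⁅b, a⁆, rho_mem hzab⟩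
  have hζ2 : ζ * ζ = 1 := Subtype.ext (show rho ⁅b, a⁆ * rho ⁅b, a⁆ = 1 by
    rw [← map_mul, ← sq, ← commutatorElement_inv, inv_pow, h4.sq_one, inv_one, map_one])
  have hneg : ζ = -1 := (mul_self_eq_one_iff.mp hζ2).resolve_left fun h =>
    hab (hf.base.rho_inj ((congrArg Subtype.val h).trans (map_one rho).symm))
  have h2 : (-1 : Sc V Z) ≠ 1 := fun h =>
    hab (hf.base.rho_inj ((congrArg Subtype.val (hneg.trans h)).trans (map_one rho).symm))
  have hcard : Fintype.card (Sc V Z) % 2 = 1 := by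
    by_contra hev
    have hch : ringChar (Sc V Z) = 2 := FiniteField.even_card_iff_char_two.mpr (by omega)
    haveI := ringChar.of_eq hch
    exact h2 (CharTwo.neg_eq (1 : Sc V Z))
  obtain ⟨ka, hka0, hka⟩ := exists_scalar hf h4.sq_left
  obtain ⟨kb, hkb0, hkb⟩ := exists_scalar hf h4.sq_right
  obtain ⟨α, β, hαβ⟩ := FiniteField.exists_root_sum_quadratic (R := Sc V Z)
    (f := Polynomial.X ^ 2 - Polynomial.C kb) (g := Polynomial.C (-ka) * Polynomial.X ^ 2)
    (Polynomial.degree_X_pow_sub_C two_pos kb) (Polynomial.degree_C_mul_X_pow 2 (neg_ne_zero.mpr hka0)) hcard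
  simp only [Polynomial.eval_sub, Polynomial.eval_pow, Polynomial.eval_X, Polynomial.eval_C,
    Polynomial.eval_mul] at hαβ
  have hαβ' : α * α = kb + ka * (β * β) := by linear_combination hαβ
  have hA := hf.cent h4.left.1
  have hB := hf.cent h4.right.1
  let T : V → V := fun v => b • v - β.1 (a • v)
  have hTE : ∀ v ∈ Eig hf u, T v ∈ Eig hf u := fun v hv =>
    sub_mem (smul_mem_Eig h4.right hv) (scalar_mem_Eig (smul_mem_Eig h4.left hv) β.2)
  have hTT : T (T u) = (kb + ka * (β * β)).1 u := by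
    have e1 : b • a • u = -(a • b • u) := by
      have e0 : b • a • u = ⁅b, a⁆ • a • b • u := by
        rw [← mul_smul, ← mul_smul, ← mul_smul]
        congr 1
        simp [commutatorElement_def, mul_assoc]
      rw [e0]
      show ζ.1 (a • b • u) = _
      rw [hneg]
      rfl
    show b • (b • u - β.1 (a • u)) - β.1 (a • (b • u - β.1 (a • u))) = _
    rw [smul_sub, smul_sub, map_sub, linear_of_mem hB β.2, linear_of_mem hA β.2, e1, map_neg, ← mul_smul b b,
      ← mul_smul a a, ← sq, ← sq, hkb, hka]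
    show kb.1 u - -β.1 (a • b • u) - (β.1 (a • b • u) - β.1 (β.1 (ka.1 u))) = kb.1 u + ka.1 (β.1 (β.1 u))
    rw [scalar_comm hf.base ka.2 β.2 (β.1 u), scalar_comm hf.base ka.2 β.2 u]
    abel
  obtain ⟨u', γ, hu'E, hu'0, hT⟩ : ∃ (u' : V) (γ : Sc V Z), u' ∈ Eig hf u ∧ u' ≠ 0 ∧ T u' = γ.1 u' := by
    by_cases h0 : T u = α.1 u
    · exact ⟨u, α, self_mem_Eig, hu.1, h0⟩
    refine ⟨T u - α.1 u, -α, sub_mem (hTE u self_mem_Eig) (scalar_mem_Eig self_mem_Eig α.2), sub_ne_zero.mpr h0, ?_⟩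
    have hlin : ∀ x y : V, T (x - y) = T x - T y := fun x y => by
      show b • (x - y) - β.1 (a • (x - y)) = (b • x - β.1 (a • x)) - (b • y - β.1 (a • y))
      rw [smul_sub, smul_sub, map_sub β.1 (a • x) (a • y)]
      abel
    have hα : T (α.1 u) = α.1 (T u) := by
      show b • α.1 u - β.1 (a • α.1 u) = α.1 (b • u - β.1 (a • u))
      rw [map_sub α.1 (b • u) (β.1 (a • u)), linear_of_mem hB α.2, linear_of_mem hA α.2,
        scalar_comm hf.base β.2 α.2]
    rw [hlin, hα, hTT, ← hαβ']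
    show α.1 (α.1 u) - α.1 (T u) = -(α.1 (T u - α.1 u))
    rw [map_sub α.1 (T u) (α.1 u), neg_sub]
  obtain ⟨hLS, hmax⟩ := LS_eq_of_mem hu hu'E hu'0
  have hF : F₀ hf u' = F₀ hf u := by rw [F₀, F₀, hLS]
  refine ⟨u', hmax, ⟨hF.symm ▸ h4.left, hF.symm ▸ h4.right, hLS.symm ▸ h4.sq_left, hLS.symm ▸ h4.sq_right, h4.ne,
    h4.sq_one, ?_⟩, γ, β, ?_⟩
  · rw [hF, hLS]; exact h4.span
  · rw [← hT]; exact (sub_add_cancel (b • u') _).symm

/-- The conjugation by an element on the scalars. -/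
noncomputable def scalarHom (h : Setup A V Z) (g : A) : Sc V Z →+* Sc V Z where
  toFun r := ⟨rho g * r.1 * rho g⁻¹, (invRing_genRing (V := V) (hn := h.normal) h.comm).inv g r.1 r.2⟩
  map_one' := Subtype.ext (show rho g * 1 * rho g⁻¹ = 1 by rw [mul_one, ← map_mul, mul_inv_cancel, map_one])
  map_mul' r s := Subtype.ext (conj_mul g r.1 s.1).symm
  map_zero' := Subtype.ext (show rho g * 0 * rho g⁻¹ = 0 by rw [mul_zero, zero_mul])
  map_add' r s := Subtype.ext (show rho g * (r.1 + s.1) * rho g⁻¹ = rho g * r.1 * rho g⁻¹ + rho g * s.1 * rho g⁻¹ by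
    rw [mul_add, add_mul])

/-- The conjugation by an element as an automorphism of the scalars. -/
noncomputable def scalarAut (h : Setup A V Z) (g : A) : Sc V Z ≃+* Sc V Z :=
  RingEquiv.ofBijective (scalarHom h g) (Finite.injective_iff_bijective.mp
    ((injective_iff_map_eq_zero (scalarHom h g)).mpr fun r e =>
      Subtype.ext (conj_eq_zero (a := g) (congrArg Subtype.val e))))

omit [Finite A] in
theorem smul_scalar (h : Setup A V Z) (g : A) (r : Sc V Z) (x : V) : g • r.1 x = (scalarAut h g r).1 (g • x) := by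
  show g • r.1 x = g • r.1 (g⁻¹ • g • x)
  rw [inv_smul_smul]

/-- A scalar avoiding two Galois translates of given ratios. -/
theorem exists_avoid (h : Setup A V Z) (h2 : (-1 : Sc V Z) ≠ 1) (z c₁ c₂ : Sc V Z) :
    ∃ d : Sc V Z, d ≠ 0 ∧ ∀ σ : Sc V Z ≃+* Sc V Z, d ≠ (z - σ z) * c₁ ∧ d ≠ (z - σ z) * c₂ := by
  classical
  letI : Field (Sc V Z) := h.field.toField
  haveI : Fintype (Sc V Z) := Fintype.ofFinite _
  obtain ⟨p, hchar⟩ := CharP.exists (Sc V Z)
  haveI := hchar
  haveI hp : Fact p.Prime := ⟨CharP.char_is_prime (Sc V Z) p⟩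
  letI := ZMod.algebra (Sc V Z) p
  set f := Module.finrank (ZMod p) (Sc V Z) with hfdef
  have hq : Fintype.card (Sc V Z) = p ^ f := by
    rw [Module.card_eq_pow_finrank (K := ZMod p) (V := Sc V Z), ZMod.card]
  let W : ((Sc V Z) ≃ₐ[ZMod p] (Sc V Z)) ⊕ ((Sc V Z) ≃ₐ[ZMod p] (Sc V Z)) → Sc V Z :=
    Sum.elim (fun σ => (z - σ z) * c₁) (fun σ => (z - σ z) * c₂)
  have hcard : (Finset.univ.image W).card < Fintype.card (Sc V Z) := by
    refine lt_of_le_of_lt Finset.card_image_le ?_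
    rw [Finset.card_univ, Fintype.card_sum, hq]
    have h1 : Fintype.card ((Sc V Z) ≃ₐ[ZMod p] (Sc V Z)) ≤ f := AlgEquiv.card_le
    have hp2 : p ≠ 2 := fun e => by subst e; exact h2 (CharTwo.neg_eq (1 : Sc V Z))
    have hp3 : 3 ≤ p := lt_of_le_of_ne hp.out.two_le (Ne.symm hp2)
    have h3 : f + f < 3 ^ f := by
      clear h1 hq
      clear_value f
      clear hfdef
      induction f with
      | zero => simp
      | succ n ih => rw [pow_succ]; omega
    have := Nat.pow_le_pow_left hp3 f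
    omega
  obtain ⟨d, -, hd⟩ := Finset.exists_mem_notMem_of_card_lt_card (s := Finset.univ.image W) (t := Finset.univ)
    (by rwa [Finset.card_univ])
  have hd' : ∀ σ : (Sc V Z) ≃ₐ[ZMod p] (Sc V Z), d ≠ (z - σ z) * c₁ ∧ d ≠ (z - σ z) * c₂ := fun σ =>
    ⟨fun e => hd (Finset.mem_image.mpr ⟨Sum.inl σ, Finset.mem_univ _, e.symm⟩),
      fun e => hd (Finset.mem_image.mpr ⟨Sum.inr σ, Finset.mem_univ _, e.symm⟩)⟩
  refine ⟨d, fun e => (hd' AlgEquiv.refl).1 (by rw [e]; simp), fun σ => ?_⟩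
  exact hd' (AlgEquiv.ofRingEquiv (f := σ) fun x => RingHom.congr_fun (Subsingleton.elim
    ((σ : Sc V Z →+* Sc V Z).comp (algebraMap (ZMod p) (Sc V Z))) (algebraMap (ZMod p) (Sc V Z))) x)

/-- The anchor: two vectors in the eigenspace force linearity and fix the translates. -/
theorem exists_anchor (hf : Frame A V Z F L₀) {v : V} (hv : v ≠ 0) :
    ∃ u, MaxLine hf u ∧ ∃ w ∈ Eig hf u, ∀ g : A, g • u = u → g • w = w →
      g ∈ centralizer (Z : Set A) ∧ ∀ x ∈ F₀ hf u, g • x • u = x • u := by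
  classical
  obtain ⟨z₀, hz₀, hgz⟩ := exists_gen hf.base
  obtain ⟨u₀, hu₀⟩ := exists_maxLine hf hv
  have hlinear : ∀ (u : V), u ≠ 0 → ∀ g : A, g • u = u → (g * z₀ * g⁻¹) • u = z₀ • u →
      g ∈ centralizer (Z : Set A) ∧ ∀ l ∈ LS hf u, g • l • u = l • u := by
    intro u hu0 g hg e
    have hC : g ∈ centralizer (Z : Set A) := by
      refine mem_cent_of_gen hgz ?_
      by_contra hne
      refine hu0 (hf.base.fx_center (Z.mul_mem (Z.inv_mem hz₀) (hf.base.normal.conj_mem _ hz₀ g))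
        (fun e1 => hne (inv_mul_eq_one.mp e1).symm) ?_)
      rw [mul_smul, e, inv_smul_smul]
    refine ⟨hC, fun l hl => ?_⟩
    obtain ⟨-, r, hr, -, el⟩ := hl
    rw [el, linear_of_mem hC hr, hg]
  rcases four_or_eq hu₀ with heq | ⟨a, b, h4⟩
  · refine ⟨u₀, hu₀, z₀ • u₀, scalar_mem_Eig self_mem_Eig (rho_mem hz₀), fun g hg hw => ?_⟩
    have := hlinear u₀ hu₀.1 g hg (by
      rw [mul_smul, mul_smul, show g⁻¹ • u₀ = u₀ by rw [inv_smul_eq_iff, hg], hw])
    exact ⟨this.1, fun x hx => this.2 x (heq.le hx)⟩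
  obtain ⟨u, hu, h4, γ, β, hb⟩ := exists_base hu₀ h4
  letI : Field (Sc V Z) := hf.base.field.toField
  have hA := hf.cent h4.left.1
  have haL : a ∉ LS hf u := fun h => h4.ne ((comm_eq_one_iff a b).mpr (Subgroup.mem_centralizer_iff.mp h4.right.2 a h))
  have hbL : b ∉ LS hf u := fun h =>
    h4.ne ((comm_eq_one_iff a b).mpr (Subgroup.mem_centralizer_iff.mp h4.left.2 b h).symm)
  have hau : a • u ∈ Eig hf u := smul_mem_Eig h4.left self_mem_Eig
  have hind : ∀ r s : Sc V Z, r.1 u + s.1 (a • u) = 0 → r = 0 ∧ s = 0 := fun r s e => by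
    have hs : s = 0 := by
      by_contra hs
      refine haL (no_eigen hu h4.left.1 self_mem_Eig hu.1 (-(s⁻¹ * r) : Sc V Z).2 ?_)
      have e2 : s.1 (a • u) = -(r.1 u) := eq_neg_of_add_eq_zero_right e
      calc a • u = (s⁻¹ * s : Sc V Z).1 (a • u) := by rw [inv_mul_cancel₀ hs]; rfl
        _ = (s⁻¹ : Sc V Z).1 (s.1 (a • u)) := rfl
        _ = _ := by rw [e2, map_neg]; rfl
    subst hs
    refine ⟨Subtype.ext (by_contra fun h => hu.1 (hf.base.eq_zero r.2 h ?_)), rfl⟩
    simpa using e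
  have hβ : β ≠ 0 := fun h => hbL (no_eigen hu h4.right.1 self_mem_Eig hu.1 γ.2 (by rw [hb, h]; simp))
  obtain ⟨α, hα0, hα⟩ := exists_scalar hf h4.sq_left
  have hγ : γ ≠ 0 := fun h => by
    -- otherwise the product has an eigenvector
    have e : (a⁻¹ * b) • u = β.1 u := by
      rw [mul_smul, hb, h]
      simp only [ZeroMemClass.coe_zero, AddMonoid.End.zero_apply, zero_add]
      rw [linear_of_mem (Subgroup.inv_mem _ hA) β.2, inv_smul_smul]
    have hm := no_eigen hu (F.mul_mem (F.inv_mem h4.left.1) h4.right.1) self_mem_Eig hu.1 β.2 e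
    refine h4.ne ?_
    have h1 := Subgroup.mem_centralizer_iff.mp h4.left.2 _ hm
    rw [comm_eq_one_iff]
    calc a * b = a * ((a * (a⁻¹ * b))) := by rw [mul_inv_cancel_left]
      _ = a * ((a⁻¹ * b) * a) := by rw [h1]
      _ = b * a := by simp [mul_assoc]
  have hab : (a * b) • u = (β * α).1 u + γ.1 (a • u) := by
    rw [mul_smul, hb, smul_add, linear_of_mem hA γ.2, linear_of_mem hA β.2, ← mul_smul a a, ← sq, hα, add_comm]
    rfl
  have hneg : (-1 : Sc V Z) ≠ 1 := fun h => by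
    let ζ : Sc V Z := ⟨rho ⁅a, b⁆, rho_mem (hf.comm a h4.left.1 b h4.right.1)⟩
    have hζ2 : ζ * ζ = 1 := Subtype.ext (show rho ⁅a, b⁆ * rho ⁅a, b⁆ = 1 by
      rw [← map_mul, ← sq, h4.sq_one, map_one])
    exact h4.ne (hf.base.rho_inj ((congrArg Subtype.val
      ((mul_self_eq_one_iff.mp hζ2).elim id fun e => e.trans h : ζ = 1)).trans (map_one rho).symm))
  let z : Sc V Z := ⟨rho z₀, rho_mem hz₀⟩
  obtain ⟨d, hd0, hd⟩ := exists_avoid hf.base hneg z (β / γ) (γ / (β * α))
  refine ⟨u, hu, z.1 u + d.1 (a • u), add_mem (scalar_mem_Eig self_mem_Eig z.2) (scalar_mem_Eig hau d.2),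
    fun g hg hw => ?_⟩
  set σ := scalarAut hf.base g with hσ
  have hx' : g * a * g⁻¹ ∈ F₀ hf u := conj_mem_F₀ hg h4.left
  have hgau : g • a • u = (g * a * g⁻¹) • u := by
    rw [mul_smul, mul_smul, show g⁻¹ • u = u by rw [inv_smul_eq_iff, hg]]
  have hw' : (σ z).1 u + (σ d).1 ((g * a * g⁻¹) • u) = z.1 u + d.1 (a • u) := by
    rwa [smul_add, smul_scalar hf.base g z, smul_scalar hf.base g d, hg, hgau, ← hσ] at hw
  have hcoef : ∀ r s : Sc V Z, (σ d).1 ((g * a * g⁻¹) • u) = r.1 u + s.1 (a • u) → σ z + r = z ∧ s = d := fun r s e => by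
    rw [e] at hw'
    have h1 : (σ z + r - z).1 u + (s - d).1 (a • u) = 0 := by
      show ((σ z).1 u + r.1 u - z.1 u) + (s.1 (a • u) - d.1 (a • u)) = 0
      rw [show (σ z).1 u + r.1 u - z.1 u + (s.1 (a • u) - d.1 (a • u))
        = ((σ z).1 u + (r.1 u + s.1 (a • u))) - (z.1 u + d.1 (a • u)) by abel, hw', sub_self]
    exact ⟨sub_eq_zero.mp (hind _ _ h1).1, sub_eq_zero.mp (hind _ _ h1).2⟩
  obtain ⟨l, hl, hx⟩ := h4.span _ hx'
  obtain ⟨μ, hμ0, hμ⟩ := exists_scalar hf hl
  have hL := hf.cent hl.1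
  rcases hx with hx | hx | hx | hx
  · exfalso
    refine haL ?_
    have := conj_mem_LS (hf := hf) (a := g⁻¹) (by rw [inv_smul_eq_iff, hg]) (x := g * a * g⁻¹) (hx ▸ hl)
    simpa [mul_assoc] using this
  · have e : (σ d).1 ((g * a * g⁻¹) • u) = (0 : Sc V Z).1 u + (σ d * μ).1 (a • u) := by
      rw [hx, Subgroup.mem_centralizer_iff.mp h4.left.2 l hl, mul_smul, hμ, linear_of_mem hA μ.2]
      simp
    obtain ⟨h1, h2⟩ := hcoef _ _ e
    rw [add_zero] at h1
    have hC := hlinear u hu.1 g hg (by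
      show (g * z₀ * g⁻¹) • u = z.1 u
      rw [mul_smul, mul_smul, show g⁻¹ • u = u by rw [inv_smul_eq_iff, hg]]
      show g • z.1 u = z.1 u
      rw [smul_scalar hf.base g z, hg, ← hσ, h1])
    refine ⟨hC.1, ?_⟩
    have hga : g • a • u = a • u := by
      have hμ1 : μ = 1 := by
        have hσd : σ d = d := Subtype.ext (DFunLike.ext _ _ fun x => by
          show g • d.1 (g⁻¹ • x) = d.1 x
          rw [linear_of_mem hC.1 d.2, smul_inv_smul])
        rw [hσd] at h2
        exact (mul_eq_left₀ hd0).mp h2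
      rw [hgau, hx, Subgroup.mem_centralizer_iff.mp h4.left.2 l hl, mul_smul, hμ, hμ1]
      rfl
    intro x hx0
    obtain ⟨m, hm, hx1⟩ := h4.span x hx0
    obtain ⟨ν, -, hν⟩ := exists_scalar hf hm
    have hM := hf.cent hm.1
    have hgb : g • b • u = b • u := by
      rw [hb, smul_add, linear_of_mem hC.1 γ.2, linear_of_mem hC.1 β.2, hg, hga]
    have hgab : g • (a * b) • u = (a * b) • u := by
      rw [hab, smul_add, linear_of_mem hC.1 (β * α).2, linear_of_mem hC.1 γ.2, hg, hga]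
    have hkey : ∀ y ∈ F₀ hf u, g • y • u = y • u → g • (m * y) • u = (m * y) • u := fun y hy e => by
      rw [Subgroup.mem_centralizer_iff.mp hy.2 m hm, mul_smul, hν, linear_of_mem (hf.cent hy.1) ν.2,
        linear_of_mem hC.1 ν.2, e]
    rcases hx1 with rfl | rfl | rfl | rfl
    · exact hC.2 x hm
    · exact hkey a h4.left hga
    · exact hkey b h4.right hgb
    · exact hkey _ (mul_mem h4.left h4.right) hgab
  · exfalso
    have e : (σ d).1 ((g * a * g⁻¹) • u) = (σ d * μ * γ).1 u + (σ d * μ * β).1 (a • u) := by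
      rw [hx, Subgroup.mem_centralizer_iff.mp h4.right.2 l hl, mul_smul, hμ, linear_of_mem (hf.cent h4.right.1) μ.2, hb,
        map_add, map_add]
      rfl
    obtain ⟨h1, h2⟩ := hcoef _ _ e
    refine (hd σ).1 ?_
    rw [show z - σ z = σ d * μ * γ by linear_combination -h1]
    field_simp
    linear_combination -h2
  · exfalso
    have e : (σ d).1 ((g * a * g⁻¹) • u) = (σ d * μ * (β * α)).1 u + (σ d * μ * γ).1 (a • u) := by
      rw [hx, Subgroup.mem_centralizer_iff.mp (mul_mem h4.left h4.right : a * b ∈ F₀ hf u).2 l hl, mul_smul, hμ,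
        linear_of_mem (hf.cent (F.mul_mem h4.left.1 h4.right.1)) μ.2, hab, map_add, map_add]
      rfl
    obtain ⟨h1, h2⟩ := hcoef _ _ e
    refine (hd σ).2 ?_
    rw [show z - σ z = σ d * μ * (β * α) by linear_combination -h1]
    field_simp
    linear_combination -h2

end CfsgLib.BaseTwo
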