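import Cfsg.Agent.Lib.BaseTwo.Symp

/-!
Base vectors of a tensor frame for the three kinds of last pairs.
-/

set_option autoImplicit false

namespace CfsgLib.BaseTwo

open Subgroup CfsgLib.OddBase CfsgLib.BaseThree
open scoped commutatorElement

universe u

variable {A V : Type u} [Group A] [Finite A] [AddCommGroup V] [Finite V] [DistribMulAction A V]
  {Z F L : Subgroup A} {hf : Frame A V Z F L} {m : A} {k : ℕ} {X W : ℕ → A} {i j : A}

theorem Sect.anti (hs : Sect hf m) (hm : ∀ v : V, m • v = -v) {x y : A} (hx : x ∈ F) (hy : y ∈ F) (hxy : ⁅x, y⁆ ≠ 1)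
    (v : V) : x • y • v = -(y • x • v) := by
  have e : x * y = m * (y * x) := by
    rw [← (hs.comm_values hx hy).resolve_left hxy]; simp [commutatorElement_def, mul_assoc]
  rw [← mul_smul, e, mul_smul, hm, mul_smul]

theorem exists_fixed (hs : Sect hf m) (hm : ∀ v : V, m • v = -v) (P : Pairs F Z k X W i j) {v₀ : V} (hv₀ : v₀ ≠ 0) :
    ∀ n, n ≤ k → ∃ w : V, w ≠ 0 ∧ ∀ t, t < n → W t • w = w
  | 0, _ => ⟨v₀, hv₀, fun t ht => absurd ht (by omega)⟩
  | n + 1, hn => by
    obtain ⟨w, hw, hfix⟩ := exists_fixed hs hm P hv₀ n (by omega)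
    have hnk : n < k := by omega
    have hsq : ∀ v : V, W n • W n • v = v := fun v => by rw [← mul_smul, ← pow_two, P.sq_W n hnk, one_smul]
    by_cases h : w + W n • w = 0
    · refine ⟨X n • w, fun e => hw (smul_left_cancel (X n) (by rw [smul_zero]; exact e)), fun t ht => ?_⟩
      have hneg : W n • w = -w := eq_neg_of_add_eq_zero_right h
      rcases Nat.lt_succ_iff_lt_or_eq.mp ht with h1 | h1
      · rw [← mul_smul, ← P.comm_XW n t hnk (by omega) (by omega), mul_smul, hfix t h1]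
      · subst h1
        rw [hs.anti hm (P.mem_W t hnk) (P.mem_X t hnk) (P.ne_XW t hnk), hneg, smul_neg, neg_neg]
    · refine ⟨w + W n • w, h, fun t ht => ?_⟩
      rcases Nat.lt_succ_iff_lt_or_eq.mp ht with h1 | h1
      · rw [smul_add, ← mul_smul, P.comm_WW t n (by omega) hnk, mul_smul, hfix t h1]
      · subst h1
        rw [smul_add, hsq, add_comm]

/-- The vectors fixed by all the second involutions. -/
def FixW (k : ℕ) (W : ℕ → A) (w : V) : Prop := ∀ t, t < k → W t • w = w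

theorem FixW.add {w w' : V} (h : FixW k W w) (h' : FixW k W w') : FixW k W (w + w') := fun t ht => by
  rw [smul_add, h t ht, h' t ht]

theorem FixW.map_i (P : Pairs F Z k X W i j) {w : V} (h : FixW k W w) : FixW k W (i • w) := fun t ht => by
  rw [← mul_smul, ← (P.comm_i t ht).2, mul_smul, h t ht]

theorem FixW.map_j (P : Pairs F Z k X W i j) {w : V} (h : FixW k W w) : FixW k W (j • w) := fun t ht => by
  rw [← mul_smul, ← (P.comm_j t ht).2, mul_smul, h t ht]

/-- Generators from pairs, base vectors and the images of the base vectors. -/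
theorem gens_of_pairs (hs : Sect hf m) (hm : ∀ v : V, m • v = -v) (P : Pairs F Z k X W i j) {b₀ b₁ : V}
    (h₀ : FixW k W b₀) (h₁ : FixW k W b₁) (ms : Fin 4 → ℕ → Sc V Z)
    (hl₀ : ∀ c, leafE i j c • b₀ = (ms c 0).1 b₀ + (ms c 2).1 b₁)
    (hl₁ : ∀ c, leafE i j c • b₁ = (ms c 1).1 b₀ + (ms c 3).1 b₁)
    (hind : ∀ r s : Sc V Z, r.1 b₀ + s.1 b₁ = 0 → r = 0 ∧ s = 0) :
    Gens hf k (leafE i j) ms X W b₀ b₁ where
  mem_ce c := by
    fin_cases c
    · exact one_mem F
    · exact P.mem_i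
    · exact P.mem_j
    · exact F.mul_mem P.mem_i P.mem_j
  mem_X := P.mem_X
  mem_W := P.mem_W
  sq_X t ht := by rw [← pow_two, P.sq_X t ht]
  comm_XX := P.comm_XX
  comm_XW := P.comm_XW
  comm_WW := P.comm_WW
  comm_cX c t ht := by
    fin_cases c
    · exact (Commute.one_left (X t)).eq
    · exact (P.comm_i t ht).1
    · exact (P.comm_j t ht).1
    · exact (Commute.mul_left (P.comm_i t ht).1 (P.comm_j t ht).1).eq
  comm_cW c t ht := by
    fin_cases c
    · exact (Commute.one_left (W t)).eq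
    · exact (P.comm_i t ht).2
    · exact (P.comm_j t ht).2
    · exact (Commute.mul_left (P.comm_i t ht).2 (P.comm_j t ht).2).eq
  anti t ht v := hs.anti hm (P.mem_W t ht) (P.mem_X t ht) (P.ne_XW t ht) v
  fix₀ := h₀
  fix₁ := h₁
  leaf₀ := hl₀
  leaf₁ := hl₁
  indep := hind

theorem cancel (h : Setup A V Z) {c : Sc V Z} (hc : c ≠ 0) {x : V} (hx : c.1 x = 0) : x = 0 :=
  h.eq_zero c.2 (fun e => hc (Subtype.ext e)) hx

theorem cancel' (h : Setup A V Z) {x : V} (hx : x ≠ 0) {c : Sc V Z} (e : c.1 x = 0) : c = 0 :=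
  by_contra fun hc => hx (cancel h hc e)

/-- Two anticommuting involutions. -/
theorem base_plus (hs : Sect hf m) (hm : ∀ v : V, m • v = -v) (P : Pairs F Z k X W i j) (h2 : (2 : Sc V Z) ≠ 0)
    (hi2 : ∀ v : V, i • i • v = v) (hj2 : ∀ v : V, j • j • v = v) {v₀ : V} (hv₀ : v₀ ≠ 0) :
    ∃ b₀ b₁ : V, FixW k W b₀ ∧ FixW k W b₁ ∧ i • b₀ = b₁ ∧ i • b₁ = b₀ ∧ j • b₀ = b₀ ∧ j • b₁ = -b₁ ∧
      ∀ r s : Sc V Z, r.1 b₀ + s.1 b₁ = 0 → r = 0 ∧ s = 0 := by
  obtain ⟨w, hw, hfix⟩ := exists_fixed hs hm P hv₀ k le_rfl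
  have hanti := hs.anti hm P.mem_i P.mem_j P.ne
  obtain ⟨b, hb, hbf, hjb⟩ : ∃ b : V, b ≠ 0 ∧ FixW k W b ∧ j • b = b := by
    by_cases h : w + j • w = 0
    · refine ⟨i • w, fun e => hw (smul_left_cancel i (by rw [smul_zero]; exact e)), FixW.map_i P hfix, ?_⟩
      rw [← neg_neg (j • i • w), ← hanti, eq_neg_of_add_eq_zero_right h, smul_neg, neg_neg]
    · exact ⟨_, h, FixW.add hfix (FixW.map_j P hfix), by rw [smul_add, hj2, add_comm]⟩
  have hjb1 : j • i • b = -(i • b) := by rw [← neg_neg (j • i • b), ← hanti, hjb]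
  refine ⟨b, i • b, hbf, FixW.map_i P hbf, rfl, hi2 b, hjb, hjb1, fun r s e => ?_⟩
  have e' := congrArg (fun v => j • v) e
  simp only [smul_add, smul_zero, linear_of_mem (hf.cent P.mem_j) r.2, linear_of_mem (hf.cent P.mem_j) s.2,
    hjb, hjb1, map_neg] at e'
  have hr : r = 0 := by
    have h1 : r.1 b + r.1 b = 0 := by
      calc r.1 b + r.1 b = (r.1 b + s.1 (i • b)) + (r.1 b + -(s.1 (i • b))) := by abel
        _ = 0 := by rw [e, e', add_zero]
    refine cancel' hf.base hb (cancel hf.base h2 (x := r.1 b) ?_)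
    rw [← one_add_one_eq_two]
    exact h1
  refine ⟨hr, cancel' hf.base (fun e1 => hb (smul_left_cancel i (by rw [smul_zero]; exact e1))) ?_⟩
  rw [hr] at e
  simpa using e

/-- A quaternion pair over five elements. -/
theorem base_five (hs : Sect hf m) (hm : ∀ v : V, m • v = -v) (P : Pairs F Z k X W i j) (h2 : (2 : Sc V Z) ≠ 0)
    (h5 : ∀ v : V, v + v + (v + v) + v = 0) (hi2 : ∀ v : V, i • i • v = -v) (hj2 : ∀ v : V, j • j • v = -v)
    {v₀ : V} (hv₀ : v₀ ≠ 0) :
    ∃ b₀ b₁ : V, FixW k W b₀ ∧ FixW k W b₁ ∧ i • b₀ = b₀ + b₀ ∧ i • b₁ = -(b₁ + b₁) ∧ j • b₀ = b₁ ∧ j • b₁ = -b₀ ∧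
      ∀ r s : Sc V Z, r.1 b₀ + s.1 b₁ = 0 → r = 0 ∧ s = 0 := by
  obtain ⟨w, hw, hfix⟩ := exists_fixed hs hm P hv₀ k le_rfl
  have hanti := hs.anti hm P.mem_i P.mem_j P.ne
  obtain ⟨b, hb, hbf, hib⟩ : ∃ b : V, b ≠ 0 ∧ FixW k W b ∧ i • b = b + b := by
    by_cases h : i • w + (w + w) = 0
    · refine ⟨j • w, fun e => hw (smul_left_cancel j (by rw [smul_zero]; exact e)), FixW.map_j P hfix, ?_⟩
      rw [hanti, eq_neg_of_add_eq_zero_left h, smul_neg, neg_neg, smul_add]
    · refine ⟨_, h, FixW.add (FixW.map_i P hfix) (FixW.add hfix hfix), ?_⟩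
      rw [smul_add, smul_add, hi2, ← sub_eq_zero]
      rw [show -w + (i • w + i • w) - (i • w + (w + w) + (i • w + (w + w))) = -(w + w + (w + w) + w) by abel, h5, neg_zero]
  have hib1 : i • j • b = -(j • b + j • b) := by rw [hanti, hib, smul_add]
  refine ⟨b, j • b, hbf, FixW.map_j P hbf, hib, hib1, rfl, hj2 b, fun r s e => ?_⟩
  have e' := congrArg (fun v => i • v) e
  simp only [smul_add, smul_zero, linear_of_mem (hf.cent P.mem_i) r.2, linear_of_mem (hf.cent P.mem_i) s.2,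
    hib, hib1, map_neg, map_add] at e'
  have hr : r = 0 := by
    have h1 : (r.1 b + r.1 b) + (r.1 b + r.1 b) = 0 := by
      calc (r.1 b + r.1 b) + (r.1 b + r.1 b) = ((r.1 b + s.1 (j • b)) + (r.1 b + s.1 (j • b))) +
            (r.1 b + r.1 b + -(s.1 (j • b) + s.1 (j • b))) := by abel
        _ = 0 := by rw [e, e']; simp
    refine cancel' hf.base hb (cancel hf.base h2 (x := r.1 b) ?_)
    rw [← one_add_one_eq_two]
    refine cancel hf.base h2 ?_
    rw [← one_add_one_eq_two]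
    exact h1
  refine ⟨hr, cancel' hf.base (fun e1 => hb (smul_left_cancel j (by rw [smul_zero]; exact e1))) ?_⟩
  rw [hr] at e
  simpa using e

/-- A quaternion pair over three elements. -/
theorem base_three (hs : Sect hf m) (hm : ∀ v : V, m • v = -v) (P : Pairs F Z k X W i j)
    (h3 : ∀ v : V, v + v + v = 0) (hsq : ∀ r : Sc V Z, r ≠ 0 → r * r = 1) (h2 : (2 : Sc V Z) ≠ 0)
    (hi2 : ∀ v : V, i • i • v = -v) (hj2 : ∀ v : V, j • j • v = -v) {v₀ : V} (hv₀ : v₀ ≠ 0) :
    ∃ b₀ b₁ : V, FixW k W b₀ ∧ FixW k W b₁ ∧ i • b₀ = b₁ ∧ i • b₁ = -b₀ ∧ j • b₀ = b₀ + b₁ ∧ j • b₁ = b₀ + -b₁ ∧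
      ∀ r s : Sc V Z, r.1 b₀ + s.1 b₁ = 0 → r = 0 ∧ s = 0 := by
  letI := hf.base.field.toField
  obtain ⟨w, hw, hfix⟩ := exists_fixed hs hm P hv₀ k le_rfl
  have hanti := hs.anti hm P.mem_i P.mem_j P.ne
  let M : V → V := fun v => j • v + -(i • v)
  have hMM : ∀ v, M (M v) = v := fun v => by
    show j • (j • v + -(i • v)) + -(i • (j • v + -(i • v))) = v
    rw [smul_add, smul_add, smul_neg, smul_neg, hanti, hi2, hj2, ← sub_eq_zero]
    rw [show -v + -(j • i • v) + -(-(j • i • v) + - -v) - v = -(v + v + v) by abel, h3, neg_zero]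
  have hMfix : ∀ v, FixW k W v → FixW k W (M v) := fun v hv t ht => by
    show W t • (j • v + -(i • v)) = _
    rw [smul_add, smul_neg, FixW.map_j P hv t ht, FixW.map_i P hv t ht]
  have hk : ∀ v, i • j • (M v) = -(M (i • j • v)) := fun v => by
    show i • j • (j • v + -(i • v)) = -(j • i • j • v + -(i • i • j • v))
    have a1 : ∀ v : V, j • i • v = -(i • j • v) := fun v => by rw [hanti, neg_neg]
    simp only [smul_add, smul_neg, hj2, hi2, a1, neg_neg]
    abel
  obtain ⟨b, hb, hbf, hMb⟩ : ∃ b : V, b ≠ 0 ∧ FixW k W b ∧ M b = b := by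
    by_cases h : M w + w = 0
    · refine ⟨i • j • w, fun e => hw (smul_left_cancel j (smul_left_cancel i (by rw [smul_zero, smul_zero]; exact e))),
        FixW.map_i P (FixW.map_j P hfix), ?_⟩
      rw [← neg_neg (M (i • j • w)), ← hk, eq_neg_of_add_eq_zero_left h, smul_neg, smul_neg, neg_neg]
    · refine ⟨M w + w, h, FixW.add (hMfix w hfix) hfix, ?_⟩
      have hadd' : ∀ p q : V, M (p + q) = M p + M q := fun p q => by
        show j • (p + q) + -(i • (p + q)) = j • p + -(i • p) + (j • q + -(i • q))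
        rw [smul_add, smul_add]; abel
      have hadd : M (M w + w) = M (M w) + M w := hadd' _ _
      rw [hadd, hMM, add_comm]
  have hjb : j • b = b + i • b := by
    have : j • b + -(i • b) = b := hMb
    calc j • b = (j • b + -(i • b)) + i • b := by abel
      _ = _ := by rw [this]
  have hjb1 : j • i • b = b + -(i • b) := by
    rw [show j • i • b = -(i • j • b) by rw [hanti, neg_neg], hjb, smul_add, hi2]
    abel
  refine ⟨b, i • b, hbf, FixW.map_i P hbf, rfl, hi2 b, hjb, hjb1, fun r s e => ?_⟩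
  have e' := congrArg (fun v => i • v) e
  simp only [smul_add, smul_zero, linear_of_mem (hf.cent P.mem_i) r.2, linear_of_mem (hf.cent P.mem_i) s.2,
    hi2, map_neg] at e'
  have key : (r * r + s * s).1 b = 0 := by
    have a1 : r.1 (r.1 b + s.1 (i • b)) = 0 := by rw [e, map_zero]
    have a2 : s.1 (r.1 (i • b) + -(s.1 b)) = 0 := by rw [e', map_zero]
    show r.1 (r.1 b) + s.1 (s.1 b) = 0
    rw [map_add] at a1
    rw [map_add, map_neg, scalar_comm hf.base s.2 r.2] at a2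
    calc r.1 (r.1 b) + s.1 (s.1 b) = (r.1 (r.1 b) + r.1 (s.1 (i • b))) + -(r.1 (s.1 (i • b)) + -(s.1 (s.1 b))) := by abel
      _ = 0 := by rw [a1, a2]; simp
  have hrs := cancel' hf.base hb key
  by_cases hr : r = 0
  · refine ⟨hr, by_contra fun hs0 => ?_⟩
    rw [hr, mul_zero, zero_add, hsq s hs0] at hrs
    exact one_ne_zero hrs
  · by_cases hs0 : s = 0
    · rw [hs0, mul_zero, add_zero, hsq r hr] at hrs
      exact absurd hrs one_ne_zero
    · rw [hsq r hr, hsq s hs0, one_add_one_eq_two] at hrs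
      exact absurd hrs h2

end CfsgLib.BaseTwo
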