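import Cfsg.Agent.Lib.BaseTwo.Colour
import Cfsg.Agent.Lib.BaseThree.Blocks

/-!
Pairs built block by block from a system of imprimitivity.
-/

set_option autoImplicit false

namespace CfsgLib.BaseTwo

open MulAction CfsgLib.OddBase CfsgLib.BaseThree

universe u

variable {A V : Type u} [Group A] [AddCommGroup V] [DistribMulAction A V] [Finite A] [Finite V]
  {R : Subring (AddMonoid.End V)}

/-- The inductive hypothesis: pairs for coprime solvable groups of order less than `m`. -/
def IH2 (m : ℕ) : Prop :=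
  ∀ (A V : Type u) [Group A] [Finite A] [AddCommGroup V] [Finite V] [DistribMulAction A V],
    Nat.card A < m → Group.IsSolvable A → (Nat.card A).Coprime (Nat.card V) → Odd (Nat.card V) → CR A V → Pair A V

/-- Inequivalent pairs, as many as the order of the first vector. -/
theorem pair_classes {H W : Type u} [Group H] [Finite H] [AddCommGroup W] [Finite W] [DistribMulAction H W]
    (hcop : (Nat.card H).Coprime (Nat.card W)) {x y : W} {n : ℕ} (hn : n ≤ addOrderOf x)
    (hxy : ∀ a : H, a • x = x → a • y = y → ∀ z : W, a • z = z) :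
    ∃ P : Fin n → Fin 2 → W, (∀ b (a : H), (∀ k, a • P b k = P b k) → ∀ z : W, a • z = z) ∧
      ∀ b c (a : H), (∀ k, a • P b k = P c k) → b = c := by
  refine ⟨fun b => ![x, y + (b : ℕ) • x], fun b a ha => ?_, fun b c a ha => ?_⟩
  · have h0 : a • x = x := by simpa using ha 0
    have h1 : a • (y + (b : ℕ) • x) = y + (b : ℕ) • x := by simpa using ha 1
    rw [smul_add, smul_comm a, h0, add_left_inj] at h1
    exact hxy a h0 h1
  · have h0 : a • x = x := by simpa using ha 0
    have h1 : a • (y + (b : ℕ) • x) = y + (c : ℕ) • x := by simpa using ha 1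
    rw [smul_add, smul_comm a, h0] at h1
    set d : W := (c : ℕ) • x - (b : ℕ) • x with hd
    have hy : a • y = y + d := by rw [hd, ← add_sub_assoc, ← h1, add_sub_cancel_right]
    have had : a • d = d := by rw [hd, smul_sub, smul_comm a, smul_comm a, h0]
    have hstep : ∀ k : ℕ, a ^ k • y = y + k • d := fun k => by
      induction k with
      | zero => simp
      | succ k ih => rw [pow_succ', mul_smul, ih, smul_add, smul_comm a, had, hy, succ_nsmul']; abel
    have h2 := hstep (Nat.card H)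
    rw [pow_card_eq_one', one_smul, left_eq_add] at h2
    have h3 : addOrderOf d ∣ Nat.gcd (Nat.card H) (Nat.card W) :=
      Nat.dvd_gcd (addOrderOf_dvd_of_nsmul_eq_zero h2) (addOrderOf_dvd_natCard d)
    rw [hcop.gcd_eq_one, Nat.dvd_one, AddMonoid.addOrderOf_eq_one_iff, hd, sub_eq_zero] at h3
    exact Fin.ext (nsmul_injOn_Iio_addOrderOf (x := x) (lt_of_lt_of_le b.2 hn) (lt_of_lt_of_le c.2 hn) h3.symm)

/-- Pairs built block by block. -/
theorem blocks_pair (hsol : Group.IsSolvable A) (hirr : Irr A V) (hcop : (Nat.card A).Coprime (Nat.card V))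
    (hodd : Odd (Nat.card V)) (ih : IH2.{u} (Nat.card A)) (hR : InvRing A R)
    {e₁ : AddMonoid.End V} (he₁ : e₁ ∈ R) (hee : e₁ * e₁ = e₁) (h0 : e₁ ≠ 0) (h1 : e₁ ≠ 1) : Pair A V := by
  classical
  letI : MulAction A (Atom R) :=
    { smul := fun a e => ⟨rho a * e.1 * rho a⁻¹, hR.atom_conj a e.2⟩
      one_smul := fun e => Subtype.ext (show rho (1 : A) * e.1 * rho (1 : A)⁻¹ = e.1 by simp)
      mul_smul := fun a b e => Subtype.ext (conj_conj a b e.1).symm }
  have hsmul : ∀ (a : A) (e : Atom R) (x : V), (a • e).1 (a • x) = a • e.1 x := fun a e x => by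
    show a • (e.1 (a⁻¹ • a • x)) = _
    rw [inv_smul_smul]
  haveI : Fintype (Atom R) := Fintype.ofFinite _
  obtain ⟨a₀, ha₀, ha₀e⟩ := exists_atom hR.comm _ e₁ he₁ h0 hee le_rfl
  let e : Atom R := ⟨a₀, ha₀⟩
  have horth : ∀ {f g : Atom R}, f ≠ g → ∀ x, f.1 (g.1 x) = 0 := fun h x =>
    DFunLike.congr_fun (atom_orth hR.comm h) x
  have hidem : ∀ (f : Atom R) (x : V), f.1 (f.1 x) = f.1 x := fun f x => DFunLike.congr_fun f.2.2.2.1 x
  have hsum : ∀ x : V, ∑ f : Atom R, f.1 x = x := fun x => by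
    exact (map_sum (AddMonoidHom.eval x : (V →+ V) →+ V) (fun f : Atom R => (f.1 : V →+ V)) Finset.univ).symm.trans
      (DFunLike.congr_fun (sum_atoms hR.comm) x)
  haveI : IsPretransitive A (Atom R) := by
    have key : ∀ f : Atom R, f ∈ orbit A e := fun f => by
      by_contra hf
      let U : AddSubgroup V := ⨅ g ∈ {g : Atom R | g ∉ orbit A e}, (AddMonoidHom.ker (g.1 : V →+ V))
      have hU : ∀ x, x ∈ U ↔ ∀ g : Atom R, g ∉ orbit A e → g.1 x = 0 := fun x => by
        simp only [U, AddSubgroup.mem_iInf]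
        exact ⟨fun h g hg => h g hg, fun h g hg => h g hg⟩
      rcases hirr.2 U (fun a x hx => (hU _).mpr fun g hg => by
        rw [← smul_inv_smul a g, hsmul, (hU x).mp hx _ (fun h => hg (by
          rw [← smul_inv_smul a g, ← orbit_eq_iff, orbit_smul, orbit_eq_iff]; exact h)), smul_zero]) with h | h
      · refine e.2.2.1 (DFunLike.ext _ _ fun x => ?_)
        have : e.1 x ∈ U := (hU _).mpr fun g hg => horth (fun h' => hg (by rw [h']; exact mem_orbit_self e)) x
        rw [h, AddSubgroup.mem_bot] at this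
        exact this
      · exact f.2.2.1 (DFunLike.ext _ _ fun x => (hU x).mp (h.ge trivial) f hf)
    refine ⟨fun f g => ?_⟩
    obtain ⟨a, rfl⟩ := key f
    obtain ⟨b, rfl⟩ := key g
    exact ⟨b * a⁻¹, by rw [mul_smul, inv_smul_smul]⟩
  let H := stabilizer A e
  have hlt : Nat.card H < Nat.card A := by
    refine lt_of_le_of_ne (Subgroup.card_le_card_group _) fun h => ?_
    have htop := Subgroup.eq_top_of_card_eq _ h
    have hall : ∀ f : Atom R, f = e := fun f => by
      obtain ⟨a, rfl⟩ := exists_smul_eq A e f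
      exact mem_stabilizer_iff.mp (htop.ge (Subgroup.mem_top a))
    have he1 : e.1 = 1 := by
      rw [← sum_atoms hR.comm, Finset.sum_eq_single e (fun f _ hf => absurd (hall f) hf) (by simp)]
    rcases e.2.2.2.2 e₁ he₁ hee (by rw [he1, mul_one]) with h | h
    · exact h0 h
    · exact h1 (h.trans he1)
  -- the module of the block
  let W : AddSubgroup V :=
    { carrier := {x | e.1 x = x}
      zero_mem' := map_zero e.1
      add_mem' := fun {x y} hx hy => by
        show e.1 (x + y) = x + y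
        rw [map_add, show e.1 x = x from hx, show e.1 y = y from hy]
      neg_mem' := fun {x} hx => by
        show e.1 (-x) = -x
        rw [map_neg, show e.1 x = x from hx] }
  have hHW : ∀ (a : H) (x : V), x ∈ W → (a : A) • x ∈ W := fun a x (hx : e.1 x = x) => by
    show e.1 ((a : A) • x) = (a : A) • x
    conv_lhs => rw [← mem_stabilizer_iff.mp a.2, hsmul, hx]
  letI : DistribMulAction H W :=
    { smul := fun a x => ⟨(a : A) • (x : V), hHW a x x.2⟩
      one_smul := fun x => Subtype.ext (one_smul A (x : V))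
      mul_smul := fun a b x => Subtype.ext (mul_smul (a : A) b (x : V))
      smul_zero := fun a => Subtype.ext (smul_zero (a : A))
      smul_add := fun a x y => Subtype.ext (smul_add (a : A) (x : V) y) }
  have hWne : ∃ x : W, x ≠ 0 := by
    obtain ⟨x, hx⟩ : ∃ x, e.1 x ≠ 0 := by
      by_contra h
      push Not at h
      exact e.2.2.1 (DFunLike.ext _ _ h)
    exact ⟨⟨e.1 x, hidem e x⟩, fun h => hx (congrArg Subtype.val h)⟩
  have hWirr : Irr H W := by
    refine ⟨hWne, fun U hU => ?_⟩
    by_cases hU0 : U = ⊥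
    · exact Or.inl hU0
    refine Or.inr (eq_top_iff.mpr fun x _ => ?_)
    let T : AddSubgroup V := AddSubgroup.closure {y | ∃ (a : A) (u : W), u ∈ U ∧ y = a • (u : V)}
    rcases hirr.2 T (fun a y hy => by
      induction hy using AddSubgroup.closure_induction with
      | mem z hz =>
        obtain ⟨b, u, hu, rfl⟩ := hz
        exact AddSubgroup.subset_closure ⟨a * b, u, hu, (mul_smul a b _).symm⟩
      | zero => rw [smul_zero]; exact zero_mem _
      | add y z _ _ h1 h2 => rw [smul_add]; exact add_mem h1 h2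
      | neg y _ h1 => rw [smul_neg]; exact neg_mem h1) with h | h
    · exfalso
      refine hU0 (eq_bot_iff.mpr fun u hu => Subtype.ext ?_)
      have : (u : V) ∈ T := AddSubgroup.subset_closure ⟨1, u, hu, (one_smul A _).symm⟩
      rw [h, AddSubgroup.mem_bot] at this
      exact this
    · have key : ∀ y ∈ T, ∃ u ∈ U, (u : V) = e.1 y := fun y hy => by
        induction hy using AddSubgroup.closure_induction with
        | mem z hz =>
          obtain ⟨b, u, hu, rfl⟩ := hz
          by_cases hb : b • e = e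
          · exact ⟨(⟨b, hb⟩ : H) • u, hU _ u hu, (hHW ⟨b, hb⟩ u u.2).symm⟩
          · refine ⟨0, zero_mem _, ?_⟩
            have : (b • e).1 (b • (u : V)) = b • (u : V) := by rw [hsmul]; exact congrArg (b • ·) u.2
            rw [← this, horth (Ne.symm hb)]
            rfl
        | zero => exact ⟨0, zero_mem _, (map_zero _).symm⟩
        | add y z _ _ h1 h2 =>
          obtain ⟨u, hu, h1⟩ := h1
          obtain ⟨v, hv, h2⟩ := h2
          exact ⟨u + v, add_mem hu hv, by rw [map_add, ← h1, ← h2]; rfl⟩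
        | neg y _ h1 =>
          obtain ⟨u, hu, h1⟩ := h1
          exact ⟨-u, neg_mem hu, by rw [map_neg, ← h1]; rfl⟩
      obtain ⟨u, hu, hux⟩ := key x (h.ge trivial)
      exact (Subtype.ext (hux.trans x.2) : u = x) ▸ hu
  haveI := hsol
  have hsolH : Group.IsSolvable H := inferInstance
  have hWdvd : Nat.card W ∣ Nat.card V := W.card_addSubgroup_dvd_card
  have hcopH : (Nat.card H).Coprime (Nat.card W) :=
    Nat.Coprime.coprime_dvd_left (H.card_subgroup_dvd_card) (Nat.Coprime.coprime_dvd_right hWdvd hcop)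
  obtain ⟨x, y, hx0, hxy⟩ : ∃ x y : W, x ≠ 0 ∧ ∀ a : H, a • x = x → a • y = y → ∀ z : W, a • z = z := by
    obtain ⟨x, y, hxy⟩ := ih H W hlt hsolH hcopH (hodd.of_dvd_nat hWdvd) hWirr.cr
    by_cases hx : x = 0
    · by_cases hy : y = 0
      · obtain ⟨z, hz⟩ := hWne
        exact ⟨z, z, hz, fun a _ _ => hxy a (by rw [hx, smul_zero]) (by rw [hy, smul_zero])⟩
      · exact ⟨y, x, hy, fun a h2 h1 => hxy a h1 h2⟩
    · exact ⟨x, y, hx, hxy⟩
  have hox : addOrderOf x = 3 ∨ 5 ≤ addOrderOf x := by
    have ho : Odd (addOrderOf x) := (hodd.of_dvd_nat hWdvd).of_dvd_nat (addOrderOf_dvd_natCard x)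
    have h1 : addOrderOf x ≠ 1 := fun h => hx0 (AddMonoid.addOrderOf_eq_one_iff.mp h)
    obtain ⟨k, hk⟩ := ho
    omega
  choose t ht using fun f : Atom R => exists_smul_eq A e f
  have hproj : ∀ (x : Atom R → W) (f : Atom R), f.1 (∑ g, t g • (x g : V)) = t f • (x f : V) := fun x f => by
    have hg : ∀ g, g.1 (t g • (x g : V)) = t g • (x g : V) := fun g => by
      conv_lhs => rw [show g.1 = (t g • e).1 by rw [ht], hsmul, show e.1 (x g : V) = x g from (x g).2]
    rw [map_sum, Finset.sum_eq_single f (fun g _ hg' => by rw [← hg g, horth (Ne.symm hg')]) (by simp), hg]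
  suffices hcolour : ∃ (n : ℕ) (col : Atom R → Fin n), n ≤ addOrderOf x ∧
      ∀ a : A, (∀ f, col (a • f) = col f) → ∀ f, a • f = f by
    obtain ⟨n, col, hn, hcol⟩ := hcolour
    obtain ⟨P, hP, hPne⟩ := pair_classes hcopH hn hxy
    refine ⟨∑ g, t g • ((P (col g) 0 : W) : V), ∑ g, t g • ((P (col g) 1 : W) : V), fun a hfix₀ hfix₁ x => ?_⟩
    have hfix : ∀ k : Fin 2, a • (∑ g, t g • ((P (col g) k : W) : V)) = ∑ g, t g • ((P (col g) k : W) : V) :=
      Fin.forall_fin_two.mpr ⟨hfix₀, hfix₁⟩
    have hh : ∀ f, (t (a • f))⁻¹ * a * t f ∈ H := fun f => by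
      rw [mem_stabilizer_iff, mul_smul, mul_smul, ht, inv_smul_eq_iff, ht]
    have hmap : ∀ (y : Atom R → W), a • (∑ g, t g • (y g : V)) = ∑ g, t g • (y g : V) →
        ∀ f, (⟨_, hh f⟩ : H) • y f = y (a • f) := fun y hy f => Subtype.ext (by
      show ((t (a • f))⁻¹ * a * t f) • (y f : V) = _
      rw [mul_smul, mul_smul, inv_smul_eq_iff, ← hproj y f, ← hsmul, hy, hproj y])
    have hm := fun k => hmap (fun g => P (col g) k) (hfix k)
    have hfixf : ∀ f : Atom R, a • f = f := hcol a fun f => (hPne _ _ _ fun k => hm k f).symm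
    rw [← hsum x, Finset.smul_sum]
    refine Finset.sum_congr rfl fun f _ => ?_
    have hk : (t f)⁻¹ • f.1 x ∈ W := by
      show e.1 _ = _
      have := hsmul (t f) e ((t f)⁻¹ • f.1 x)
      rw [ht, smul_inv_smul, hidem] at this
      rw [eq_inv_smul_iff]
      exact this.symm
    have hP' : ∀ k, (⟨_, hh f⟩ : H) • P (col f) k = P (col f) k := fun k => by
      rw [hm k f, hfixf f]
    have h3 := congrArg Subtype.val (hP _ _ hP' ⟨_, hk⟩)
    change ((t (a • f))⁻¹ * a * t f) • (t f)⁻¹ • f.1 x = (t f)⁻¹ • f.1 x at h3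
    rw [hfixf f, mul_smul, mul_smul, smul_inv_smul] at h3
    exact smul_left_cancel _ h3
  rcases hox with h3 | h5
  · have h3A : ¬ 3 ∣ Nat.card A := fun h => Nat.not_coprime_of_dvd_of_dvd (by norm_num) h
      (h3 ▸ (addOrderOf_dvd_natCard x).trans hWdvd) hcop
    obtain ⟨col, hcol⟩ := coloured3_all _ A (Atom R) rfl h3A hsol
    exact ⟨3, col, h3.ge, hcol⟩
  · obtain ⟨col, hcol⟩ := coloured_of_IH (ih3_all.{u} (Nat.card A)) _ A (Atom R) rfl le_rfl hsol
    exact ⟨5, col, h5, hcol⟩

end CfsgLib.BaseTwo
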