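import Mathlib

/-!
Certificates that a linear map fixing two vectors, permuting a finite set of operators and preserving a form fixes
a spanning list of vectors.
-/

set_option autoImplicit false

namespace CfsgLib.BaseTwo

/-- The finite data: numbered operators on coordinate lists, addition and the zero list. -/
structure CertData where
  n : ℕ
  op : ℕ → List ℕ → List ℕ
  add : List ℕ → List ℕ → List ℕ
  zero : List ℕ

namespace CertData

variable (D : CertData)

/-- The operators of one colour, read off from a table of colours. -/
def cls (cols : List ℕ) (key : ℕ) : List ℕ :=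
  ((cols.zip (List.range D.n)).filter fun q => q.1 == key).map Prod.snd

/-- Append the sum of the images of a listed vector under one colour class. -/
def step (cols : List ℕ) (W : List (List ℕ)) (s : ℕ × ℕ) : List (List ℕ) :=
  W ++ [((D.cls cols s.1).map fun f => D.op f (W.getD s.2 D.zero)).foldr D.add D.zero]

/-- All steps of a certificate. -/
def grow (cols : List ℕ) (W : List (List ℕ)) (ss : List (ℕ × ℕ)) : List (List ℕ) :=
  ss.foldl (D.step cols) W

/-- A combination of the listed vectors with natural coefficients. -/
def comb : List ℕ → List (List ℕ) → List ℕ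
  | c :: cs, w :: ws => D.add ((D.add w)^[c] D.zero) (comb cs ws)
  | _, _ => D.zero

/-- The coefficient lists produce exactly the targets. -/
def reaches (W : List (List ℕ)) (targets : List (List ℕ)) (cs : List (List ℕ)) : Bool :=
  cs.map (fun c => D.comb c W) == targets

end CertData

/-- A meaning of the data in a group with an additive map. -/
structure CertModel (D : CertData) (V : Type*) [AddCommGroup V] where
  J : List ℕ → V
  a : V →+ V
  π : Equiv.Perm (Fin D.n)
  φ : Fin D.n → V →+ V
  map_zero : J D.zero = 0
  map_add : ∀ v w, J (D.add v w) = J v + J w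
  map_op : ∀ (f : Fin D.n) v, J (D.op f v) = φ f (J v)
  equivariant : ∀ f v, a (φ f (J v)) = φ (π f) (a (J v))

namespace CertModel

variable {D : CertData} {V : Type*} [AddCommGroup V] (M : CertModel D V)

/-- All listed vectors are fixed. -/
def Fixed (W : List (List ℕ)) : Prop := ∀ w ∈ W, M.a (M.J w) = M.J w

theorem getD_fixed {W : List (List ℕ)} (h : M.Fixed W) (i : ℕ) :
    M.a (M.J (W.getD i D.zero)) = M.J (W.getD i D.zero) := by
  by_cases hi : i < W.length
  · rw [List.getD_eq_getElem _ _ hi]
    exact h _ (List.getElem_mem hi)
  · rw [List.getD_eq_default _ _ (by omega), M.map_zero, _root_.map_zero]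

/-- The colour table is correct and the colour is invariant. -/
structure Coloured (colour : ℕ → ℕ) (cols : List ℕ) : Prop where
  table : (List.range D.n).map colour = cols
  invariant : ∀ f : Fin D.n, colour (M.π f) = colour f

theorem cls_eq {colour : ℕ → ℕ} {cols : List ℕ} (hc : M.Coloured colour cols) (key : ℕ) :
    D.cls cols key = (((List.finRange D.n).filter fun f : Fin D.n => colour f == key).map Fin.val) := by
  rw [CertData.cls, ← hc.table, ← List.map_coe_finRange_eq_range, List.map_map]
  generalize List.finRange D.n = l
  induction l with
  | nil => rfl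
  | cons x l ih =>
    simp only [List.map_cons, List.zip_cons_cons, List.filter_cons, Function.comp_apply]
    simp only [Function.comp_def] at ih ⊢
    by_cases h : colour x == key <;> simp [h, ih]

theorem map_sum (l : List (List ℕ)) : M.J (l.foldr D.add D.zero) = (l.map M.J).sum := by
  induction l with
  | nil => simpa using M.map_zero
  | cons x l ih => simp [M.map_add, ih]

theorem class_sum {colour : ℕ → ℕ} {cols : List ℕ} (hc : M.Coloured colour cols) {W : List (List ℕ)}
    (h : M.Fixed W) (key i : ℕ) :
    M.a (M.J (((D.cls cols key).map fun f => D.op f (W.getD i D.zero)).foldr D.add D.zero)) =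
      M.J (((D.cls cols key).map fun f => D.op f (W.getD i D.zero)).foldr D.add D.zero) := by
  classical
  set w := W.getD i D.zero with hw
  have e : M.J (((D.cls cols key).map fun f => D.op f w).foldr D.add D.zero) =
      ∑ f ∈ Finset.univ.filter (fun f : Fin D.n => colour f = key), M.φ f (M.J w) := by
    rw [M.map_sum, M.cls_eq hc, List.map_map, List.map_map]
    rw [show Finset.univ.filter (fun f : Fin D.n => colour f = key) =
        ((List.finRange D.n).filter fun f : Fin D.n => colour f == key).toFinset from Finset.ext fun f => by simp,
      List.sum_toFinset _ ((List.nodup_finRange _).filter _)]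
    exact congrArg List.sum (List.map_congr_left fun f _ => M.map_op f w)
  rw [e, _root_.map_sum]
  refine Finset.sum_equiv M.π (fun f => ?_) fun f _ => ?_
  · simp [hc.invariant f]
  · rw [M.equivariant, hw, M.getD_fixed h]

theorem step_fixed {colour : ℕ → ℕ} {cols : List ℕ} (hc : M.Coloured colour cols) {W : List (List ℕ)}
    (h : M.Fixed W) (s : ℕ × ℕ) : M.Fixed (D.step cols W s) := by
  intro w hw
  rcases List.mem_append.mp hw with hw | hw
  · exact h w hw
  · rw [List.mem_singleton] at hw
    subst hw
    exact M.class_sum hc h _ _

theorem grow_fixed {colour : ℕ → ℕ} {cols : List ℕ} (hc : M.Coloured colour cols) {W : List (List ℕ)}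
    (h : M.Fixed W) : ∀ ss : List (ℕ × ℕ), M.Fixed (D.grow cols W ss) := by
  intro ss
  induction ss generalizing W with
  | nil => exact h
  | cons s ss ih => exact ih (M.step_fixed hc h s)

theorem iterate_fixed {w : List ℕ} (h : M.a (M.J w) = M.J w) :
    ∀ c : ℕ, M.a (M.J ((D.add w)^[c] D.zero)) = M.J ((D.add w)^[c] D.zero)
  | 0 => by simp [M.map_zero]
  | c + 1 => by rw [Function.iterate_succ', Function.comp_apply, M.map_add, _root_.map_add, h, iterate_fixed h c]

theorem comb_fixed : ∀ (c : List ℕ) {W : List (List ℕ)}, M.Fixed W → M.a (M.J (D.comb c W)) = M.J (D.comb c W)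
  | [], W, _ => by simp [CertData.comb, M.map_zero]
  | c :: cs, [], _ => by simp [CertData.comb, M.map_zero]
  | c :: cs, w :: W, h => by
    rw [CertData.comb, M.map_add, _root_.map_add, M.iterate_fixed (h w List.mem_cons_self),
      comb_fixed cs fun x hx => h x (List.mem_cons_of_mem w hx)]

/-- A certified list fixes every target. -/
theorem reaches_fixed {W : List (List ℕ)} (h : M.Fixed W) {targets cs : List (List ℕ)}
    (hr : D.reaches W targets cs = true) : M.Fixed targets := by
  intro t ht
  rw [CertData.reaches, beq_iff_eq] at hr
  rw [← hr, List.mem_map] at ht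
  obtain ⟨c, -, rfl⟩ := ht
  exact M.comb_fixed c h

end CertModel

end CfsgLib.BaseTwo
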