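import Cfsg.Agent.Lib.OddBase.Main
import Cfsg.Agent.Lib.BaseThree.Top

/-!
Counting fixed points gives pairs when the symplectic section is large.
-/

set_option autoImplicit false

namespace CfsgLib.BaseTwo

open Subgroup CfsgLib.OddBase CfsgLib.BaseThree
open scoped commutatorElement

universe u

variable {A V : Type u} [Group A] [Finite A] [AddCommGroup V] [Finite V] [DistribMulAction A V]
  {Z F L : Subgroup A}

/-- A solvable completely reducible group is no larger than the set of triples. -/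
theorem card_le_of_triple {W : Type u} [CommGroup W] [Finite W] (S : Subgroup (MulAut W)) (hS : CRAut S)
    (hsol : Group.IsSolvable S) : Nat.card S ≤ Nat.card W ^ 3 := by
  letI := addAct S
  have hcr : CR S (Additive W) := fun U hU => by
    obtain ⟨X, hX, h1, h2⟩ := hS (AddSubgroup.toSubgroup' U) fun g hg x hx => hU ⟨g, hg⟩ (Additive.ofMul x) hx
    refine ⟨Subgroup.toAddSubgroup X, fun g x hx => hX g g.2 _ hx, ?_, ?_⟩
    · rw [eq_bot_iff]
      intro x hx
      refine AddSubgroup.mem_bot.mpr (Additive.toMul.injective ?_)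
      exact Subgroup.mem_bot.mp (h1.le (show Additive.toMul x ∈ AddSubgroup.toSubgroup' U ⊓ X from ⟨hx.1, hx.2⟩))
    · rw [eq_top_iff]
      intro x _
      obtain ⟨u, hu, y, hy, e⟩ := Subgroup.mem_sup.mp (h2.ge (Subgroup.mem_top (Additive.toMul x)))
      exact AddSubgroup.mem_sup.mpr ⟨Additive.ofMul u, hu, Additive.ofMul y, hy, congrArg Additive.ofMul e⟩
  obtain ⟨t, ht⟩ := ih3_all.{u} (Nat.card S + 1) S (Additive W) (Nat.lt_succ_self _) hsol hcr
  have hinj : Function.Injective fun g : S => fun k : Fin 3 => (g : MulAut W) (Additive.toMul (t k)) := by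
    intro g g' h
    dsimp only at h
    have h1 : ∀ k, (g'⁻¹ * g) • t k = t k := fun k => Additive.toMul.injective (by
      show ((g'⁻¹ * g : S) : MulAut W) (Additive.toMul (t k)) = _
      push_cast
      rw [MulAut.mul_apply, congrFun h k, MulAut.inv_apply_self])
    refine Subtype.ext (MulEquiv.ext fun x => ?_)
    have h3 : (g' : MulAut W)⁻¹ ((g : MulAut W) x) = x :=
      congrArg Additive.toMul (ht (g'⁻¹ * g) h1 (Additive.ofMul x))
    rw [← MulAut.apply_inv_self W (g' : MulAut W) ((g : MulAut W) x), h3]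
  calc Nat.card S ≤ Nat.card (Fin 3 → W) := Nat.card_le_card_of_injective _ hinj
    _ = _ := by rw [Nat.card_pi, Fin.prod_const]

theorem big_pow : ∀ {e : ℕ}, 64 ≤ e → 4 * e ^ 16 < 3 ^ e := by
  intro e he
  induction e, he using Nat.le_induction with
  | base => norm_num
  | succ n hn ih =>
    have h1 : (64 * (n + 1)) ^ 16 ≤ (65 * n) ^ 16 := Nat.pow_le_pow_left (by omega) 16
    rw [mul_pow, mul_pow] at h1
    have h3 : (n + 1) ^ 16 ≤ 3 * n ^ 16 := by
      refine Nat.le_of_mul_le_mul_left (h1.trans ?_) (by norm_num : 0 < 64 ^ 16)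
      rw [← mul_assoc]
      exact Nat.mul_le_mul_right _ (by norm_num)
    rw [pow_succ 3]
    calc 4 * (n + 1) ^ 16 ≤ 4 * (3 * n ^ 16) := Nat.mul_le_mul_left _ h3
      _ = 3 * (4 * n ^ 16) := by ring
      _ < 3 * 3 ^ n := Nat.mul_lt_mul_of_pos_left ih (by norm_num)
      _ = _ := mul_comm _ _

theorem count_pair_of_key (hsol : Group.IsSolvable A) (hf : Frame A V Z F L) (he : 4 ≤ Z.relIndex L)
    (hQ : 3 ≤ Nat.card (genRing (V := V) Z))
    (hkey : 4 * Z.relIndex L ^ 16 < Nat.card (genRing (V := V) Z) ^ Z.relIndex L) :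
    ∃ x y : V, ∀ a : A, a • x = x → a • y = y → a = 1 := by
  classical
  have h := hf.base
  haveI := h.normal
  haveI := h.faith
  haveI := hf.normal
  haveI := centralizer_normal h.normal
  letI := sectionComm hf
  set C := centralizer (Z : Set A)
  set e := Z.relIndex L with he_def
  set Q := Nat.card (genRing (V := V) Z)
  set w := Z.relIndex F
  have hwe : w = e * e := hf.sq_index
  set H := C.map (phi Z F) with hHdef
  have hH : Nat.card H ≤ w ^ 3 := by
    haveI := hsol
    have hS : Group.IsSolvable (phi Z F).range := Group.isSolvable_of_surjective (phi Z F).rangeRestrict_surjective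
    exact (Nat.card_le_card_of_injective _ (Subgroup.inclusion_injective (Subgroup.map_le_range _ _))).trans
      (card_le_of_triple _ (phi_cr hf) hS)
  have hCcard : Nat.card C = Nat.card H * w * Nat.card Z := by
    have h1 := ((phi Z F).comp C.subtype).ker.card_eq_card_quotient_mul_card_subgroup
    have h2 : ((phi Z F).comp C.subtype).ker = F.subgroupOf C := by
      ext x
      exact ⟨fun hx => phi_ker_cent hf x.2 (MonoidHom.mem_ker.mp hx), fun hx => MonoidHom.mem_ker.mpr (phi_F hf hx)⟩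
    rw [Nat.card_congr (QuotientGroup.quotientKerEquivRange _).toEquiv, MonoidHom.range_comp, Subgroup.range_subtype,
      h2, Nat.card_congr (Subgroup.subgroupOfEquivOfLe hf.cent).toEquiv] at h1
    have h3 := (Z.subgroupOf F).card_eq_card_quotient_mul_card_subgroup
    rw [show Nat.card (F ⧸ Z.subgroupOf F) = w from rfl,
      Nat.card_congr (Subgroup.subgroupOfEquivOfLe hf.le).toEquiv] at h3
    rw [h1, h3, mul_assoc]
  have hZQ : Nat.card Z ≤ Q := (card_lt_field h).le
  have hA : Nat.card A ≤ Q * Q * (Nat.card H * w) :=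
    calc Nat.card A ≤ Nat.card Z * Nat.card C := card_le_mul h
      _ ≤ Q * (Nat.card H * w * Q) := Nat.mul_le_mul hZQ (by rw [hCcard]; exact Nat.mul_le_mul_left _ hZQ)
      _ = _ := by ring
  set Vc := Nat.card V with hVc
  have hVpos : 0 < Vc := Nat.card_pos
  have hVQ : Q ^ e ≤ Vc := hf.card_ge
  haveI : Fintype A := Fintype.ofFinite _
  haveI : Fintype V := Fintype.ofFinite _
  -- fixed points
  have hZ1 : ∀ z ∈ Z, z ≠ 1 → fc V z = 1 := fun z hz h1 => h.fc_center hz h1
  have hF2 : ∀ g ∈ F, g ≠ 1 → fc V g ^ 2 ≤ Vc := fun g hgF hg1 => by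
    by_cases hgZ : g ∈ Z
    · rw [hZ1 g hgZ hg1, one_pow]; exact hVpos
    obtain ⟨y, hy, hne⟩ : ∃ y ∈ F, ⁅y, g⁆ ≠ 1 := by
      by_contra hcon
      push Not at hcon
      exact hgZ (hf.centre_F hgF fun y hy => by rw [← commutatorElement_inv, hcon y hy, inv_one])
    have h2 : fc V g ^ 2 ≤ Vc * fc V (y * g * y⁻¹ * g⁻¹) := Setup.fc_two_conj (V := V) (g := g) (y := y)
    rwa [show y * g * y⁻¹ * g⁻¹ = ⁅y, g⁆ from rfl, hZ1 _ (hf.comm y hy g hgF) hne, mul_one] at h2
  have hout : ∀ g : A, g ∉ C → fc V g ^ 2 ≤ Vc := fun g hgC => by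
    obtain ⟨z, hz, hne⟩ : ∃ z ∈ Z, ⁅z, g⁆ ≠ 1 := by
      by_contra hcon
      push Not at hcon
      exact hgC (Subgroup.mem_centralizer_iff.mpr fun z hz => (comm_eq_one_iff z g).mp (hcon z hz))
    have h2 : fc V g ^ 2 ≤ Vc * fc V (z * g * z⁻¹ * g⁻¹) := Setup.fc_two_conj (V := V) (g := g) (y := z)
    have hmem : ⁅z, g⁆ ∈ Z := by
      have : ⁅z, g⁆ = z * (g * z⁻¹ * g⁻¹) := by simp [commutatorElement_def, mul_assoc]
      rw [this]
      exact Z.mul_mem hz (h.normal.conj_mem _ (Z.inv_mem hz) g)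
    rwa [show z * g * z⁻¹ * g⁻¹ = ⁅z, g⁆ from rfl, hZ1 _ hmem hne, mul_one] at h2
  have hfour : ∀ g : A, g ≠ 1 → (fc V g ^ 2) ^ 2 ≤ Vc ^ 3 := fun g hg1 => by
    by_cases hgC : g ∈ C
    swap
    · exact (Nat.pow_le_pow_left (hout g hgC) 2).trans (Nat.pow_le_pow_right hVpos (by norm_num))
    by_cases hgF : g ∈ F
    · exact (Nat.pow_le_pow_left (hF2 g hgF hg1) 2).trans (Nat.pow_le_pow_right hVpos (by norm_num))
    obtain ⟨y, hy, hne⟩ : ∃ y ∈ F, ⁅y, g⁆ ∉ Z := by
      by_contra hcon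
      push Not at hcon
      exact hgF (hf.ker g hgC fun y hy => by rw [← commutatorElement_inv]; exact Z.inv_mem (hcon y hy))
    have hcF : ⁅y, g⁆ ∈ F := by
      rw [show ⁅y, g⁆ = y * (g * y⁻¹ * g⁻¹) by simp [commutatorElement_def, mul_assoc]]
      exact F.mul_mem hy (hf.normal.conj_mem _ (F.inv_mem hy) g)
    have hc2 := hF2 _ hcF (fun e1 => hne (e1 ▸ Z.one_mem))
    have h2 : fc V g ^ 2 ≤ Vc * fc V (y * g * y⁻¹ * g⁻¹) := Setup.fc_two_conj (V := V) (g := g) (y := y)
    calc (fc V g ^ 2) ^ 2 ≤ (Vc * fc V ⁅y, g⁆) ^ 2 := Nat.pow_le_pow_left h2 2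
      _ = Vc ^ 2 * fc V ⁅y, g⁆ ^ 2 := mul_pow _ _ _
      _ ≤ Vc ^ 2 * Vc := Nat.mul_le_mul_left _ hc2
      _ = Vc ^ 3 := (pow_succ Vc 2).symm
  let bad : Finset A := Finset.univ.filter fun g => g ∈ C ∧ Vc < fc V g ^ 2
  have hbadcard : bad.card ≤ Nat.card H * w := by
    have h2 := ((QuotientGroup.mk' Z).comp C.subtype).ker.card_eq_card_quotient_mul_card_subgroup
    have h3 : ((QuotientGroup.mk' Z).comp C.subtype).ker = Z.subgroupOf C := by
      ext x
      exact QuotientGroup.eq_one_iff _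
    rw [Nat.card_congr (QuotientGroup.quotientKerEquivRange _).toEquiv, MonoidHom.range_comp,
      Subgroup.range_subtype, h3, Nat.card_congr (Subgroup.subgroupOfEquivOfLe h.le_centralizer).toEquiv,
      hCcard] at h2
    rw [Nat.eq_of_mul_eq_mul_right Nat.card_pos h2, ← Nat.card_eq_finsetCard]
    refine Nat.card_le_card_of_injective
      (fun g : bad => (⟨QuotientGroup.mk (g : A), ⟨g, (Finset.mem_filter.mp g.2).2.1, rfl⟩⟩ : C.map (QuotientGroup.mk' Z)))
      fun a b e => Subtype.ext (by_contra fun hab => ?_)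
    have hz : (a : A)⁻¹ * b ∈ Z := QuotientGroup.eq.mp (congrArg Subtype.val e)
    have ha := (Finset.mem_filter.mp a.2).2
    have hb := (Finset.mem_filter.mp b.2).2
    let φ : Fx (V := V) (a : A) × Fx (V := V) (b : A) →+ V :=
      { toFun := fun x => (x.1 : V) + x.2
        map_zero' := by simp
        map_add' := fun x y => by simp only [Prod.fst_add, Prod.snd_add, AddSubgroup.coe_add]; abel }
    have hinj : Function.Injective φ := (injective_iff_map_eq_zero φ).mpr fun x hx => by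
      have h0 : (x.1 : V) + x.2 = 0 := hx
      have hxa : (a : A) • (x.1 : V) = x.1 := x.1.2
      have hxb : (b : A) • (x.1 : V) = x.1 := by
        rw [eq_neg_of_add_eq_zero_left h0, smul_neg, show (b : A) • (x.2 : V) = x.2 from x.2.2]
      have hx1 : (x.1 : V) = 0 := h.fx_center hz (fun e => hab (inv_mul_eq_one.mp e)) (by
        rw [mul_smul, hxb, inv_smul_eq_iff, hxa])
      have hx2 : (x.2 : V) = 0 := by rwa [hx1, zero_add] at h0
      exact Prod.ext (Subtype.ext hx1) (Subtype.ext hx2)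
    have hle : fc V (a : A) * fc V (b : A) ≤ Vc := by
      rw [fc, fc, ← Nat.card_prod]
      exact Nat.card_le_card_of_injective φ hinj
    have h5 := Nat.mul_lt_mul_of_lt_of_lt ha.2 hb.2
    have h6 := Nat.mul_le_mul hle hle
    nlinarith
  by_contra hpair
  push Not at hpair
  have hcov : Vc * Vc ≤ ∑ g ∈ Finset.univ.erase (1 : A), fc V g ^ 2 := by
    let S : A → Finset (V × V) := fun g => Finset.univ.filter fun p => g • p.1 = p.1 ∧ g • p.2 = p.2
    have hS : ∀ g, (S g).card = fc V g ^ 2 := fun g => by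
      rw [sq, fc, ← Nat.card_prod, ← Nat.card_eq_finsetCard]
      exact Nat.card_congr ⟨fun p => (⟨p.1.1, (Finset.mem_filter.mp p.2).2.1⟩, ⟨p.1.2, (Finset.mem_filter.mp p.2).2.2⟩),
        fun p => ⟨(p.1.1, p.2.1), Finset.mem_filter.mpr ⟨Finset.mem_univ _, p.1.2, p.2.2⟩⟩, fun _ => rfl, fun _ => rfl⟩
    have hsub : (Finset.univ : Finset (V × V)) ⊆ (Finset.univ.erase (1 : A)).biUnion S := fun p _ => by
      obtain ⟨a, h1, h2, h3⟩ := hpair p.1 p.2
      exact Finset.mem_biUnion.mpr ⟨a, Finset.mem_erase.mpr ⟨h3, Finset.mem_univ _⟩,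
        Finset.mem_filter.mpr ⟨Finset.mem_univ _, h1, h2⟩⟩
    calc Vc * Vc = (Finset.univ : Finset (V × V)).card := by
          rw [hVc, ← Nat.card_prod, Nat.card_eq_fintype_card, Finset.card_univ]
      _ ≤ ∑ g ∈ Finset.univ.erase (1 : A), (S g).card := (Finset.card_le_card hsub).trans Finset.card_biUnion_le
      _ = _ := Finset.sum_congr rfl fun g _ => hS g
  let E := Finset.univ.erase (1 : A)
  let M := E.sup fun g => fc V g ^ 2
  have hM : M ^ 2 ≤ Vc ^ 3 := by
    rcases E.eq_empty_or_nonempty with hE | hE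
    · simp [M, hE]
    · obtain ⟨g, hg, hge⟩ := Finset.exists_mem_eq_sup E hE fun g => fc V g ^ 2
      simp only [M, hge]
      exact hfour g (Finset.mem_erase.mp hg).1
  have hsum : ∑ g ∈ E, fc V g ^ 2 ≤ Nat.card A * Vc + bad.card * M := by
    rw [← Finset.sum_filter_add_sum_filter_not E (fun g => g ∉ bad)]
    refine add_le_add ((Finset.sum_le_card_nsmul _ _ Vc fun g hg => ?_).trans ?_)
      ((Finset.sum_le_card_nsmul _ _ M fun g hg =>
        Finset.le_sup (f := fun g => fc V g ^ 2) (Finset.mem_filter.mp hg).1).trans ?_)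
    · obtain ⟨hgE, hgb⟩ := Finset.mem_filter.mp hg
      by_cases hgC : g ∈ C
      · exact not_lt.mp fun hlt => hgb (Finset.mem_filter.mpr ⟨Finset.mem_univ _, hgC, hlt⟩)
      · exact hout g hgC
    · rw [smul_eq_mul, Nat.card_eq_fintype_card, ← Finset.card_univ]
      exact Nat.mul_le_mul_right _ (Finset.card_le_card (Finset.subset_univ _))
    · rw [smul_eq_mul]
      exact Nat.mul_le_mul_right _ (Finset.card_le_card fun g hg => not_not.mp (Finset.mem_filter.mp hg).2)
  have hN : Nat.card H * w ≤ e ^ 8 := by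
    calc Nat.card H * w ≤ w ^ 3 * w := Nat.mul_le_mul_right _ hH
      _ = e ^ 8 := by rw [hwe]; ring
  have h1 : 2 * Nat.card A ≤ Vc := by
    refine le_trans ?_ hVQ
    have hA' : Nat.card A ≤ Q * Q * e ^ 8 := hA.trans (Nat.mul_le_mul_left _ hN)
    refine (Nat.mul_le_mul_left 2 hA').trans (Nat.pow_le_pow_iff_left (n := 2) (by norm_num) |>.mp ?_)
    calc (2 * (Q * Q * e ^ 8)) ^ 2 = Q ^ 4 * (4 * e ^ 16) := by ring
      _ ≤ Q ^ e * Q ^ e := Nat.mul_le_mul (Nat.pow_le_pow_right (by omega) (by omega)) hkey.le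
      _ = (Q ^ e) ^ 2 := (sq _).symm
  have h2 : 2 * (bad.card * M) < Vc * Vc := by
    refine (Nat.pow_lt_pow_iff_left (n := 2) (by norm_num)).mp ?_
    calc (2 * (bad.card * M)) ^ 2 = 4 * bad.card ^ 2 * M ^ 2 := by ring
      _ ≤ 4 * (e ^ 8) ^ 2 * Vc ^ 3 :=
        Nat.mul_le_mul (Nat.mul_le_mul_left _ (Nat.pow_le_pow_left (hbadcard.trans hN) 2)) hM
      _ = 4 * e ^ 16 * Vc ^ 3 := by ring
      _ < Q ^ e * Vc ^ 3 := Nat.mul_lt_mul_of_pos_right hkey (pow_pos hVpos 3)
      _ ≤ Vc * Vc ^ 3 := Nat.mul_le_mul_right _ hVQ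
      _ = (Vc * Vc) ^ 2 := by ring
  have h3 : 2 * (Nat.card A * Vc) ≤ Vc * Vc := by rw [← mul_assoc]; exact Nat.mul_le_mul_right _ h1
  have := hcov.trans hsum
  omega

/-- Pairs when the section is large. -/
theorem count_pair (hsol : Group.IsSolvable A) (hf : Frame A V Z F L) (hw : 4096 ≤ Z.relIndex F)
    (hQ : 3 ≤ Nat.card (genRing (V := V) Z)) : ∃ x y : V, ∀ a : A, a • x = x → a • y = y → a = 1 := by
  have he : 64 ≤ Z.relIndex L := by
    by_contra hlt
    push Not at hlt
    have := Nat.mul_le_mul (Nat.le_of_lt_succ hlt) (Nat.le_of_lt_succ hlt)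
    rw [← hf.sq_index] at this
    omega
  exact count_pair_of_key hsol hf (by omega) hQ (lt_of_lt_of_le (big_pow he) (Nat.pow_le_pow_left hQ _))

end CfsgLib.BaseTwo
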