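import Cfsg.Agent.Lib.BaseTwo.Small
import Cfsg.Agent.Lib.BaseTwo.Count

/-!
Solvable permutation groups of order prime to three have distinguishing colourings with three colours.
-/

set_option autoImplicit false

namespace CfsgLib.BaseTwo

open Subgroup MulAction CfsgLib.OddBase CfsgLib.BaseThree

universe u

/-- A colouring with three colours whose stabilizer acts trivially. -/
def Coloured3 (G ι : Type u) [Group G] [MulAction G ι] : Prop :=
  ∃ c : ι → Fin 3, ∀ g : G, (∀ i : ι, c (g • i) = c i) → ∀ i : ι, g • i = i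

/-- Shifts of a colouring are inequivalent. -/
theorem shift_eq {H p : Type u} [Group H] [Finite H] [MulAction H p] [Nonempty p] (h3 : ¬ 3 ∣ Nat.card H)
    (c : p → Fin 3) {i j : Fin 3} (h : H) (hx : ∀ x : p, i + c x = j + c (h • x)) : i = j := by
  obtain ⟨x⟩ := ‹Nonempty p›
  have hstep : ∀ n : ℕ, c (h ^ n • x) = c x + n • (i - j) := fun n => by
    induction n with
    | zero => simp
    | succ n ih =>
      rw [pow_succ', mul_smul, succ_nsmul, ← add_assoc, ← ih]
      have e := hx (h ^ n • x)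
      calc c (h • h ^ n • x) = (j + c (h • h ^ n • x)) - j := by abel
        _ = _ := by rw [← e]; abel
  have h1 := hstep (Nat.card H)
  rw [pow_card_eq_one', one_smul, left_eq_add] at h1
  have h2 : addOrderOf (i - j) ∣ Nat.gcd (Nat.card H) 3 :=
    Nat.dvd_gcd (addOrderOf_dvd_of_nsmul_eq_zero h1) (addOrderOf_dvd_of_nsmul_eq_zero (by
      generalize i - j = d
      revert d
      decide))
  rw [Nat.gcd_comm, ((Nat.prime_three.coprime_iff_not_dvd).mpr h3).gcd_eq_one, Nat.dvd_one,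
    AddMonoid.addOrderOf_eq_one_iff] at h2
  exact sub_eq_zero.mp h2

/-- Invariant parts are coloured separately. -/
theorem coloured3_split {G ι : Type u} [Group G] [MulAction G ι] (O : Set ι) (hO : ∀ (g : G) i, g • i ∈ O ↔ i ∈ O)
    (h1 : ∀ (p : SubMulAction G ι), (∀ i, i ∈ p ↔ i ∈ O) → Coloured3 G p)
    (h2 : ∀ (p : SubMulAction G ι), (∀ i, i ∈ p ↔ i ∉ O) → Coloured3 G p) : Coloured3 G ι := by
  classical
  let p : SubMulAction G ι := ⟨O, fun g {i} hi => (hO g i).mpr hi⟩
  let q : SubMulAction G ι := ⟨Oᶜ, fun g {i} hi => fun h => hi ((hO g i).mp h)⟩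
  obtain ⟨c, hc⟩ := h1 p fun i => Iff.rfl
  obtain ⟨d, hd⟩ := h2 q fun i => Iff.rfl
  refine ⟨fun i => if h : i ∈ O then c ⟨i, h⟩ else d ⟨i, h⟩, fun g hg i => ?_⟩
  by_cases hi : i ∈ O
  · refine congrArg Subtype.val (hc g (fun j => ?_) ⟨i, hi⟩)
    have := hg (j : ι)
    dsimp only at this
    rwa [dif_pos ((hO g _).mpr j.2), dif_pos (show (j : ι) ∈ O from j.2)] at this
  · refine congrArg Subtype.val (hd g (fun j => ?_) ⟨i, hi⟩)
    have := hg (j : ι)
    dsimp only at this
    rwa [dif_neg (fun h => j.2 ((hO g _).mp h)), dif_neg (show (j : ι) ∉ O from j.2)] at this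

/-- Colour a block system, then each block by one of three inequivalent recolourings. -/
theorem coloured3_blocks {G ι β : Type u} [Group G] [MulAction G ι] [MulAction G β] [IsPretransitive G β]
    [Finite G] (h3 : ¬ 3 ∣ Nat.card G) (π : ι → β) (hπ : ∀ (g : G) i, π (g • i) = g • π i) (b₀ : β)
    (hne : ∃ i, π i = b₀) (hβ : Coloured3 G β)
    (hB : ∀ p : SubMulAction (stabilizer G b₀) ι, (∀ i, i ∈ p ↔ π i = b₀) → Coloured3 (stabilizer G b₀) p) :
    Coloured3 G ι := by
  classical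
  let p : SubMulAction (stabilizer G b₀) ι :=
    ⟨{i | π i = b₀}, fun g {i} (hi : π i = b₀) => show π ((g : G) • i) = b₀ by rw [hπ, hi]; exact g.2⟩
  obtain ⟨S, hS⟩ := hB p fun i => Iff.rfl
  obtain ⟨T, hT⟩ := hβ
  obtain ⟨i₁, hi₁⟩ := hne
  haveI : Nonempty p := ⟨⟨i₁, hi₁⟩⟩
  let σ : Fin 3 → Equiv.Perm (Fin 3) := fun i => Equiv.addLeft i
  have hσ : ∀ (i j : Fin 3) (h : stabilizer G b₀), (∀ x : p, σ i (S x) = σ j (S (h • x))) → i = j :=
    fun i j h hx => shift_eq (fun hd => h3 (hd.trans (card_subgroup_dvd_card _))) S h hx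
  choose t ht using fun b : β => exists_smul_eq G b₀ b
  have hmem : ∀ i : ι, π ((t (π i))⁻¹ • i) = b₀ := fun i => by rw [hπ, inv_smul_eq_iff]; exact (ht _).symm
  let c : ι → p := fun i => ⟨(t (π i))⁻¹ • i, hmem i⟩
  refine ⟨fun i => σ (T (π i)) (S (c i)), fun g hg => ?_⟩
  have hh : ∀ b : β, (t (g • b))⁻¹ * g * t b ∈ stabilizer G b₀ := fun b => by
    rw [mem_stabilizer_iff, mul_smul, mul_smul, ht, inv_smul_eq_iff, ht]
  have hc : ∀ i, c (g • i) = (⟨_, hh (π i)⟩ : stabilizer G b₀) • c i := fun i => Subtype.ext (by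
    show (t (π (g • i)))⁻¹ • g • i = ((t (g • π i))⁻¹ * g * t (π i)) • (t (π i))⁻¹ • i
    rw [hπ, mul_smul, mul_smul, smul_inv_smul])
  have key : ∀ b (x : p), σ (T (g • b)) (S ((⟨_, hh b⟩ : stabilizer G b₀) • x)) = σ (T b) (S x) := by
    intro b x
    have h1 : π (t b • (x : ι)) = b := by rw [hπ, show π (x : ι) = b₀ from x.2, ht]
    obtain ⟨i, rfl, rfl⟩ : ∃ i, π i = b ∧ c i = x := by
      refine ⟨t b • (x : ι), h1, Subtype.ext ?_⟩
      show (t (π (t b • (x : ι))))⁻¹ • t b • (x : ι) = x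
      rw [h1, inv_smul_smul]
    have h2 := hg i
    simp only [hc, hπ] at h2
    exact h2
  have hfix : ∀ b, T (g • b) = T b := fun b => (hσ _ _ _ fun x => (key b x).symm).symm
  intro i
  have hb : g • π i = π i := hT g hfix (π i)
  let h : stabilizer G b₀ := ⟨_, hh (π i)⟩
  have h1 : ∀ x : p, S (h • x) = S x := fun x => (σ (T (π i))).injective (by
    have := key (π i) x
    rwa [hfix (π i)] at this)
  have h2 := congrArg Subtype.val (hS h h1 (c i))
  simp only [h, c] at h2
  change ((t (g • π i))⁻¹ * g * t (π i)) • (t (π i))⁻¹ • i = (t (π i))⁻¹ • i at h2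
  rw [hb, mul_smul, mul_smul, smul_inv_smul] at h2
  exact smul_left_cancel _ h2

section
variable {G ι : Type u} [Group G] [Finite G] [MulAction G ι] [Finite ι]

/-- A regular normal subgroup whose point stabilizer has two base points. -/
theorem affine_two [FaithfulSMul G ι] (h3 : ¬ 3 ∣ Nat.card G) {N : Subgroup G} [N.Normal]
    (hab : ∀ x ∈ N, ∀ y ∈ N, x * y = y * x) (htr : ∀ i j : ι, ∃ n ∈ N, n • i = j) (i₀ : ι)
    (hinj : ∀ x y : N, (x : G) • i₀ = (y : G) • i₀ → x = y) {v w : N}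
    (hbase : ∀ g : G, g • i₀ = i₀ → g * v * g⁻¹ = v → g * w * g⁻¹ = w → ∀ i : ι, g • i = i) :
    Coloured3 G ι := by
  classical
  let pt : N → ι := fun n => (n : G) • i₀
  have hpt1 : pt 1 = i₀ := one_smul G i₀
  have hconj : ∀ g : G, g • i₀ = i₀ → ∀ n : N, g • pt n = pt n → g * n * g⁻¹ = n := fun g hg n hn =>
    congrArg Subtype.val (hinj ⟨g * n * g⁻¹, (inferInstance : N.Normal).conj_mem _ n.2 g⟩ n (by
      show (g * (n : G) * g⁻¹) • i₀ = pt n
      rw [mul_smul, mul_smul, show g⁻¹ • i₀ = i₀ by rw [inv_smul_eq_iff, hg]]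
      exact hn))
  by_cases hsingle : ∃ u : N, ∀ g : G, g • i₀ = i₀ → g * u * g⁻¹ = u → ∀ i : ι, g • i = i
  · obtain ⟨u, hu⟩ := hsingle
    refine ⟨fun i => if i = i₀ then 1 else if i = pt u then 2 else 0, fun g hg => ?_⟩
    have h0 : g • i₀ = i₀ := by
      have := hg i₀
      simp only [if_pos] at this
      by_contra h
      rw [if_neg h] at this
      split_ifs at this <;> simp at this
    refine hu g h0 (hconj g h0 u ?_)
    by_cases he : pt u = i₀
    · rw [he, h0]
    have := hg (pt u)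
    simp only [if_neg he, if_pos] at this
    have he' : g • pt u ≠ i₀ := fun e => he (MulAction.injective g (e.trans h0.symm))
    rw [if_neg he'] at this
    by_contra h
    rw [if_neg h] at this
    simp at this
  push Not at hsingle
  have hnv : ∀ u : N, (∀ g : G, g * u * g⁻¹ = u → g * v * g⁻¹ = v ∧ g * w * g⁻¹ = w) → False := fun u hu => by
    obtain ⟨g, hg, hgu, i, hi⟩ := hsingle u
    exact hi (hbase g hg (hu g hgu).1 (hu g hgu).2 i)
  have hv1 : v ≠ 1 := fun e => hnv w fun g hg => ⟨by rw [e]; simp, hg⟩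
  have hw1 : w ≠ 1 := fun e => hnv v fun g hg => ⟨hg, by rw [e]; simp⟩
  have hwv : ∀ k : ℤ, (w : G) ≠ (v : G) ^ k := fun k e => hnv v fun g hg => ⟨hg, by rw [e, ← conj_zpow, hg]⟩
  -- one of two colourings works
  by_contra hcon
  have hbad : ∀ a : N, a ≠ 1 → a ≠ v → (∀ g : G, g * v * g⁻¹ = v → g * a * g⁻¹ = a → g * w * g⁻¹ = w) →
      ∃ M : G, M • i₀ = i₀ ∧ M * a * M⁻¹ = (a : G)⁻¹ ∧ M * v * M⁻¹ = (v : G) * (a : G)⁻¹ := by
    intro a ha1 hav hrec
    have hpa : pt a ≠ i₀ := fun e => ha1 (hinj a 1 (e.trans hpt1.symm))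
    have hpv : pt v ≠ i₀ := fun e => hv1 (hinj v 1 (e.trans hpt1.symm))
    have hpav : pt a ≠ pt v := fun e => hav (hinj a v e)
    let c : ι → Fin 3 := fun i => if i = pt v then 2 else if i = i₀ ∨ i = pt a then 1 else 0
    obtain ⟨g, hg, i, hi⟩ : ∃ g : G, (∀ i, c (g • i) = c i) ∧ ∃ i, g • i ≠ i := by
      by_contra h
      push Not at h
      exact hcon ⟨c, h⟩
    have hgv : g • pt v = pt v := by
      have := hg (pt v)
      simp only [c, if_pos] at this
      by_contra h
      rw [if_neg h] at this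
      split_ifs at this <;> simp at this
    have h01 : ∀ j, j = i₀ ∨ j = pt a → g • j = i₀ ∨ g • j = pt a := fun j hj => by
      have := hg j
      have hjv : j ≠ pt v := by rcases hj with rfl | rfl; exacts [fun e => hpv e.symm, hpav]
      simp only [c, if_neg hjv, if_pos hj] at this
      have hgjv : g • j ≠ pt v := fun e => hjv (MulAction.injective g (e.trans hgv.symm))
      rw [if_neg hgjv] at this
      by_contra h
      rw [if_neg h] at this
      simp at this
    rcases h01 i₀ (Or.inl rfl) with h0 | h0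
    · exfalso
      have hga : g • pt a = pt a := (h01 (pt a) (Or.inr rfl)).resolve_left fun e =>
        hpa (MulAction.injective g (e.trans h0.symm))
      exact hi (hbase g h0 (hconj g h0 v hgv) (hrec g (hconj g h0 v hgv) (hconj g h0 a hga)) i)
    · have hga : g • pt a = i₀ := (h01 (pt a) (Or.inr rfl)).resolve_right fun e =>
        hpa (MulAction.injective g (e.trans h0.symm))
      refine ⟨(a : G)⁻¹ * g, by rw [mul_smul, h0]; exact inv_smul_smul (a : G) i₀, ?_, ?_⟩
      · let x : N := ⟨(a : G)⁻¹ * g * a * ((a : G)⁻¹ * g)⁻¹, (inferInstance : N.Normal).conj_mem _ a.2 _⟩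
        refine congrArg Subtype.val (hinj x a⁻¹ ?_)
        show ((a : G)⁻¹ * g * a * ((a : G)⁻¹ * g)⁻¹) • i₀ = ((a⁻¹ : N) : G) • i₀
        rw [mul_smul, show ((a : G)⁻¹ * g)⁻¹ • i₀ = i₀ by
          rw [inv_smul_eq_iff, mul_smul, h0]; exact (inv_smul_smul (a : G) i₀).symm]
        rw [mul_smul, mul_smul]
        show (a : G)⁻¹ • g • pt a = _
        rw [hga]
        rfl
      · let x : N := ⟨(a : G)⁻¹ * g * v * ((a : G)⁻¹ * g)⁻¹, (inferInstance : N.Normal).conj_mem _ v.2 _⟩
        refine congrArg Subtype.val (hinj x (v * a⁻¹) ?_)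
        show ((a : G)⁻¹ * g * v * ((a : G)⁻¹ * g)⁻¹) • i₀ = ((v * a⁻¹ : N) : G) • i₀
        rw [mul_smul, show ((a : G)⁻¹ * g)⁻¹ • i₀ = i₀ by
          rw [inv_smul_eq_iff, mul_smul, h0]; exact (inv_smul_smul (a : G) i₀).symm]
        rw [mul_smul, mul_smul]
        show (a : G)⁻¹ • g • pt v = _
        rw [hgv]
        push_cast
        rw [hab v v.2 _ (N.inv_mem a.2), mul_smul]
  obtain ⟨M₁, h10, h1a, h1v⟩ := hbad w hw1 (fun e => hwv 1 (by rw [e, zpow_one])) fun g _ h => h
  obtain ⟨M₂, h20, h2a, h2v⟩ := hbad (w * v) (fun e => hwv (-1) (by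
      rw [zpow_neg, zpow_one]
      exact eq_inv_of_mul_eq_one_left (congrArg Subtype.val e)))
    (fun e => hw1 (mul_eq_right.mp e)) fun g hv' h => by
      push_cast at h
      rw [← _root_.conj_mul, hv'] at h
      exact mul_right_cancel h
  push_cast at h2a h2v
  -- their product has order divisible by three
  obtain ⟨h, hh⟩ : ∃ h : G, h = M₁ * M₂ := ⟨_, rfl⟩
  have h2v' : M₂ * v * M₂⁻¹ = (w : G)⁻¹ := by rw [h2v, mul_inv_rev, mul_inv_cancel_left]
  have h2w : M₂ * w * M₂⁻¹ = (v : G)⁻¹ := by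
    rw [← _root_.conj_mul, h2v', mul_inv_rev] at h2a
    exact mul_right_cancel h2a
  have ev : h * v * h⁻¹ = w := by
    rw [show h * v * h⁻¹ = M₁ * (M₂ * v * M₂⁻¹) * M₁⁻¹ by rw [hh]; group, h2v', ← conj_inv, h1a, inv_inv]
  have ew : h * w * h⁻¹ = (w : G) * (v : G)⁻¹ := by
    rw [show h * w * h⁻¹ = M₁ * (M₂ * w * M₂⁻¹) * M₁⁻¹ by rw [hh]; group, h2w, ← conj_inv, h1v, mul_inv_rev, inv_inv]
  have hstep : ∀ {x : N} {y : G} (n : ℕ), h ^ n * x * (h ^ n)⁻¹ = y → h ^ (n + 1) * x * (h ^ (n + 1))⁻¹ = h * y * h⁻¹ :=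
    fun {x y} n e => by rw [← e, pow_succ']; group
  have e2 : h ^ 2 * v * (h ^ 2)⁻¹ = (w : G) * (v : G)⁻¹ := by
    rw [hstep (y := (w : G)) 1 (by rw [pow_one]; exact ev), ew]
  have e3 : h ^ 3 * v * (h ^ 3)⁻¹ = (v : G)⁻¹ := by
    rw [hstep 2 e2, ← _root_.conj_mul, ew, ← conj_inv, ev, hab _ w.2 _ (N.inv_mem v.2), mul_inv_cancel_right]
  have e6 : h ^ 6 * v * (h ^ 6)⁻¹ = v := by
    rw [show h ^ 6 * v * (h ^ 6)⁻¹ = h ^ 3 * (h ^ 3 * v * (h ^ 3)⁻¹) * (h ^ 3)⁻¹ by group, e3, ← conj_inv, e3, inv_inv]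
  have f6 : h ^ 6 * w * (h ^ 6)⁻¹ = w := by
    have := hstep 6 e6
    rw [ev] at this
    rw [← ev]
    calc h ^ 6 * (h * v * h⁻¹) * (h ^ 6)⁻¹ = h * (h ^ 6 * v * (h ^ 6)⁻¹) * h⁻¹ := by group
      _ = _ := by rw [e6]
  have hh0 : h • i₀ = i₀ := by rw [hh, mul_smul, h20, h10]
  have hpow : ∀ n : ℕ, h ^ n • i₀ = i₀ := fun n => by
    induction n with
    | zero => rw [pow_zero, one_smul]
    | succ n ih => rw [pow_succ, mul_smul, hh0, ih]
  have h61 : (h ^ 2) ^ 3 = 1 := eq_of_smul_eq_smul (α := ι) fun i => by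
    rw [one_smul, ← pow_mul]; exact hbase _ (hpow 6) e6 f6 i
  have h21 : h ^ 2 ≠ 1 := fun e => by
    rw [e, one_mul, inv_one, mul_one] at e2
    refine hwv 2 ?_
    rw [zpow_two]
    exact (eq_mul_inv_iff_mul_eq.mp e2).symm
  haveI : Fact (Nat.Prime 3) := ⟨Nat.prime_three⟩
  exact h3 (orderOf_eq_prime h61 h21 ▸ orderOf_dvd_natCard _)

/-- A large regular normal subgroup: count the colourings that are kept. -/
theorem affine_count [FaithfulSMul G ι] {N : Subgroup G} (htr : ∀ i j : ι, ∃ n ∈ N, n • i = j)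
    (hab : ∀ x ∈ N, ∀ y ∈ N, x * y = y * x) [N.Normal] (hN : 64 ≤ Nat.card ι)
    (hG : Nat.card G ≤ Nat.card ι ^ 4) : Coloured3 G ι := by
  classical
  haveI : Fintype G := Fintype.ofFinite _
  haveI : Fintype ι := Fintype.ofFinite _
  by_contra hcon
  simp only [Coloured3, not_exists, not_forall] at hcon
  let S : G → Finset (ι → Fin 3) := fun g => Finset.univ.filter fun c => ∀ i, c (g • i) = c i
  let B : Finset G := Finset.univ.filter fun g => ∃ i : ι, g • i ≠ i
  set n := Nat.card ι with hn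
  have hfix : ∀ g ∈ B, 2 * (Finset.univ.filter fun i : ι => g • i = i).card ≤ n := by
    intro g hgB
    obtain ⟨-, i₁, hi₁⟩ := Finset.mem_filter.mp hgB
    rcases (Finset.univ.filter fun i : ι => g • i = i).eq_empty_or_nonempty with he | ⟨j, hj⟩
    · rw [he]; simp
    have hj' : g • j = j := (Finset.mem_filter.mp hj).2
    obtain ⟨b, hb, hbj⟩ := htr j i₁
    have hgb : g * b * g⁻¹ ≠ b := fun e => hi₁ (by
      rw [← hbj, ← mul_smul, mul_inv_eq_iff_eq_mul.mp e, mul_smul, hj'])
    have hdis : Disjoint (Finset.univ.filter fun i : ι => g • i = i)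
        ((Finset.univ.filter fun i : ι => g • i = i).image (b • ·)) := Finset.disjoint_left.mpr fun x hx hx' => by
      obtain ⟨y, hy, rfl⟩ := Finset.mem_image.mp hx'
      have h1 : g • b • y = b • y := (Finset.mem_filter.mp hx).2
      rw [← mul_smul, show g * b = g * b * g⁻¹ * g by group, mul_smul, (Finset.mem_filter.mp hy).2] at h1
      refine hgb (eq_of_smul_eq_smul (α := ι) fun i => ?_)
      obtain ⟨m, hm, rfl⟩ := htr y i
      rw [← mul_smul, ← mul_smul, hab _ ((inferInstance : N.Normal).conj_mem b hb g) m hm, hab b hb m hm,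
        mul_smul m, mul_smul m, h1]
    have := (Finset.card_union_of_disjoint hdis).symm.trans_le (Finset.card_le_univ _)
    rw [Finset.card_image_of_injective _ (MulAction.injective b), ← Nat.card_eq_fintype_card] at this
    omega
  have hS : ∀ g ∈ B, (S g).card ^ 4 ≤ 3 ^ (3 * n) := by
    intro g hgB
    let r := MulAction.orbitRel (zpowers g) ι
    haveI : Fintype (Quotient r) := Fintype.ofFinite _
    have hQ : 2 * Fintype.card (Quotient r) ≤ n + (Finset.univ.filter fun i : ι => g • i = i).card := by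
      have hsplit : n + (Finset.univ.filter fun i : ι => g • i = i).card =
          ∑ q : Quotient r, ((Finset.univ.filter fun i : ι => Quotient.mk r i = q).card +
            ((Finset.univ.filter fun i : ι => g • i = i).filter fun i => Quotient.mk r i = q).card) := by
        rw [Finset.sum_add_distrib, ← Finset.card_eq_sum_card_fiberwise (fun _ _ => Finset.mem_univ _),
          ← Finset.card_eq_sum_card_fiberwise (fun _ _ => Finset.mem_univ _), Finset.card_univ, hn,
          Nat.card_eq_fintype_card]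
      rw [hsplit, mul_comm, ← smul_eq_mul, ← Finset.card_univ]
      refine Finset.card_nsmul_le_sum _ _ 2 fun q _ => ?_
      obtain ⟨i, rfl⟩ := Quotient.exists_rep q
      by_cases hi : g • i = i
      · refine add_le_add (a := 1) (c := 1) (Finset.card_pos.mpr ⟨i, ?_⟩) (Finset.card_pos.mpr ⟨i, ?_⟩) <;> simp [hi]
      · refine le_trans ?_ (Nat.le_add_right _ _)
        rw [← Finset.card_pair (Ne.symm hi)]
        refine Finset.card_le_card fun x hx => Finset.mem_filter.mpr ⟨Finset.mem_univ _, ?_⟩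
        rcases Finset.mem_insert.mp hx with rfl | hx
        · rfl
        · rw [Finset.mem_singleton.mp hx]
          exact Quotient.sound ⟨⟨g, mem_zpowers g⟩, rfl⟩
    have hinj : (S g).card ≤ 3 ^ Fintype.card (Quotient r) := by
      have : Fintype.card (Quotient r → Fin 3) = 3 ^ Fintype.card (Quotient r) := by simp
      rw [← this, ← Finset.card_univ]
      refine Finset.card_le_card_of_injOn (fun c q => c q.out) (fun _ _ => Finset.mem_univ _) fun c hc d hd e => ?_
      have key : ∀ c : ι → Fin 3, c ∈ S g → ∀ i, c (Quotient.mk r i).out = c i := fun c hc i => by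
        obtain ⟨⟨x, hx⟩, hxe⟩ := Quotient.mk_out (s := r) i
        have hxe' : x • i = (Quotient.mk r i).out := hxe
        rw [← hxe']
        let K : Subgroup G :=
          { carrier := {y | ∀ j, c (y • j) = c j}
            one_mem' := fun j => by rw [one_smul]
            mul_mem' := fun {a b} ha hb j => by rw [mul_smul, ha, hb]
            inv_mem' := fun {a} ha j => by rw [← ha, smul_inv_smul] }
        have hgK : g ∈ K := (Finset.mem_filter.mp hc).2
        have hinv : x ∈ K := zpowers_le.mpr hgK hx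
        exact hinv i
      funext i
      rw [← key c hc i, ← key d hd i]
      exact congrFun e _
    calc (S g).card ^ 4 ≤ (3 ^ Fintype.card (Quotient r)) ^ 4 := Nat.pow_le_pow_left hinj 4
      _ = 3 ^ (Fintype.card (Quotient r) * 4) := (pow_mul _ _ _).symm
      _ ≤ _ := Nat.pow_le_pow_right (by norm_num) (by have := hfix g hgB; omega)
  have hcov : (Finset.univ : Finset (ι → Fin 3)) ⊆ B.biUnion S := fun c _ => by
    obtain ⟨g, hg, i, hi⟩ := hcon c
    exact Finset.mem_biUnion.mpr ⟨g, Finset.mem_filter.mpr ⟨Finset.mem_univ _, i, hi⟩,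
      Finset.mem_filter.mpr ⟨Finset.mem_univ _, hg⟩⟩
  obtain ⟨c₀⟩ : Nonempty (ι → Fin 3) := inferInstance
  have hBne : B.Nonempty := by
    obtain ⟨g, hg, -⟩ := Finset.mem_biUnion.mp (hcov (Finset.mem_univ c₀))
    exact ⟨g, hg⟩
  obtain ⟨g₀, hg₀, hmax⟩ := Finset.exists_max_image B (fun g => (S g).card) hBne
  have h1 := (Finset.card_le_card hcov).trans (Finset.card_biUnion_le.trans
    (Finset.sum_le_card_nsmul _ _ _ hmax))
  rw [Finset.card_univ, Fintype.card_fun, Fintype.card_fin, smul_eq_mul, ← Nat.card_eq_fintype_card] at h1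
  have h2 : B.card ≤ n ^ 4 := le_trans (Finset.card_le_univ _) (by rwa [← Nat.card_eq_fintype_card])
  have h3 : (n ^ 4) ^ 4 < 3 ^ n := by
    have := big_pow hN
    have h5 : (n ^ 4) ^ 4 = n ^ 16 := by ring
    omega
  have h4 := (Nat.pow_le_pow_left h1 4).trans
    ((mul_pow _ _ _).le.trans (Nat.mul_le_mul (Nat.pow_le_pow_left h2 4) (hS g₀ hg₀)))
  have h6 : (3 ^ n) ^ 4 = 3 ^ n * 3 ^ (3 * n) := by rw [← pow_mul, ← pow_add]; ring_nf
  rw [h6] at h4
  exact absurd (Nat.le_of_mul_le_mul_right h4 (by positivity)) (not_le.mpr h3)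

end

set_option maxHeartbeats 400000 in
/-- A regular minimal normal subgroup. -/
theorem coloured3_affine {G ι : Type u} [Group G] [Finite G] [MulAction G ι] [Finite ι] [FaithfulSMul G ι]
    (hsol : Group.IsSolvable G) (h3 : ¬ 3 ∣ Nat.card G) {N : Subgroup G} [N.Normal] (hN : N ≠ ⊥)
    (hab : ∀ x ∈ N, ∀ y ∈ N, x * y = y * x)
    (hmin : ∀ L : Subgroup G, L.Normal → L ≤ N → L = ⊥ ∨ L = N) (htr : ∀ i j : ι, ∃ n ∈ N, n • i = j)
    (i₀ : ι) : Coloured3 G ι := by
  classical
  let H := stabilizer G i₀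
  letI : CommGroup N := { (inferInstance : Group N) with mul_comm := fun x y => Subtype.ext (hab x x.2 y y.2) }
  letI : MulDistribMulAction H N :=
    MulDistribMulAction.compHom N ((MulAut.conjNormal : G →* MulAut N).comp H.subtype)
  have hcoe : ∀ (h : H) (x : N), ((h • x : N) : G) = (h : G) * x * (h : G)⁻¹ := fun h x => rfl
  have hfree : ∀ n ∈ N, n • i₀ = i₀ → n = 1 := fun n hn h => eq_of_smul_eq_smul (α := ι) fun i => by
    obtain ⟨m, hm, rfl⟩ := htr i₀ i
    rw [one_smul, ← mul_smul, hab n hn m hm, mul_smul, h]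
  have hinj : ∀ x y : N, (x : G) • i₀ = (y : G) • i₀ → x = y := fun x y h => by
    have h1 : y⁻¹ * x = 1 := Subtype.ext (hfree _ (y⁻¹ * x).2 (by
      push_cast
      rw [mul_smul, h, inv_smul_smul]))
    exact (inv_mul_eq_one.mp h1).symm
  have hcard : Nat.card N = Nat.card ι := Nat.card_congr (Equiv.ofBijective (fun x : N => (x : G) • i₀)
    ⟨fun x y e => hinj x y e, fun i => by
      obtain ⟨n, hn, e⟩ := htr i₀ i
      exact ⟨⟨n, hn⟩, e⟩⟩)
  have hirr : ∀ U : Subgroup N, (∀ h : H, ∀ x ∈ U, h • x ∈ U) → U = ⊥ ∨ U = ⊤ := by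
    intro U hU
    have hLn : (U.map N.subtype).Normal := ⟨fun x hx g => by
      obtain ⟨u, hu, rfl⟩ := hx
      obtain ⟨n, hn, hni⟩ := htr i₀ (g • i₀)
      have hk : n⁻¹ * g ∈ H := by rw [mem_stabilizer_iff, mul_smul, ← hni, inv_smul_smul]
      refine ⟨(⟨_, hk⟩ : H) • u, hU ⟨_, hk⟩ u hu, ?_⟩
      rw [Subgroup.coe_subtype, hcoe]
      have h2 := hab n hn _ ((inferInstance : N.Normal).conj_mem _ u.2 (n⁻¹ * g))
      simp only [Subgroup.coe_subtype] at h2 ⊢
      calc n⁻¹ * g * ↑u * (n⁻¹ * g)⁻¹ = n * (n⁻¹ * g * ↑u * (n⁻¹ * g)⁻¹) * n⁻¹ := by rw [h2, mul_inv_cancel_right]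
        _ = g * ↑u * g⁻¹ := by group⟩
    rcases hmin _ hLn (Subgroup.map_subtype_le _) with h | h
    · exact Or.inl ((Subgroup.map_eq_bot_iff_of_injective _ N.subtype_injective).mp h)
    · refine Or.inr (eq_top_iff.mpr fun x _ => ?_)
      obtain ⟨y, hy, e⟩ := h.ge x.2
      exact (Subtype.ext e : y = x) ▸ hy
  haveI := hsol
  have htriv : ∀ g : G, ∀ hg : g • i₀ = i₀, (∀ x : N, (⟨g, hg⟩ : H) • x = x) → ∀ i : ι, g • i = i :=
    fun g hg hfix i => by
      obtain ⟨n, hn, rfl⟩ := htr i₀ i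
      have := congrArg Subtype.val (hfix ⟨n, hn⟩)
      rw [hcoe] at this
      rw [← mul_smul, mul_inv_eq_iff_eq_mul.mp this, mul_smul, hg]
  by_cases hlt : Nat.card N < 64
  · obtain ⟨r, hr, hrd⟩ := Nat.exists_prime_and_dvd (n := Nat.card N) (by
      have := (Subgroup.one_lt_card_iff_ne_bot N).mpr hN
      omega)
    haveI : Fact r.Prime := ⟨hr⟩
    have hexp : ∀ x : N, x ^ r = 1 := by
      let U : Subgroup N := (powMonoidHom r : N →* N).ker
      rcases hirr U (fun h x (hx : x ^ r = 1) => show (h • x) ^ r = 1 by rw [← smul_pow', hx, smul_one]) with h | h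
      · obtain ⟨x, hx⟩ := exists_prime_orderOf_dvd_card' (G := N) r hrd
        have h0 : x ∈ U := show x ^ r = 1 by rw [← hx, pow_orderOf_eq_one]
        rw [h, Subgroup.mem_bot] at h0
        rw [h0, orderOf_one] at hx
        exact absurd hx.symm hr.ne_one
      · exact fun x => h.ge (Subgroup.mem_top x)
    obtain ⟨v, w, hvw⟩ := small_two (H := H) inferInstance
      (fun h => h3 (h.trans (card_subgroup_dvd_card _))) hr
      (fun e => h3 (e ▸ hrd.trans (card_subgroup_dvd_card _))) hexp hlt hirr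
    exact affine_two h3 hab htr i₀ hinj fun g hg h1 h2 => htriv g hg
      (hvw ⟨g, hg⟩ (Subtype.ext h1) (Subtype.ext h2))
  letI : DistribMulAction H (Additive N) :=
    { smul := fun h x => Additive.ofMul (h • Additive.toMul x)
      one_smul := fun x => congrArg Additive.ofMul (one_smul H (Additive.toMul x))
      mul_smul := fun a b x => congrArg Additive.ofMul (mul_smul a b (Additive.toMul x))
      smul_zero := fun a => congrArg Additive.ofMul (smul_one a)
      smul_add := fun a x y => congrArg Additive.ofMul (smul_mul' a (Additive.toMul x) (Additive.toMul y)) }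
  have hcr : CR H (Additive N) := fun U hU => by
    rcases hirr (AddSubgroup.toSubgroup' U) (fun h x hx => hU h (Additive.ofMul x) hx) with h | h
    · obtain rfl : U = ⊥ := eq_bot_iff.mpr fun x hx => AddSubgroup.mem_bot.mpr
        (Additive.toMul.injective (Subgroup.mem_bot.mp (h.le (show Additive.toMul x ∈ AddSubgroup.toSubgroup' U from hx))))
      exact ⟨⊤, fun _ _ _ => trivial, bot_inf_eq _, bot_sup_eq _⟩
    · obtain rfl : U = ⊤ := eq_top_iff.mpr fun x _ =>
        (h.ge (Subgroup.mem_top (Additive.toMul x)) : Additive.toMul x ∈ AddSubgroup.toSubgroup' U)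
      exact ⟨⊥, fun a v hv => by rw [AddSubgroup.mem_bot] at hv ⊢; rw [hv, smul_zero], inf_bot_eq _, sup_bot_eq _⟩
  obtain ⟨t, ht⟩ := ih3_all.{u} (Nat.card H + 1) H (Additive N) (Nat.lt_succ_self _) inferInstance hcr
  refine affine_count htr hab (by omega) ?_
  have hHle : Nat.card H ≤ Nat.card N ^ 3 := by
    refine (Nat.card_le_card_of_injective (fun h : H => fun k : Fin 3 => h • Additive.toMul (t k)) fun g g' e => ?_).trans
      (by rw [Nat.card_pi, Fin.prod_const])
    have h1 : ∀ k, (g'⁻¹ * g) • t k = t k := fun k => congrArg Additive.ofMul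
      (show (g'⁻¹ * g) • Additive.toMul (t k) = Additive.toMul (t k) by
        rw [mul_smul, inv_smul_eq_iff]; exact congrFun e k)
    have h2 := htriv _ (g'⁻¹ * g).2 fun x => congrArg Additive.toMul (ht (g'⁻¹ * g) h1 (Additive.ofMul x))
    have h3' : g'⁻¹ * g = 1 := Subtype.ext (eq_of_smul_eq_smul (α := ι) fun i => by
      rw [h2 i]; exact (one_smul G i).symm)
    exact (inv_mul_eq_one.mp h3').symm
  have horb : Nat.card (G ⧸ H) ≤ Nat.card ι := by
    refine Nat.card_le_card_of_injective (fun q : G ⧸ H => q.out • i₀) fun p q e => ?_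
    rw [← Quotient.out_eq p, ← Quotient.out_eq q]
    refine QuotientGroup.eq.mpr ?_
    show (p.out⁻¹ * q.out) • i₀ = i₀
    rw [mul_smul, inv_smul_eq_iff]
    exact e.symm
  rw [hcard] at hHle
  calc Nat.card G = Nat.card (G ⧸ H) * Nat.card H := H.card_eq_card_quotient_mul_card_subgroup
    _ ≤ Nat.card ι * Nat.card ι ^ 3 := Nat.mul_le_mul horb hHle
    _ = _ := by ring

/-- A solvable group has such a colouring on any finite set. -/
theorem coloured3_all : ∀ (k : ℕ) (G ι : Type u) [Group G] [Finite G] [MulAction G ι]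
    [Finite ι], Nat.card ι = k → ¬ 3 ∣ Nat.card G → Group.IsSolvable G → Coloured3 G ι := by
  intro k
  induction k using Nat.strong_induction_on with
  | _ k ihk =>
  intro G ι _ _ _ _ hk hGM hsol
  classical
  by_cases hsub : Subsingleton ι
  · exact ⟨fun _ => 0, fun g _ i => Subsingleton.elim _ _⟩
  rw [not_subsingleton_iff_nontrivial] at hsub
  by_cases htrans : IsPretransitive G ι
  swap
  · obtain ⟨i₀⟩ : Nonempty ι := inferInstance
    have hO : ∀ (g : G) i, g • i ∈ orbit G i₀ ↔ i ∈ orbit G i₀ := fun g i => by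
      rw [← orbit_eq_iff, orbit_smul, orbit_eq_iff]
    have hlt : ∀ s : Set ι, s ≠ Set.univ → Nat.card s < k := fun s hs => hk ▸ by
      rw [Nat.card_coe_set_eq, ← Set.ncard_univ]
      exact Set.ncard_lt_ncard (Set.ssubset_univ_iff.mpr hs)
    refine coloured3_split (orbit G i₀) hO (fun p hp => ?_) fun p hp => ?_
    · refine ihk _ (hlt p fun h => htrans ⟨fun x y => ?_⟩) G p rfl hGM hsol
      obtain ⟨a, rfl⟩ := (hp x).mp (h.ge trivial)
      obtain ⟨b, rfl⟩ := (hp y).mp (h.ge trivial)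
      exact ⟨b * a⁻¹, by rw [mul_smul, inv_smul_smul]⟩
    · exact ihk _ (hlt p fun h => (hp i₀).mp (h.ge trivial) (mem_orbit_self i₀)) G p rfl hGM hsol
  let Gb : Subgroup (Equiv.Perm ι) := (MulAction.toPermHom G ι).range
  suffices h : Coloured3 Gb ι by
    obtain ⟨S, hS⟩ := h
    exact ⟨S, fun g hg i => hS ⟨_, g, rfl⟩ hg i⟩
  have hsol' : Group.IsSolvable Gb := Group.isSolvable_of_surjective (MulAction.toPermHom G ι).rangeRestrict_surjective
  have hGbM : ¬ 3 ∣ Nat.card Gb := fun h => hGM (h.trans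
    (Subgroup.card_dvd_of_surjective _ (MulAction.toPermHom G ι).rangeRestrict_surjective))
  haveI : IsPretransitive Gb ι := ⟨fun x y => by
    obtain ⟨g, hg⟩ := exists_smul_eq G x y
    exact ⟨⟨_, g, rfl⟩, hg⟩⟩
  haveI : Nontrivial Gb := by
    obtain ⟨x, y, hxy⟩ := hsub
    obtain ⟨g, hg⟩ := exists_smul_eq Gb x y
    exact ⟨⟨g, 1, fun h => hxy (by rw [← hg, h, one_smul])⟩⟩
  obtain ⟨N, hNn, -, hN, hab, hmin⟩ := exists_minimal_abelian (G := Gb) (N := ⊤) top_ne_bot
  haveI := hNn
  obtain ⟨i₀⟩ : Nonempty ι := inferInstance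
  by_cases hNt : ∀ i j : ι, ∃ n ∈ N, n • i = j
  · exact coloured3_affine hsol' hGbM hN hab hmin hNt i₀
  -- the orbits of the normal subgroup are blocks
  let r : Setoid ι := orbitRel N ι
  have hr : ∀ (g : Gb) {x y : ι}, r x y → r (g • x) (g • y) := by
    rintro g x y ⟨n, rfl⟩
    exact ⟨⟨g * n * g⁻¹, hNn.conj_mem _ n.2 g⟩, show ((g * n * g⁻¹ : Gb)) • g • y = g • (n : Gb) • y by
      rw [mul_smul, mul_smul, inv_smul_smul]⟩
  letI : MulAction Gb (Quotient r) :=
    { smul := fun g => Quotient.map' (g • ·) fun x y h => hr g h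
      one_smul := fun q => Quotient.inductionOn' q fun x => congrArg (Quotient.mk r) (one_smul _ x)
      mul_smul := fun a b q => Quotient.inductionOn' q fun x => congrArg (Quotient.mk r) (mul_smul a b x) }
  haveI : IsPretransitive Gb (Quotient r) := ⟨fun a b => Quotient.inductionOn₂' a b fun x y => by
    obtain ⟨g, hg⟩ := exists_smul_eq Gb x y
    exact ⟨g, congrArg (Quotient.mk r) hg⟩⟩
  obtain ⟨n, hn, hn1⟩ := N.bot_or_exists_ne_one.resolve_left hN
  obtain ⟨i, hi⟩ : ∃ i : ι, n • i ≠ i := by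
    by_contra h
    push Not at h
    exact hn1 (eq_of_smul_eq_smul (α := ι) fun i => by rw [one_smul, h i])
  have hquot : Nat.card (Quotient r) < k := by
    rw [← hk]
    refine lt_of_le_of_ne (Nat.card_le_card_of_surjective _ Quotient.mk''_surjective) fun h => hi ?_
    have hb := (Nat.bijective_iff_surjective_and_card (Quotient.mk'' : ι → Quotient r)).mpr
      ⟨Quotient.mk''_surjective, h.symm⟩
    exact hb.1 (Quotient.sound' ⟨⟨n, hn⟩, rfl⟩)
  haveI := hsol'
  refine coloured3_blocks hGbM (Quotient.mk r) (fun g x => rfl) (Quotient.mk r i₀) ⟨i₀, rfl⟩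
    (ihk _ hquot Gb (Quotient r) rfl hGbM hsol') fun p hp => ?_
  refine ihk _ ?_ _ p rfl (fun h => hGbM (h.trans (card_subgroup_dvd_card _))) inferInstance
  rw [← hk]
  refine lt_of_le_of_ne (Nat.card_le_card_of_injective _ Subtype.val_injective) fun h => hNt fun x y => ?_
  have hb := (Nat.bijective_iff_injective_and_card (Subtype.val : p → ι)).mpr ⟨Subtype.val_injective, h⟩
  obtain ⟨x', rfl⟩ := hb.2 x
  obtain ⟨y', rfl⟩ := hb.2 y
  obtain ⟨m, hm⟩ := Quotient.exact (((hp _).mp y'.2).trans ((hp _).mp x'.2).symm)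
  exact ⟨m, m.2, hm⟩

end CfsgLib.BaseTwo
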