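import Cfsg.Agent.Lib.BaseTwo.Anchor

/-!
Pairs from an anchor and rigid coefficients on the cosets of the centralizer of a line stabilizer.
-/

set_option autoImplicit false

namespace CfsgLib.BaseTwo

open Subgroup CfsgLib.OddBase CfsgLib.BaseThree
open scoped commutatorElement

universe u

variable {A V : Type u} [Group A] [Finite A] [AddCommGroup V] [Finite V] [DistribMulAction A V]
  {Z F L₀ : Subgroup A} {hf : Frame A V Z F L₀} {u : V}

/-- The coset space. -/
abbrev Cos (hf : Frame A V Z F L₀) (u : V) : Type u := F ⧸ (F₀ hf u).subgroupOf F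

instance cosNormal : ((F₀ hf u).subgroupOf F).Normal := F₀_normal

/-- More than half of a finite group generates it. -/
theorem closure_eq_top_of_half {Y : Type u} [Group Y] [Fintype Y] {S : Finset Y}
    (h : Fintype.card Y < 2 * S.card) : closure (S : Set Y) = ⊤ := by
  classical
  refine eq_top_iff.mpr fun y _ => ?_
  obtain ⟨s, hs, t, ht, e⟩ : ∃ s ∈ S, ∃ t ∈ S, s * t = y := by
    by_contra hcon
    push Not at hcon
    have hdis : Disjoint S (S.image fun t => y * t⁻¹) := Finset.disjoint_left.mpr fun s hs hst => by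
      obtain ⟨t, ht, rfl⟩ := Finset.mem_image.mp hst
      exact hcon _ hs t ht (inv_mul_cancel_right _ _)
    have h2 : (S.image fun t => y * t⁻¹).card = S.card :=
      Finset.card_image_of_injective _ fun p q e => inv_injective (mul_left_cancel e)
    have := (Finset.card_union_of_disjoint hdis).symm.trans_le (Finset.card_le_univ _)
    omega
  rw [← e]
  exact mul_mem (subset_closure hs) (subset_closure ht)

/-- An element centralizing the scalars cannot move a coset unless the coefficients say so. -/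
def Rigid (hf : Frame A V Z F L₀) (u : V) (rp : Cos hf u → F) (c : Cos hf u → Sc V Z) : Prop :=
  ∀ (g : A), g ∈ centralizer (Z : Set A) → g • u = u → ∀ π : Cos hf u ≃* Cos hf u,
    (∀ q, q ≠ 1 → (c q = 0 ↔ c (π q) = 0)) →
    (∀ q, q ≠ 1 → c q ≠ 0 → ∃ x ∈ LS hf u, (rp (π q) : A) * x = g * rp q * g⁻¹ ∧ x • (c q).1 u = (c (π q)).1 u) →
    ∀ q, π q = q

theorem coset_pair (hu : MaxLine hf u) {w : V} (hwE : w ∈ Eig hf u)
    (hanch : ∀ g : A, g • u = u → g • w = w → g ∈ centralizer (Z : Set A) ∧ ∀ x ∈ F₀ hf u, g • x • u = x • u)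
    (rp : Cos hf u → F) (hrp : ∀ q, QuotientGroup.mk (rp q) = q) (hrp1 : rp 1 = 1)
    (c : Cos hf u → Sc V Z) (hsize : (∀ q, q ≠ 1 → c q ≠ 0) ∨
      4 * Nat.card {q : Cos hf u // q ≠ 1 ∧ c q = 0} < Nat.card (Cos hf u))
    (hrig : Rigid hf u rp c) :
    ∃ x y : V, ∀ a : A, a • x = x → a • y = y → a = 1 := by
  classical
  haveI := hf.normal
  haveI : Fintype (Cos hf u) := Fintype.ofFinite _
  have hu0 := hu.1
  let val : Cos hf u → V := fun q => if q = 1 then w else (c q).1 u
  have hvalE : ∀ q, val q ∈ Eig hf u := fun q => by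
    simp only [val]; split_ifs
    · exact hwE
    · exact scalar_mem_Eig self_mem_Eig (c q).2
  refine ⟨u, ∑ q, ((rp q : F) : A) • val q, fun a ha hy => ?_⟩
  let π : Cos hf u →* Cos hf u :=
    QuotientGroup.map _ _ (MulAut.conjNormal (H := F) a).toMonoidHom fun y hy => conj_mem_F₀ ha hy
  have hπinj : Function.Injective π := (injective_iff_map_eq_one π).mpr fun q => by
    obtain ⟨y, rfl⟩ := QuotientGroup.mk_surjective q
    intro hq
    have h1 : a * (y : A) * a⁻¹ ∈ F₀ hf u :=
      (QuotientGroup.eq_one_iff (N := (F₀ hf u).subgroupOf F) (MulAut.conjNormal (H := F) a y)).mp hq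
    have h2 := conj_mem_F₀ (a := a⁻¹) (by rw [inv_smul_eq_iff, ha]) h1
    refine (QuotientGroup.eq_one_iff y).mpr (show (y : A) ∈ F₀ hf u from ?_)
    simpa [mul_assoc] using h2
  have hπb : Function.Bijective π := Finite.injective_iff_bijective.mp hπinj
  let xq : Cos hf u → A := fun q => ((rp (π q) : F) : A)⁻¹ * (a * ((rp q : F) : A) * a⁻¹)
  have hxq : ∀ q, xq q ∈ F₀ hf u := fun q => by
    have e1 : (QuotientGroup.mk (rp (π q)) : Cos hf u) = QuotientGroup.mk (MulAut.conjNormal (H := F) a (rp q)) := by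
      conv_lhs => rw [hrp, ← hrp q]
      rfl
    exact (QuotientGroup.eq (s := (F₀ hf u).subgroupOf F)).mp e1
  have hcomp : ∀ q, xq q • a • val q = val (π q) := by
    let e := Equiv.ofBijective π hπb
    have h1 : ∑ q, ((rp q : F) : A) • val q = ∑ q, ((rp (π q) : F) : A) • val (π q) :=
      (Equiv.sum_comp e fun q => ((rp q : F) : A) • val q).symm
    have h2 : a • ∑ q, ((rp q : F) : A) • val q = ∑ q, ((rp (π q) : F) : A) • (xq q • a • val q) := by
      rw [Finset.smul_sum]
      refine Finset.sum_congr rfl fun q _ => ?_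
      rw [← mul_smul, ← mul_smul, ← mul_smul]
      congr 1
      simp [xq, mul_assoc]
    have h3 : ∑ q, ((rp (π q) : F) : A) • (xq q • a • val q - val (π q)) = 0 := by
      simp only [smul_sub, Finset.sum_sub_distrib, ← h2, hy, ← h1, sub_self]
    have h4 : ∀ q, ((rp (π (e.symm q)) : F) : A) = ((rp q : F) : A) := fun q => by
      rw [show π (e.symm q) = q from e.apply_symm_apply q]
    rw [← Equiv.sum_comp e.symm] at h3
    simp only [h4] at h3
    intro q
    have h5 := indep (hf := hf) (u := u) rp hrp Finset.univ (fun q => xq (e.symm q) • a • val (e.symm q) - val (π (e.symm q)))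
      (fun q _ => sub_mem (smul_mem_Eig (hxq _) (smul_Eig ha (hvalE _))) (hvalE _)) h3 (π q) (Finset.mem_univ _)
    rw [show e.symm (π q) = q from e.symm_apply_apply q] at h5
    exact sub_eq_zero.mp h5
  -- the trivial coset
  have hxq1 : xq 1 = 1 := by simp only [xq, map_one π, hrp1]; simp
  have haw : a • w = w := by
    have := hcomp 1
    simp only [map_one π, val, if_true, hxq1, one_smul] at this
    exact this
  obtain ⟨haC, hfixF₀⟩ := hanch a ha haw
  have hcomp' : ∀ q, q ≠ 1 → xq q • (c q).1 u = (c (π q)).1 u := fun q hq => by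
    have hπq : π q ≠ 1 := fun e => hq (hπinj (e.trans (map_one π).symm))
    have := hcomp q
    simp only [val, if_neg hq, if_neg hπq] at this
    rwa [linear_of_mem haC (c q).2, ha] at this
  have hzero : ∀ q, q ≠ 1 → (c q = 0 ↔ c (π q) = 0) := fun q hq => by
    have h := hcomp' q hq
    constructor
    · intro e
      rw [e] at h
      simp only [ZeroMemClass.coe_zero, AddMonoid.End.zero_apply, smul_zero] at h
      exact Subtype.ext (by_contra fun hne => hu0 (hf.base.eq_zero (c (π q)).2 hne h.symm))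
    · intro e
      rw [e] at h
      simp only [ZeroMemClass.coe_zero, AddMonoid.End.zero_apply, smul_eq_zero_iff_eq] at h
      exact Subtype.ext (by_contra fun hne => hu0 (hf.base.eq_zero (c q).2 hne h))
  have hπid : ∀ q, π q = q := by
    refine hrig a haC ha (MulEquiv.ofBijective π hπb) hzero fun q hq hc => ?_
    refine ⟨xq q, ?_, by simp [xq], hcomp' q hq⟩
    have hc' : c (π q) ≠ 0 := fun e => hc ((hzero q hq).mpr e)
    letI : Field (Sc V Z) := hf.base.field.toField
    refine ⟨(hxq q).1, ((c q)⁻¹ * c (π q) : Sc V Z).1, ((c q)⁻¹ * c (π q) : Sc V Z).2,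
      fun e => mul_ne_zero (inv_ne_zero hc) hc' (Subtype.ext e), ?_⟩
    show xq q • u = (c q)⁻¹.1 ((c (π q)).1 u)
    rw [← hcomp' q hq, ← linear_of_mem (hf.cent (hxq q).1) (c q)⁻¹.2]
    show _ = xq q • (((c q)⁻¹ * c q : Sc V Z)).1 u
    rw [inv_mul_cancel₀ hc]
    rfl
  -- the deviation
  let δ : A → A := fun y => y⁻¹ * (a * y * a⁻¹)
  let P : A → Prop := fun d => d ∈ LS hf u ∧ d • u = u
  have hPof : ∀ d ∈ F, d • u = u → P d := fun d hd e => ⟨⟨hd, 1, one_mem _, fun h0 => hu0 (by
    have := DFunLike.congr_fun h0 u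
    simpa using this), e⟩, e⟩
  have hPF₀ : ∀ y ∈ F₀ hf u, P (δ y) := fun y hy => hPof _ (F.mul_mem (F.inv_mem hy.1) (hf.normal.conj_mem y hy.1 a)) (by
    show (y⁻¹ * (a * y * a⁻¹)) • u = u
    rw [mul_smul, mul_smul, mul_smul, show a⁻¹ • u = u by rw [inv_smul_eq_iff, ha], hfixF₀ y hy, inv_smul_smul])
  let Good : Cos hf u → Prop := fun q => q = 1 ∨ c q ≠ 0
  have hgood : ∀ q, Good q → ∀ y : F, (QuotientGroup.mk y : Cos hf u) = q → P (δ (y : A)) := by
    intro q hq y hy
    have hP : P (δ (rp q : A)) := by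
      rcases hq with rfl | hq
      · rw [hrp1]; exact hPF₀ _ (one_mem _)
      · by_cases hq1 : q = 1
        · rw [hq1, hrp1]; exact hPF₀ _ (one_mem _)
        refine hPof _ (F.mul_mem (F.inv_mem (rp q).2) (hf.normal.conj_mem _ (rp q).2 a)) ?_
        have e := hcomp' q hq1
        simp only [xq, hπid q] at e
        have hδF : ((rp q : F) : A)⁻¹ * (a * rp q * a⁻¹) ∈ F :=
          F.mul_mem (F.inv_mem (rp q).2) (hf.normal.conj_mem _ (rp q).2 a)
        rw [linear_of_mem (hf.cent hδF) (c q).2] at e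
        exact sub_eq_zero.mp (hf.base.eq_zero (c q).2 (fun h => hq (Subtype.ext h)) (by rw [map_sub, e, sub_self]))
    have hx : ((rp q : F) : A)⁻¹ * y ∈ F₀ hf u :=
      (QuotientGroup.eq (s := (F₀ hf u).subgroupOf F) (a := rp q) (b := y)).mp ((hrp q).trans hy.symm)
    have e : δ (y : A) = ((((rp q : F) : A)⁻¹ * y)⁻¹ * δ (rp q : A) * (((rp q : F) : A)⁻¹ * y))
        * δ (((rp q : F) : A)⁻¹ * y) := by
      simp [δ, mul_assoc]
    have h1 := Subgroup.mem_centralizer_iff.mp hx.2 _ hP.1
    rw [e, mul_assoc _ (δ _), h1, inv_mul_cancel_left]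
    exact ⟨mul_mem hP.1 (hPF₀ _ hx).1, by rw [mul_smul, (hPF₀ _ hx).2, hP.2]⟩
  -- any deviation of a good element commutes with enough cosets
  have hhalf : ∀ g₀ : Cos hf u, Good g₀ →
      closure ((Finset.univ.filter fun q => Good q ∧ Good (g₀ * q) : Finset (Cos hf u)) : Set (Cos hf u)) = ⊤ := by
    intro g₀ _
    rcases hsize with hs | hs
    · have : (Finset.univ.filter fun q => Good q ∧ Good (g₀ * q) : Finset (Cos hf u)) = Finset.univ :=
        Finset.filter_true_of_mem fun q _ => ⟨Or.imp id (hs q) (em (q = 1)), Or.imp id (fun h => hs _ h) (em (g₀ * q = 1))⟩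
      rw [this, Finset.coe_univ, Subgroup.closure_univ]
    · refine closure_eq_top_of_half ?_
      set R := Finset.univ.filter fun q : Cos hf u => q ≠ 1 ∧ c q = 0 with hR
      have hRc : R.card = Nat.card {q : Cos hf u // q ≠ 1 ∧ c q = 0} := by
        rw [Nat.card_eq_fintype_card, Fintype.card_subtype]
      rw [Nat.card_eq_fintype_card (α := Cos hf u), ← hRc] at hs
      have hsub : Finset.univ \ (R ∪ R.image fun q => g₀⁻¹ * q) ⊆
          Finset.univ.filter fun q => Good q ∧ Good (g₀ * q) := fun q hq => by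
        simp only [Finset.mem_sdiff, Finset.mem_univ, true_and, Finset.mem_union, not_or, Finset.mem_image] at hq
        refine Finset.mem_filter.mpr ⟨Finset.mem_univ _, ?_, ?_⟩
        · by_contra hg
          simp only [Good, not_or, not_not] at hg
          exact hq.1 (Finset.mem_filter.mpr ⟨Finset.mem_univ _, hg⟩)
        · by_contra hg
          simp only [Good, not_or, not_not] at hg
          exact hq.2 ⟨_, Finset.mem_filter.mpr ⟨Finset.mem_univ _, hg⟩, inv_mul_cancel_left _ _⟩
      have h1 := Finset.card_le_card hsub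
      have h2 : Fintype.card (Cos hf u) - (R ∪ R.image fun q => g₀⁻¹ * q).card
          ≤ (Finset.univ \ (R ∪ R.image fun q => g₀⁻¹ * q)).card := by
        rw [← Finset.card_univ]; exact Finset.le_card_sdiff _ _
      have h3 := Finset.card_union_le R (R.image fun q => g₀⁻¹ * q)
      have h4 : (R.image fun q => g₀⁻¹ * q).card ≤ R.card := Finset.card_image_le
      omega
  have hcent : ∀ q, Good q → ∀ y : F, (QuotientGroup.mk y : Cos hf u) = q → a * (y : A) * a⁻¹ = y := by
    intro q hq y hy
    have hP := hgood q hq y hy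
    have hyF : δ (y : A) ∈ F := hP.1.1
    let K : Subgroup F := (centralizer ({δ (y : A)} : Set A)).subgroupOf F
    have hK₀ : (F₀ hf u).subgroupOf F ≤ K := fun f hf' => Subgroup.mem_centralizer_singleton_iff.mpr
      (Subgroup.mem_centralizer_iff.mp (show (f : A) ∈ F₀ hf u from hf').2 _ hP.1).symm
    have hstep : ∀ y' : F, Good (QuotientGroup.mk y') → Good (q * QuotientGroup.mk y') → y' ∈ K := by
      intro y' hy' hyy'
      have e : δ ((y : A) * y') = ((y' : A)⁻¹ * δ (y : A) * y') * δ (y' : A) := by simp [δ, mul_assoc]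
      have h1 : P (δ ((y * y' : F) : A)) := hgood _ hyy' (y * y') (by rw [QuotientGroup.mk_mul, hy])
      have h1' : δ ((y : A) * y') • u = u := h1.2
      rw [e, mul_smul, (hgood _ hy' y' rfl).2] at h1'
      have hzc : (δ (y : A))⁻¹ * ((y' : A)⁻¹ * δ (y : A) * y') ∈ Z := by
        have := hf.comm _ (F.inv_mem hyF) _ (F.inv_mem y'.2)
        simpa [commutatorElement_def, mul_assoc] using this
      have hz1 : (δ (y : A))⁻¹ * ((y' : A)⁻¹ * δ (y : A) * y') = 1 := by
        by_contra hne'
        refine hu0 (hf.base.fx_center hzc hne' ?_)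
        rw [mul_smul, h1', inv_smul_eq_iff, hP.2]
      refine Subgroup.mem_centralizer_singleton_iff.mpr ?_
      have h2 := inv_mul_eq_one.mp hz1
      conv_lhs => rw [h2]
      simp [mul_assoc]
    have hKtop : K = ⊤ := eq_top_iff.mpr fun y' _ => by
      have hmem : (QuotientGroup.mk y' : Cos hf u) ∈ K.map (QuotientGroup.mk' _) := by
        refine (closure_le _).mpr ?_ ((hhalf q hq).ge (Subgroup.mem_top _))
        intro p hp
        rw [Finset.mem_coe, Finset.mem_filter] at hp
        exact ⟨rp p, hstep _ (by rw [hrp]; exact hp.2.1) (by rw [hrp]; exact hp.2.2), hrp p⟩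
      obtain ⟨k, hk, e⟩ := hmem
      rw [← mul_inv_cancel_left k y']
      exact K.mul_mem hk (hK₀ ((QuotientGroup.eq (s := (F₀ hf u).subgroupOf F)).mp e))
    have hδZ : δ (y : A) ∈ Z := hf.centre_F hyF fun y' hy' =>
      (comm_eq_one_iff _ _).mpr (Subgroup.mem_centralizer_singleton_iff.mp
        (hKtop.ge (Subgroup.mem_top (⟨y', hy'⟩ : F)))).symm
    have h1 : δ (y : A) = 1 := by
      by_contra hne
      exact hu0 (hf.base.fx_center hδZ hne hP.2)
    exact (inv_mul_eq_one.mp h1).symm
  have hall : ∀ y : F, a * (y : A) * a⁻¹ = y := by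
    let K : Subgroup F := (centralizer ({a} : Set A)).subgroupOf F
    have hKtop : K = ⊤ := eq_top_iff.mpr fun y _ => by
      have hin : ∀ y : F, Good (QuotientGroup.mk y) → y ∈ K := fun y hy =>
        Subgroup.mem_centralizer_singleton_iff.mpr (mul_inv_eq_iff_eq_mul.mp (hcent _ hy y rfl)).symm
      have hmem : (QuotientGroup.mk y : Cos hf u) ∈ K.map (QuotientGroup.mk' _) := by
        refine (closure_le _).mpr ?_ ((hhalf 1 (Or.inl rfl)).ge (Subgroup.mem_top _))
        intro p hp
        rw [Finset.mem_coe, Finset.mem_filter] at hp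
        exact ⟨rp p, hin _ (by rw [hrp]; exact hp.2.1), hrp p⟩
      obtain ⟨k, hk, e⟩ := hmem
      rw [← mul_inv_cancel_left k y]
      refine K.mul_mem hk (hin _ (Or.inl ?_))
      rw [QuotientGroup.eq_one_iff]
      exact (QuotientGroup.eq (s := (F₀ hf u).subgroupOf F)).mp e
    exact fun y => mul_inv_eq_iff_eq_mul.mpr
      (Subgroup.mem_centralizer_singleton_iff.mp (hKtop.ge (Subgroup.mem_top y) : y ∈ K)).symm
  by_contra ha1
  exact hu0 (hf.base.fx_center (hf.centre a haC fun y hy => (comm_eq_one_iff a y).mpr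
    (mul_inv_eq_iff_eq_mul.mp (hall ⟨y, hy⟩))) ha1 ha)

end CfsgLib.BaseTwo
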