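import Cfsg.Agent.Lib.BaseTwo.Search

/-!
Labellings of small elementary abelian groups preserved only by the identity.
-/

set_option autoImplicit false

namespace CfsgLib.BaseTwo

universe u

/-- The string of a coordinate vector. -/
def codev (s : ℕ) : ∀ n : ℕ, (Fin n → ZMod s) → ℕ
  | 0, _ => 0
  | n + 1, v => (v 0).val + s * codev s n (Fin.tail v)

theorem codev_lt (s : ℕ) [NeZero s] : ∀ (n : ℕ) (v : Fin n → ZMod s), codev s n v < s ^ n
  | 0, v => by simp [codev]
  | n + 1, v => by
    have h1 := codev_lt s n (Fin.tail v)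
    have h2 := (v 0).val_lt
    rw [codev, pow_succ']
    nlinarith

theorem codev_split (s : ℕ) [NeZero s] (n : ℕ) (v : Fin (n + 1) → ZMod s) :
    codev s (n + 1) v % s = (v 0).val ∧ codev s (n + 1) v / s = codev s n (Fin.tail v) := by
  rw [codev, Nat.add_mul_mod_self_left, Nat.mod_eq_of_lt (v 0).val_lt, Nat.add_mul_div_left _ _ (NeZero.pos s),
    Nat.div_eq_of_lt (v 0).val_lt, zero_add]
  exact ⟨rfl, rfl⟩

theorem codev_injective (s : ℕ) [NeZero s] : ∀ n : ℕ, Function.Injective (codev s n)
  | 0 => fun v w _ => Subsingleton.elim v w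
  | n + 1 => fun v w e => by
    have h1 := codev_split s n v
    have h2 := codev_split s n w
    rw [e] at h1
    have e1 : v 0 = w 0 := ZMod.val_injective s (h1.1.symm.trans h2.1)
    have e2 : Fin.tail v = Fin.tail w := codev_injective s n (h1.2.symm.trans h2.2)
    rw [← Fin.cons_self_tail v, ← Fin.cons_self_tail w, e1, e2]

theorem codev_add (s : ℕ) [NeZero s] : ∀ (n : ℕ) (v w : Fin n → ZMod s),
    codev s n (v + w) = addc s n (codev s n v) (codev s n w)
  | 0, v, w => rfl
  | n + 1, v, w => by
    rw [addc, (codev_split s n v).1, (codev_split s n v).2, (codev_split s n w).1, (codev_split s n w).2,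
      ← codev_add s n, ← ZMod.val_add]
    rfl

theorem exists_code {s : ℕ} [Fact s.Prime] (E : Type u) [CommGroup E] [Finite E] (hexp : ∀ x : E, x ^ s = 1)
    {n : ℕ} (hn : Nat.card E = s ^ n) : ∃ code : E → ℕ, Function.Injective code ∧ (∀ x, code x < s ^ n) ∧
      ∀ x y, code (x * y) = addc s n (code x) (code y) := by
  haveI : Module (ZMod s) (Additive E) := AddCommGroup.zmodModule fun x => congrArg Additive.ofMul (hexp x.toMul)
  haveI : Module.Finite (ZMod s) (Additive E) := Module.Finite.of_finite
  have hf : Module.finrank (ZMod s) (Additive E) = n := by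
    have h1 := Module.natCard_eq_pow_finrank (K := ZMod s) (V := Additive E)
    rw [Nat.card_zmod, show Nat.card (Additive E) = Nat.card E from rfl, hn] at h1
    exact (Nat.pow_right_injective (Fact.out : s.Prime).two_le h1).symm
  let ι := (Module.finBasisOfFinrankEq (ZMod s) (Additive E) hf).equivFun
  refine ⟨fun x => codev s n (ι (Additive.ofMul x)), fun x y e => ?_, fun x => codev_lt s n _, fun x y => ?_⟩
  · exact Additive.ofMul.injective (ι.injective (codev_injective s n e))
  · show codev s n (ι (Additive.ofMul (x * y))) = _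
    rw [ofMul_mul, map_add]
    exact codev_add s n _ _

/-- A rigid labelling with at most one zero. -/
theorem exists_label {s : ℕ} [hsp : Fact s.Prime] (E : Type u) [CommGroup E] [Finite E]
    (hexp : ∀ x : E, x ^ s = 1) (hcard : Nat.card E < 64) :
    ∃ lab : E → ℕ, (∀ x, lab x ≤ if s = 2 then 3 else 2) ∧
      ((∀ x, x ≠ 1 → lab x ≠ 0) ∨ (s ≤ 3 ∧ 4 < Nat.card E ∧ ∃ x₀, ∀ x, x ≠ 1 → lab x = 0 → x = x₀)) ∧
      ∀ π : E ≃* E, (∀ x, x ≠ 1 → lab (π x) = lab x) → ∀ x, π x = x := by
  classical
  have hp := (Fact.out : s.Prime)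
  obtain ⟨n, hn⟩ := (IsPGroup.iff_card (p := s)).mp fun x => ⟨1, by rw [pow_one]; exact hexp x⟩
  by_cases hn2 : n < 2
  · interval_cases n
    · haveI : Subsingleton E := (Nat.card_eq_one_iff_unique.mp (by simpa using hn)).1
      exact ⟨fun _ => 1, fun _ => by split_ifs <;> norm_num, Or.inl (fun _ _ => one_ne_zero),
        fun _ _ x => Subsingleton.elim _ _⟩
    · rw [pow_one] at hn
      haveI : Nontrivial E := Finite.one_lt_card_iff_nontrivial.mp (hn ▸ hp.one_lt)
      obtain ⟨g, hg⟩ := exists_ne (1 : E)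
      refine ⟨fun x => if x = g then 2 else 1, fun x => ?_, Or.inl (fun x _ => ?_), fun π hπ => ?_⟩
      · show (if x = g then 2 else 1) ≤ _
        by_cases h : x = g <;> simp only [h, if_true, if_false] <;> split_ifs <;> norm_num
      · show (if x = g then 2 else 1) ≠ 0
        by_cases h : x = g <;> simp [h]
      have hπg : π g = g := by
        by_contra h
        have := hπ g hg
        simp [h] at this
      have htop := zpowers_eq_top_of_prime_card hn hg
      intro x
      obtain ⟨m, rfl⟩ := Subgroup.mem_zpowers_iff.mp (htop.ge (Subgroup.mem_top x))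
      rw [map_zpow, hπg]
  push Not at hn2
  have hs8 : s < 8 := by
    by_contra h
    push Not at h
    have h1 := (Nat.pow_le_pow_left h 2).trans (Nat.pow_le_pow_right hp.pos hn2)
    rw [← hn] at h1
    omega
  have hn6 : n < 6 := by
    by_contra h
    push Not at h
    have h1 := (Nat.pow_le_pow_right (by norm_num : 1 ≤ 2) h).trans (Nat.pow_le_pow_left hp.two_le n)
    rw [← hn] at h1
    omega
  obtain ⟨L, hL⟩ : ∃ L, (s, n, L) ∈ labelData := by
    rw [hn] at hcard
    interval_cases s <;> first | (exfalso; norm_num at hp; done) |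
      (interval_cases n <;> first | exact ⟨_, by simp [labelData]; rfl⟩ | (norm_num at hcard))
  haveI : NeZero s := ⟨hp.ne_zero⟩
  have hr : rigidc s n L = true := List.all_eq_true.mp labelData_rigid _ hL
  have hshape := List.all_eq_true.mp labelData_shape _ hL
  simp only [Bool.or_eq_true, Bool.and_eq_true, List.all_eq_true, decide_eq_true_eq] at hshape
  obtain ⟨code, hinj, hlt, hmul⟩ := exists_code E hexp hn
  let c : E → Fin (s ^ n) := fun x => ⟨code x, hlt x⟩
  have hbij : Function.Bijective c := (Nat.bijective_iff_injective_and_card c).mpr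
    ⟨fun x y e => hinj (congrArg Fin.val e), by rw [hn, Nat.card_eq_fintype_card, Fintype.card_fin]⟩
  let e := Equiv.ofBijective c hbij
  have h0 : code 1 = 0 := by
    have h1 : ∀ i : Fin (s ^ n), code (e.symm i) = i := fun i => congrArg Fin.val (e.apply_symm_apply i)
    obtain ⟨z, hz⟩ : ∃ z, code z = 0 := ⟨e.symm ⟨0, pow_pos hp.pos n⟩, h1 _⟩
    have hzero : ∀ m, addc s m 0 0 = 0 := fun m => by induction m <;> simp [addc, *]
    have hz1 : code (z * z) = code z := by rw [hmul, hz, hzero]
    rw [mul_eq_left.mp (hinj hz1)] at hz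
    exact hz
  have hpos : ∀ x, x ≠ 1 → code x ≠ 0 := fun x hx h => hx (hinj (h.trans h0.symm))
  have hlen : L.length = s ^ n := hshape.elim (fun h => h.1.1) (fun h => h.1.1.1.2)
  refine ⟨fun x => L.getD (code x) 1, fun x => ?_, ?_, fun π hπ => ?_⟩
  · show L.getD (code x) 1 ≤ _
    rw [List.getD_eq_getElem _ _ (hlen ▸ hlt x)]
    have hm := List.getElem_mem (l := L) (hlen ▸ hlt x)
    exact hshape.elim (fun h => h.1.2 _ hm) (fun h => h.1.1.2 _ hm)
  · have hzs : labelData.all (fun t => decide (t.1 ≤ 3) || (t.2.2.drop 1).all (fun x => decide (0 < x))) = true := by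
      decide +kernel
    have hzs' := List.all_eq_true.mp hzs _ hL
    simp only [Bool.or_eq_true, List.all_eq_true, decide_eq_true_eq] at hzs'
    rcases hshape with h | h
    · refine Or.inl fun x hx => ?_
      show L.getD (code x) 1 ≠ 0
      rw [List.getD_eq_getElem _ _ (hlen ▸ hlt x)]
      refine Nat.pos_iff_ne_zero.mp (h.2 _ (List.mem_drop_iff_getElem.mpr ⟨code x - 1, ?_, ?_⟩))
      · have := hlt x; have := hpos x hx; omega
      · congr 1; have := hpos x hx; omega
    · rcases hzs' with hs3 | hpos'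
      swap
      · refine Or.inl fun x hx => ?_
        show L.getD (code x) 1 ≠ 0
        rw [List.getD_eq_getElem _ _ (hlen ▸ hlt x)]
        refine Nat.pos_iff_ne_zero.mp (hpos' _ (List.mem_drop_iff_getElem.mpr ⟨code x - 1, ?_, ?_⟩))
        · have := hlt x; have := hpos x hx; omega
        · congr 1; have := hpos x hx; omega
      refine Or.inr ⟨hs3, hn ▸ h.1.1.1.1, e.symm ⟨1, Nat.one_lt_pow (by omega) hp.one_lt⟩, fun x hx h' => ?_⟩
      have hc : code x = 1 := by
        by_contra hne
        refine Nat.pos_iff_ne_zero.mp (h.2 _ (List.mem_drop_iff_getElem.mpr ⟨code x - 2, ?_, ?_⟩)) h'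
        · have := hlt x; have := hpos x hx; omega
        · show L[2 + (code x - 2)]'_ = L.getD (code x) 1
          rw [List.getD_eq_getElem _ _ (hlen ▸ hlt x)]
          congr 1; have := hpos x hx; omega
      exact (e.apply_eq_iff_eq_symm_apply).mp (Fin.ext hc)
  · let f : ℕ → ℕ := fun a => if h : a < s ^ n then code (π (e.symm ⟨a, h⟩)) else 0
    have hfc : ∀ x, f (code x) = code (π x) := fun x => by
      simp only [f, dif_pos (hlt x)]
      rw [show (⟨code x, hlt x⟩ : Fin (s ^ n)) = e x from rfl, e.symm_apply_apply]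
    have hsur : ∀ a, a < s ^ n → ∃ x, code x = a := fun a ha =>
      ⟨e.symm ⟨a, ha⟩, congrArg Fin.val (e.apply_symm_apply ⟨a, ha⟩)⟩
    have hid := rigidc_sound hp.pos hr (f := f) (by rw [← h0, hfc, map_one])
      (fun a ha => by obtain ⟨x, rfl⟩ := hsur a ha; rw [hfc]; exact hlt _)
      (fun a b ha hb => by
        obtain ⟨x, rfl⟩ := hsur a ha
        obtain ⟨y, rfl⟩ := hsur b hb
        rw [← hmul, hfc, map_mul, hmul, hfc, hfc])
      (fun a ha => by
        obtain ⟨x, rfl⟩ := hsur a ha
        rw [hfc, List.getD_eq_getElem _ _ (hlen ▸ hlt _), List.getD_eq_getElem _ _ (hlen ▸ hlt x)]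
        by_cases hx : x = 1
        · subst hx; simp only [map_one]
        · have := hπ x hx
          dsimp only at this
          rwa [List.getD_eq_getElem _ _ (hlen ▸ hlt _), List.getD_eq_getElem _ _ (hlen ▸ hlt x)] at this)
    exact fun x => hinj ((hfc x).symm.trans (hid _ (hlt x)))

end CfsgLib.BaseTwo
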