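import Cfsg.Agent.Lib.BaseTwo.Coset
import Cfsg.Agent.Lib.BaseTwo.Label

/-!
Coefficients realising the labellings of the prime parts of the coset space.
-/

set_option autoImplicit false

namespace CfsgLib.BaseTwo

open Subgroup CfsgLib.OddBase CfsgLib.BaseThree
open scoped commutatorElement

universe u

variable {A V : Type u} [Group A] [Finite A] [AddCommGroup V] [Finite V] [DistribMulAction A V]
  {Z F L₀ : Subgroup A} {hf : Frame A V Z F L₀} {u : V}

/-- The coset space is abelian. -/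
@[reducible] def cosComm (hu : u ≠ 0) : CommGroup (Cos hf u) :=
  { (inferInstance : Group (Cos hf u)) with
    mul_comm := fun x y => QuotientGroup.induction_on x fun a => QuotientGroup.induction_on y fun b => by
      rw [← QuotientGroup.mk_mul, ← QuotientGroup.mk_mul, QuotientGroup.eq]
      show ((a : A) * b)⁻¹ * ((b : A) * a) ∈ F₀ hf u
      refine le_F₀ hu (le_LS ?_)
      have h := hf.comm _ (F.inv_mem b.2) _ (F.inv_mem a.2)
      simpa [commutatorElement_def, mul_assoc] using h }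

/-- A coset of prime order has a representative whose power is a scalar. -/
theorem exists_pure {s : ℕ} (hs : s.Prime) {q : Cos hf u} (hq : q ^ s = 1) :
    ∃ y : F, QuotientGroup.mk y = q ∧ (y : A) ^ s ∈ Z := by
  obtain ⟨N, hsq, hN, -⟩ := root_exponent hf
  obtain ⟨y, rfl⟩ := QuotientGroup.mk_surjective q
  by_cases hd : s ∣ N
  · obtain ⟨m, rfl⟩ := hd
    have hcop : Nat.Coprime s m := Nat.coprime_of_squarefree_mul hsq
    obtain ⟨k, hk1, hks⟩ := Nat.chineseRemainder hcop 1 0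
    refine ⟨y ^ k, ?_, ?_⟩
    · rw [QuotientGroup.mk_pow]
      exact (pow_eq_pow_mod k hq).trans (by rw [hk1, Nat.mod_eq_of_lt hs.one_lt, pow_one])
    · obtain ⟨j, rfl⟩ := (Nat.modEq_zero_iff_dvd.mp hks)
      push_cast
      rw [← pow_mul, show m * j * s = s * m * j by ring, pow_mul]
      exact pow_mem (hN y y.2) j
  · refine ⟨1, ?_, by simp⟩
    have h1 : (QuotientGroup.mk y : Cos hf u) ^ N = 1 := by
      rw [← QuotientGroup.mk_pow, QuotientGroup.eq_one_iff]
      show ((y ^ N : F) : A) ∈ F₀ hf u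
      push_cast
      refine ⟨pow_mem y.2 N, Subgroup.mem_centralizer_iff.mpr fun l hl => ?_⟩
      exact (Subgroup.mem_centralizer_iff.mp (hf.cent hl.1) _ (hN y y.2)).symm
    have h2 : orderOf (QuotientGroup.mk y : Cos hf u) ∣ Nat.gcd s N :=
      Nat.dvd_gcd (orderOf_dvd_of_pow_eq_one hq) (orderOf_dvd_of_pow_eq_one h1)
    rw [(Nat.Prime.coprime_iff_not_dvd hs).mpr hd, Nat.dvd_one, orderOf_eq_one_iff] at h2
    rw [h2]
    rfl

/-- The power invariant of a coefficient. -/
noncomputable def pinv (rp : Cos hf u → F) (hrp : ∀ q, (orderOf q).Prime → ((rp q : F) : A) ^ orderOf q ∈ Z)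
    (q : Cos hf u) (hq : (orderOf q).Prime) (r : Sc V Z) : Sc V Z :=
  if orderOf q = 2 then (r ^ orderOf q * ⟨rho (((rp q : F) : A) ^ orderOf q), rho_mem (hrp q hq)⟩) ^ 2
  else r ^ orderOf q * ⟨rho (((rp q : F) : A) ^ orderOf q), rho_mem (hrp q hq)⟩

/-- The invariant is kept. -/
theorem pinv_eq (hu : u ≠ 0) {rp : Cos hf u → F}
    (hrp : ∀ q, (orderOf q).Prime → ((rp q : F) : A) ^ orderOf q ∈ Z) {g : A}
    (hgC : g ∈ centralizer (Z : Set A)) {q q' : Cos hf u} (hq : (orderOf q).Prime) (hq' : (orderOf q').Prime)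
    (hord : orderOf q' = orderOf q) {c c' : Sc V Z} {x : A} (hx : x ∈ LS hf u)
    (hxe : ((rp q' : F) : A) * x = g * rp q * g⁻¹) (hxc : x • c.1 u = c'.1 u) :
    pinv rp hrp q' hq' c' = pinv rp hrp q hq c := by
  letI : Field (Sc V Z) := hf.base.field.toField
  obtain ⟨μ, -, hμ⟩ := exists_scalar hf hx
  set s := orderOf q with hs
  have hr := hrp q hq
  rw [← hs] at hr
  have hr' := hrp q' hq'
  rw [hord] at hr'
  set r := ((rp q : F) : A)
  set r' := ((rp q' : F) : A)
  have hr'F : r' ∈ F := (rp q').2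
  have hκ : ⁅x, r'⁆ ∈ Z := hf.comm x hx.1 r' hr'F
  let ζ : Sc V Z := ⟨rho (r ^ s), rho_mem hr⟩
  let ζ' : Sc V Z := ⟨rho (r' ^ s), rho_mem hr'⟩
  let κ : Sc V Z := ⟨rho (⁅x, r'⁆ ^ s.choose 2), rho_mem (pow_mem hκ _)⟩
  have hκs : ⁅x, r'⁆ ^ s = 1 := by
    rw [← comm_pow_right hf hx.1 hr'F]
    exact hf.central_left (hf.cent hx.1) hr'
  have hc' : c' = c * μ := Subtype.ext (scalar_eq hf.base c'.2 (c * μ : Sc V Z).2 hu (by
    rw [← hxc, linear_of_mem (hf.cent hx.1) c.2, hμ]; rfl))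
  have hxs : ∀ k : ℕ, x ^ k • u = (μ ^ k : Sc V Z).1 u := fun k => by
    induction k with
    | zero => rw [pow_zero, pow_zero, one_smul]; rfl
    | succ k ih => rw [pow_succ', mul_smul, ih, linear_of_mem (hf.cent hx.1) (μ ^ k : Sc V Z).2, hμ, pow_succ]; rfl
  have hζ : ζ = ζ' * μ ^ s * κ := by
    refine Subtype.ext (scalar_eq hf.base ζ.2 (ζ' * μ ^ s * κ : Sc V Z).2 hu ?_)
    show (r ^ s) • u = _
    have e : r ^ s = r' ^ s * x ^ s * ⁅x, r'⁆ ^ s.choose 2 := by
      rw [← mul_pow_formula hf hr'F hx.1, hxe, conj_pow, ← Subgroup.mem_centralizer_iff.mp hgC _ hr,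
        mul_inv_cancel_right]
    rw [e, mul_smul, mul_smul]
    show (r' ^ s) • (x ^ s) • κ.1 u = _
    rw [linear_of_mem (pow_mem (hf.cent hx.1) s) κ.2, hxs]
    show ζ'.1 (κ.1 ((μ ^ s : Sc V Z).1 u)) = (ζ' * μ ^ s * κ : Sc V Z).1 u
    rw [show ζ' * μ ^ s * κ = ζ' * (κ * μ ^ s) by ring]
    rfl
  have e' : (⟨rho (r' ^ orderOf q'), rho_mem (hrp q' hq')⟩ : Sc V Z) = ζ' :=
    Subtype.ext (show rho (r' ^ orderOf q') = rho (r' ^ s) by rw [hord])
  have hκ2 : κ ^ s = 1 := Subtype.ext (show rho (⁅x, r'⁆ ^ s.choose 2) ^ s = 1 by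
    rw [← map_pow, ← pow_mul, mul_comm, pow_mul, hκs, one_pow, map_one])
  show (if orderOf q' = 2 then _ else _) = (if s = 2 then (c ^ s * ζ) ^ 2 else c ^ s * ζ)
  rw [e', hord, hc']
  split_ifs with h2
  · rw [h2] at hκ2
    rw [hζ]
    calc ((c * μ) ^ s * ζ') ^ 2 = ((c * μ) ^ s * ζ') ^ 2 * κ ^ 2 := by rw [hκ2, mul_one]
      _ = _ := by rw [mul_pow c μ s]; ring
  · have hκ1 : κ = 1 := Subtype.ext (show rho (⁅x, r'⁆ ^ s.choose 2) = 1 by
      obtain ⟨d, hd⟩ : s ∣ s.choose 2 := hq.dvd_choose_self (by norm_num) (lt_of_le_of_ne hq.two_le (Ne.symm h2))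
      rw [hd, pow_mul, hκs, one_pow, map_one])
    rw [hζ, hκ1]
    ring

set_option maxHeartbeats 800000 in
/-- Pairs when the coset space is small and the fourth powers of scalars are at least three. -/
theorem design_pair (hu : MaxLine hf u) {w : V} (hwE : w ∈ Eig hf u)
    (hanch : ∀ g : A, g • u = u → g • w = w → g ∈ centralizer (Z : Set A) ∧ ∀ x ∈ F₀ hf u, g • x • u = x • u)
    (hchar : (2 : Sc V Z) ≠ 0) (hY : Nat.card (Cos hf u) < 64)
    (hfour : 2 ∣ Nat.card (Cos hf u) → 3 ≤ Nat.card (Set.range fun r : {r : Sc V Z // r ≠ 0} => (r.1 : Sc V Z) ^ 4)) :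
    ∃ x y : V, ∀ a : A, a • x = x → a • y = y → a = 1 := by
  classical
  letI : Field (Sc V Z) := hf.base.field.toField
  haveI : Fintype (Sc V Z) := Fintype.ofFinite _
  letI : CommGroup (Cos hf u) := cosComm hu.1
  haveI : Fintype (Cos hf u) := Fintype.ofFinite _
  have hex : ∀ q : Cos hf u, ∃ y : F, QuotientGroup.mk y = q ∧ ((orderOf q).Prime → (y : A) ^ orderOf q ∈ Z) ∧
      (q = 1 → y = 1) := fun q => by
    by_cases hp : (orderOf q).Prime
    · obtain ⟨y, hy, hys⟩ := exists_pure hp (pow_orderOf_eq_one q)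
      exact ⟨y, hy, fun _ => hys, fun h => by rw [h, orderOf_one] at hp; exact absurd hp Nat.not_prime_one⟩
    · by_cases h1 : q = 1
      · exact ⟨1, by rw [h1]; rfl, fun h => absurd h hp, fun _ => rfl⟩
      · obtain ⟨y, hy⟩ := QuotientGroup.mk_surjective q
        exact ⟨y, hy, fun h => absurd h hp, fun h => absurd h h1⟩
  choose rp hrp hrppow hrp1 using hex
  let K : ℕ → Subgroup (Cos hf u) := fun s => (powMonoidHom s : Cos hf u →* Cos hf u).ker
  have hK : ∀ s q, q ∈ K s ↔ q ^ s = 1 := fun s q => Iff.rfl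
  have hlab : ∀ s : ℕ, ∃ lab : Cos hf u → ℕ, s.Prime → (∀ q, lab q ≤ if s = 2 then 3 else 2) ∧
      ((∀ q, q ^ s = 1 → q ≠ 1 → lab q ≠ 0) ∨
        (s ≤ 3 ∧ 4 < Nat.card (K s) ∧ ∃ q₀, ∀ q, q ^ s = 1 → q ≠ 1 → lab q = 0 → q = q₀)) ∧
      ∀ π : Cos hf u ≃* Cos hf u, (∀ q, q ^ s = 1 → q ≠ 1 → lab (π q) = lab q) → ∀ q, q ^ s = 1 → π q = q := by
    intro s
    by_cases hs : s.Prime
    swap
    · exact ⟨fun _ => 1, fun h => absurd h hs⟩
    haveI := Fact.mk hs
    obtain ⟨lab, h1, h2, h3⟩ := exists_label (s := s) (K s) (fun x => Subtype.ext x.2)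
      (lt_of_le_of_lt (Subgroup.card_le_card_group _) hY)
    let lab' : Cos hf u → ℕ := fun q => if h : q ^ s = 1 then lab ⟨q, h⟩ else 1
    have hl : ∀ q (h : q ^ s = 1), lab' q = lab ⟨q, h⟩ := fun q h => dif_pos h
    refine ⟨lab', fun _ => ⟨fun q => ?_, ?_, fun π hπ q hq => ?_⟩⟩
    · by_cases h : q ^ s = 1
      · rw [hl q h]; exact h1 _
      · simp only [lab', dif_neg h]; split_ifs <;> norm_num
    · rcases h2 with h2 | ⟨hs3, h4, x₀, hx₀⟩
      · exact Or.inl fun q hq hq1 => by rw [hl q hq]; exact h2 _ fun e => hq1 (congrArg Subtype.val e)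
      · exact Or.inr ⟨hs3, h4, x₀, fun q hq hq1 e => congrArg Subtype.val
          (hx₀ ⟨q, hq⟩ (fun e => hq1 (congrArg Subtype.val e)) (by rw [← hl q hq]; exact e))⟩
    · let π' : K s ≃* K s :=
        { toFun := fun x => ⟨π x, show π x ^ s = 1 by rw [← map_pow, show (x : Cos hf u) ^ s = 1 from x.2, map_one]⟩
          invFun := fun x => ⟨π.symm x, show π.symm x ^ s = 1 by rw [← map_pow, show (x : Cos hf u) ^ s = 1 from x.2, map_one]⟩
          left_inv := fun x => Subtype.ext (π.symm_apply_apply _)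
          right_inv := fun x => Subtype.ext (π.apply_symm_apply _)
          map_mul' := fun x y => Subtype.ext (map_mul π _ _) }
      refine congrArg Subtype.val (h3 π' (fun x hx => ?_) ⟨q, hq⟩)
      have := hπ x x.2 fun e => hx (Subtype.ext e)
      rw [hl _ (show π (x : Cos hf u) ^ s = 1 from (π' x).2), hl _ x.2] at this
      exact this
  choose lab hlabs using hlab
  -- coefficients with prescribed invariants
  let T : Cos hf u → Finset (Sc V Z) := fun q => if hq : (orderOf q).Prime then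
    (Finset.univ.filter fun r : Sc V Z => r ≠ 0).image (pinv rp hrppow q hq) else ∅
  have hTcard : ∀ q, (hq : (orderOf q).Prime) → (if orderOf q = 2 then 3 else 2) ≤ (T q).card := by
    intro q hq
    simp only [T, dif_pos hq]
    let ζ : Sc V Z := ⟨rho (((rp q : F) : A) ^ orderOf q), rho_mem (hrppow q hq)⟩
    have hζ : ζ ≠ 0 := fun h => hu.1 ((smul_eq_zero_iff_eq (((rp q : F) : A) ^ orderOf q)).mp (by
      show ζ.1 u = 0
      rw [h]; rfl))
    split_ifs with h2
    · refine (hfour (h2 ▸ orderOf_dvd_natCard q)).trans ?_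
      rw [Nat.card_coe_set_eq, Set.ncard_eq_toFinset_card']
      refine Finset.card_le_card_of_injOn (fun r => r * ζ ^ 2) (fun r hr => ?_)
        (fun a _ b _ e => mul_right_cancel₀ (pow_ne_zero 2 hζ) e)
      rw [Finset.mem_coe, Set.mem_toFinset] at hr
      obtain ⟨⟨t, ht⟩, rfl⟩ := hr
      refine Finset.mem_image.mpr ⟨t, Finset.mem_filter.mpr ⟨Finset.mem_univ _, ht⟩, ?_⟩
      show (if orderOf q = 2 then (t ^ orderOf q * ζ) ^ 2 else _) = _
      rw [if_pos h2, h2]; ring
    · have hodd : Odd (orderOf q) := hq.odd_of_ne_two h2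
      refine le_trans (le_of_eq (Finset.card_pair (show ζ ≠ -ζ from ?_)).symm) (Finset.card_le_card ?_)
      · intro e
        exact hchar ((mul_eq_zero.mp (show (2 : Sc V Z) * ζ = 0 by linear_combination e)).resolve_right hζ)
      · intro r hr
        rcases Finset.mem_insert.mp hr with rfl | hr
        · refine Finset.mem_image.mpr ⟨1, Finset.mem_filter.mpr ⟨Finset.mem_univ _, one_ne_zero⟩, ?_⟩
          show (if orderOf q = 2 then _ else (1 : Sc V Z) ^ orderOf q * ζ) = ζ
          rw [if_neg h2, one_pow, one_mul]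
        · rw [Finset.mem_singleton.mp hr]
          refine Finset.mem_image.mpr ⟨-1, Finset.mem_filter.mpr ⟨Finset.mem_univ _, neg_ne_zero.mpr one_ne_zero⟩, ?_⟩
          show (if orderOf q = 2 then _ else (-1 : Sc V Z) ^ orderOf q * ζ) = -ζ
          rw [if_neg h2, hodd.neg_one_pow, neg_one_mul]
  have hc : ∀ q : Cos hf u, ∃ c : Sc V Z, (∀ hq : (orderOf q).Prime, (lab (orderOf q) q = 0 → c = 0) ∧
      (lab (orderOf q) q ≠ 0 → c ≠ 0 ∧ pinv rp hrppow q hq c = (T q).toList.getD (lab (orderOf q) q - 1) 0)) ∧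
      (¬ (orderOf q).Prime → c = 1) := fun q => by
    by_cases hq : (orderOf q).Prime
    swap
    · exact ⟨1, fun h => absurd h hq, fun _ => rfl⟩
    by_cases h0 : lab (orderOf q) q = 0
    · exact ⟨0, fun _ => ⟨fun _ => rfl, fun h => absurd h0 h⟩, fun h => absurd hq h⟩
    · have hlt : lab (orderOf q) q - 1 < (T q).toList.length := by
        rw [Finset.length_toList]
        have := ((hlabs (orderOf q) hq).1 q).trans (hTcard q hq)
        omega
      obtain ⟨v, hv⟩ : ∃ v, v = (T q).toList.getD (lab (orderOf q) q - 1) 0 := ⟨_, rfl⟩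
      have hmem : v ∈ T q := by
        rw [hv, List.getD_eq_getElem _ _ hlt]; exact Finset.mem_toList.mp (List.getElem_mem hlt)
      simp only [T, dif_pos hq, Finset.mem_image, Finset.mem_filter, Finset.mem_univ, true_and] at hmem
      obtain ⟨c, hc0, hce⟩ := hmem
      exact ⟨c, fun _ => ⟨fun h => absurd h h0, fun _ => ⟨hc0, hce.trans hv⟩⟩,
        fun h => absurd hq h⟩
  choose c hc hc1 using hc
  have hzero : ∀ q, c q = 0 → (orderOf q).Prime ∧ lab (orderOf q) q = 0 := fun q h => by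
    by_cases hq : (orderOf q).Prime
    · exact ⟨hq, by_contra fun h0 => ((hc q hq).2 h0).1 h⟩
    · exact absurd h (by rw [hc1 q hq]; exact one_ne_zero)
  refine coset_pair hu hwE hanch rp hrp (hrp1 1 rfl) c ?_ ?_
  · -- few zeros
    by_cases hnone : ∀ q, q ≠ 1 → c q ≠ 0
    · exact Or.inl hnone
    push Not at hnone
    refine Or.inr ?_
    obtain ⟨q₁, hq₁, hz₁⟩ := hnone
    have hinfo : ∀ q, q ≠ 1 → c q = 0 → (orderOf q).Prime ∧ orderOf q ≤ 3 ∧ 4 < Nat.card (K (orderOf q)) ∧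
        ∀ q', q' ≠ 1 → c q' = 0 → orderOf q' = orderOf q → q' = q := fun q hq hz => by
      obtain ⟨hp, hl0⟩ := hzero q hz
      rcases (hlabs _ hp).2.1 with h | ⟨h3, h4, q₀, hq₀⟩
      · exact absurd hl0 (h q (pow_orderOf_eq_one q) hq)
      · refine ⟨hp, h3, h4, fun q' hq' hz' ho => ?_⟩
        have hl' : lab (orderOf q) q' = 0 := ho ▸ (hzero q' hz').2
        rw [hq₀ q' (by rw [← ho]; exact pow_orderOf_eq_one q') hq' hl', hq₀ q (pow_orderOf_eq_one q) hq hl0]
    obtain ⟨hp₁, h31, h41, huniq₁⟩ := hinfo q₁ hq₁ hz₁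
    rw [Nat.card_eq_fintype_card (α := {q : Cos hf u // q ≠ 1 ∧ c q = 0}), Fintype.card_subtype]
    by_cases hone : ∀ q, q ≠ 1 → c q = 0 → orderOf q = orderOf q₁
    · have hR : (Finset.univ.filter fun q => q ≠ 1 ∧ c q = 0).card ≤ 1 := Finset.card_le_one.mpr fun a ha b hb => by
        rw [Finset.mem_filter] at ha hb
        rw [huniq₁ a ha.2.1 ha.2.2 (hone a ha.2.1 ha.2.2), huniq₁ b hb.2.1 hb.2.2 (hone b hb.2.1 hb.2.2)]
      have := Subgroup.card_le_card_group (K (orderOf q₁))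
      omega
    push Not at hone
    obtain ⟨q₂, hq₂, hz₂, hne⟩ := hone
    obtain ⟨hp₂, h32, h42, huniq₂⟩ := hinfo q₂ hq₂ hz₂
    have hR : (Finset.univ.filter fun q => q ≠ 1 ∧ c q = 0).card ≤ 2 := by
      refine (Finset.card_le_card fun q hq => ?_).trans (Finset.card_le_two (a := q₁) (b := q₂))
      rw [Finset.mem_filter] at hq
      obtain ⟨hp, h3, -, -⟩ := hinfo q hq.2.1 hq.2.2
      rw [Finset.mem_insert, Finset.mem_singleton]
      by_cases h : orderOf q = orderOf q₁
      · exact Or.inl (huniq₁ q hq.2.1 hq.2.2 h)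
      · refine Or.inr (huniq₂ q hq.2.1 hq.2.2 ?_)
        have := hp.two_le; have := hp₁.two_le; have := hp₂.two_le
        omega
    have hprod : Nat.card (K (orderOf q₁) × K (orderOf q₂)) ≤ Nat.card (Cos hf u) := by
      refine Nat.card_le_card_of_injective (fun p => (p.1 : Cos hf u) * p.2) fun p p' e => ?_
      have e' : ((p'.1⁻¹ * p.1 : K _) : Cos hf u) = ((p'.2 * p.2⁻¹ : K _) : Cos hf u) := by
        dsimp only at e
        push_cast
        rw [inv_mul_eq_iff_eq_mul, ← mul_assoc, ← e, mul_inv_cancel_right]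
      have h1 : ((p'.1⁻¹ * p.1 : K _) : Cos hf u) ^ orderOf q₁ = 1 := (p'.1⁻¹ * p.1).2
      have h2 : ((p'.1⁻¹ * p.1 : K _) : Cos hf u) ^ orderOf q₂ = 1 := by rw [e']; exact (p'.2 * p.2⁻¹).2
      have h3 := (pow_gcd_eq_one (m := orderOf q₁) (n := orderOf q₂)).mpr ⟨h1, h2⟩
      rw [((Nat.coprime_primes hp₁ hp₂).mpr (Ne.symm hne)).gcd_eq_one, pow_one] at h3
      refine Prod.ext (inv_mul_eq_one.mp (Subtype.ext h3)).symm ?_
      rw [h3] at e'
      exact (mul_inv_eq_one.mp (Subtype.ext e'.symm)).symm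
    rw [Nat.card_prod] at hprod
    have : 5 * 5 ≤ Nat.card (K (orderOf q₁)) * Nat.card (K (orderOf q₂)) := Nat.mul_le_mul h41 h42
    omega
  · intro g hgC hgu π hπ0 hπc
    have key : ∀ q, (orderOf q).Prime → π q = q := by
      intro q hq
      haveI := Fact.mk hq
      refine (hlabs _ hq).2.2 π (fun p hp hp1 => ?_) q (pow_orderOf_eq_one q)
      have hop : orderOf p = orderOf q := orderOf_eq_prime hp hp1
      have hπp : orderOf (π p) = orderOf p := MulEquiv.orderOf_eq π p
      have hP : (orderOf p).Prime := hop ▸ hq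
      have hP' : (orderOf (π p)).Prime := hπp ▸ hP
      rw [← hop]
      by_cases hl : lab (orderOf p) p = 0
      · rw [hl]
        have := (hπ0 p hp1).mp ((hc p hP).1 hl)
        have h' := (hzero _ this).2
        rwa [hπp] at h'
      · obtain ⟨hc0, hcv⟩ := (hc p hP).2 hl
        obtain ⟨x, hx, hxe, hxc⟩ := hπc p hp1 hc0
        have hJ := pinv_eq hu.1 hrppow hgC hP hP' hπp hx hxe hxc
        have hl' : lab (orderOf (π p)) (π p) ≠ 0 := fun h => hc0 ((hπ0 p hp1).mpr ((hc _ hP').1 h))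
        obtain ⟨hc0', hcv'⟩ := (hc _ hP').2 hl'
        rw [hπp] at hl' hcv'
        have hTeq : T (π p) = T p := by
          obtain ⟨μ, hμ0, hμ⟩ := exists_scalar hf hx
          have hshift : ∀ r : Sc V Z, pinv rp hrppow (π p) hP' (r * μ) = pinv rp hrppow p hP r := fun r =>
            pinv_eq hu.1 hrppow hgC hP hP' hπp hx hxe (by rw [linear_of_mem (hf.cent hx.1) r.2, hμ]; rfl)
          simp only [T, dif_pos hP, dif_pos hP']
          ext v
          simp only [Finset.mem_image, Finset.mem_filter, Finset.mem_univ, true_and]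
          constructor
          · rintro ⟨r, hr, rfl⟩
            exact ⟨r / μ, div_ne_zero hr hμ0, by rw [← hshift, div_mul_cancel₀ r hμ0]⟩
          · rintro ⟨r, hr, rfl⟩
            exact ⟨r * μ, mul_ne_zero hr hμ0, hshift r⟩
        rw [hTeq, hJ, hcv] at hcv'
        have b1 := ((hlabs _ hP).1 p).trans (hTcard p hP)
        have b2 := ((hlabs _ hP).1 (π p)).trans (hTcard p hP)
        have hl1 : lab (orderOf p) p - 1 < (T p).toList.length := by rw [Finset.length_toList]; omega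
        have hl2 : lab (orderOf p) (π p) - 1 < (T p).toList.length := by rw [Finset.length_toList]; omega
        rw [List.getD_eq_getElem _ _ hl1, List.getD_eq_getElem _ _ hl2] at hcv'
        have := (T p).nodup_toList.getElem_inj_iff.mp hcv'
        omega
    -- the elements of prime order generate
    have hgen : ∀ (n : ℕ) (q : Cos hf u), orderOf q = n → π q = q := by
      intro n
      induction n using Nat.strong_induction_on with
      | _ n ih =>
      intro q hn
      by_cases h1 : q = 1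
      · rw [h1, map_one]
      obtain ⟨s, hs, m, hm⟩ := Nat.exists_prime_and_dvd (n := n) (fun h => h1 (orderOf_eq_one_iff.mp (hn.trans h)))
      obtain ⟨N, hsq, hN, -⟩ := root_exponent hf
      have hqN : q ^ N = 1 := by
        obtain ⟨y, rfl⟩ := QuotientGroup.mk_surjective q
        rw [← QuotientGroup.mk_pow, QuotientGroup.eq_one_iff]
        show ((y ^ N : F) : A) ∈ F₀ hf u
        push_cast
        exact le_F₀ hu.1 (le_LS (hN y y.2))
      have hnsq : Squarefree (s * m) := hm ▸ hn ▸ hsq.squarefree_of_dvd (orderOf_dvd_of_pow_eq_one hqN)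
      have hcop : Nat.Coprime s m := Nat.coprime_of_squarefree_mul hnsq
      have hm0 : 0 < m := Nat.pos_of_ne_zero fun h0 => by rw [h0, mul_zero] at hnsq; exact not_squarefree_zero hnsq
      have e1 : π (q ^ m) = q ^ m := key _ (by
        rw [orderOf_pow' q hm0.ne', hn, hm, Nat.gcd_mul_left_left, Nat.mul_div_cancel _ hm0]; exact hs)
      have e2 : π (q ^ s) = q ^ s := ih m (hm ▸ lt_mul_of_one_lt_left hm0 hs.one_lt) _ (by
        rw [orderOf_pow' q hs.ne_zero, hn, hm, Nat.gcd_mul_right_left, Nat.mul_div_cancel_left _ hs.pos])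
      have hbez : q = (q ^ s) ^ Nat.gcdA s m * (q ^ m) ^ Nat.gcdB s m := by
        rw [← zpow_natCast, ← zpow_natCast, ← zpow_mul, ← zpow_mul, ← zpow_add, ← Nat.gcd_eq_gcd_ab, hcop.gcd_eq_one,
          Nat.cast_one, zpow_one]
      rw [hbez, map_mul, map_zpow, map_zpow, e1, e2]
    exact fun q => hgen _ q rfl

end CfsgLib.BaseTwo
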