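import Cfsg.Agent.Lib.BaseTwo.Base

/-!
The two kinds of sections of exponent two.
-/

set_option autoImplicit false

namespace CfsgLib.BaseTwo

open Subgroup CfsgLib.OddBase CfsgLib.BaseThree
open scoped commutatorElement

universe u

variable {A V : Type u} [Group A] [Finite A] [AddCommGroup V] [Finite V] [DistribMulAction A V]
  {Z F L : Subgroup A} {hf : Frame A V Z F L} {m : A}

theorem Sect.comm_m (hs : Sect hf m) {x y : A} (hx : x ∈ F) (hy : y ∈ F) (h : ⁅x, y⁆ ≠ 1) : ⁅x, y⁆ = m :=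
  (hs.comm_values hx hy).resolve_left h

theorem Sect.comm_symm_ne {x y : A} (h : ⁅x, y⁆ ≠ 1) : ⁅y, x⁆ ≠ 1 := fun e =>
  h ((comm_eq_one_iff x y).mpr ((comm_eq_one_iff y x).mp e).symm)

/-- Two kinds: squares are signs, or a square root of the sign is central and all squares are central squares. -/
theorem squares_kind (hs : Sect hf m) {ζ : A} (hζ : ζ ∈ Z) (hζ2 : ζ ^ 2 = m) : ∀ y ∈ F, ∃ z ∈ Z, y ^ 2 = z ^ 2 := by
  classical
  obtain ⟨z₀, hz₀, hgen⟩ := exists_gen hf.base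
  haveI := hf.normal
  haveI := hf.base.normal
  have hcomm : ∀ p ∈ Z, ∀ q ∈ Z, Commute p q := fun p hp q hq => hf.base.comm p hp q hq
  let K : Subgroup A :=
    { carrier := {y | y ∈ F ∧ ∃ z ∈ Z, y ^ 2 = z ^ 2}
      one_mem' := ⟨one_mem F, 1, one_mem Z, rfl⟩
      mul_mem' := fun {x y} ⟨hx, a, ha, ea⟩ ⟨hy, b, hb, eb⟩ => by
        refine ⟨F.mul_mem hx hy, ?_⟩
        rcases hs.comm_values hy hx with e | e
        · exact ⟨a * b, Z.mul_mem ha hb, by rw [mul_sq hf hx hy, ea, eb, e, mul_one, (hcomm a ha b hb).mul_pow]⟩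
        · exact ⟨a * b * ζ, Z.mul_mem (Z.mul_mem ha hb) hζ, by
            rw [mul_sq hf hx hy, ea, eb, e, ← hζ2, (hcomm _ (Z.mul_mem ha hb) ζ hζ).mul_pow,
              (hcomm a ha b hb).mul_pow]⟩
      inv_mem' := fun {x} ⟨hx, a, ha, ea⟩ => ⟨F.inv_mem hx, a⁻¹, Z.inv_mem ha, by rw [inv_pow, ea, inv_pow]⟩ }
  intro y hy
  by_contra hno
  have hyK : y ∉ K := fun h => hno h.2
  have hZK : Z ≤ K := fun z hz => ⟨hf.le hz, z, hz, rfl⟩
  have hKF : K ≤ F := fun x hx => hx.1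
  -- products of two elements outside
  have hodd : ∀ p ∈ F, p ∉ K → ∀ q ∈ F, q ∉ K → p⁻¹ * q ∈ K := by
    intro p hp hpK q hq hqK
    have hsq : ∀ r ∈ F, r ∉ K → ∃ n : ℤ, r ^ 2 = z₀ ^ (2 * n + 1) := fun r hr hrK => by
      obtain ⟨e, he⟩ := hgen (hs.squares r hr)
      rcases Int.even_or_odd' e with ⟨n, rfl | rfl⟩
      · exact absurd ⟨hr, z₀ ^ n, Z.zpow_mem hz₀ n, by rw [← he, ← zpow_natCast, ← zpow_mul]; ring_nf⟩ hrK
      · exact ⟨n, he.symm⟩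
    obtain ⟨a, ha⟩ := hsq p hp hpK
    obtain ⟨b, hb⟩ := hsq q hq hqK
    have hp' := F.inv_mem hp
    refine ⟨F.mul_mem hp' hq, ?_⟩
    have e : (p⁻¹ * q) ^ 2 = z₀ ^ (2 * (b - a)) * ⁅q, p⁻¹⁆ := by
      rw [mul_sq hf hp' hq, inv_pow, ha, hb, ← zpow_neg, ← zpow_add]
      congr 2; ring
    rcases hs.comm_values hq hp' with h | h
    · exact ⟨z₀ ^ (b - a), Z.zpow_mem hz₀ _, by rw [e, h, mul_one, ← zpow_natCast, ← zpow_mul]; ring_nf⟩
    · refine ⟨z₀ ^ (b - a) * ζ, Z.mul_mem (Z.zpow_mem hz₀ _) hζ, ?_⟩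
      rw [e, h, (hcomm _ (Z.zpow_mem hz₀ _) ζ hζ).mul_pow, hζ2, ← zpow_natCast, ← zpow_mul]
      ring_nf
  have hKn : K.Normal := ⟨fun x hx g => by
    obtain ⟨hxF, z, hz, e⟩ := hx
    exact ⟨hf.normal.conj_mem x hxF g, g * z * g⁻¹, hf.base.normal.conj_mem z hz g, by rw [conj_pow, conj_pow, e]⟩⟩
  haveI hPn : (F ⊓ centralizer (K : Set A)).Normal := by
    haveI := centralizer_normal (Z := K) hKn
    infer_instance
  have hP : F ⊓ centralizer (K : Set A) = Z := hf.base.maximal _ hPn (fun p hp q hq => by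
      by_cases hpK : p ∈ K
      · exact Subgroup.mem_centralizer_iff.mp hq.2 p hpK
      by_cases hqK : q ∈ K
      · exact (Subgroup.mem_centralizer_iff.mp hp.2 q hqK).symm
      have hk := hodd p hp.1 hpK q hq.1 hqK
      have h1 : p * (p⁻¹ * q) = p⁻¹ * q * p := (Subgroup.mem_centralizer_iff.mp hp.2 _ hk).symm
      calc p * q = p * (p * (p⁻¹ * q)) := by group
        _ = p * (p⁻¹ * q * p) := by rw [h1]
        _ = q * p := by group)
    fun z hz => ⟨hf.le hz, Subgroup.mem_centralizer_iff.mpr fun x hx =>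
      ((comm_eq_one_iff x z).mp (hf.central_left (hf.cent (hKF hx)) hz))⟩
  have hlt : Z.relIndex K < Z.relIndex F := by
    rw [← Subgroup.relIndex_mul_relIndex Z K F hZK hKF]
    have h1 : K.relIndex F ≠ 1 := fun e => hyK (Subgroup.relIndex_eq_one.mp e hy)
    have h0 : K.relIndex F ≠ 0 := Subgroup.FiniteIndex.index_ne_zero
    have hZ0 : 0 < Z.relIndex K := Nat.pos_of_ne_zero Subgroup.FiniteIndex.index_ne_zero
    exact lt_mul_of_one_lt_right hZ0 (by omega)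
  refine absurd ?_ (not_le.mpr hlt)
  refine pair_bound hf.base hf.cent (hKF.trans hf.cent) (fun x hx k hk => hf.comm x hx k (hKF hk))
    inferInstance (fun x hx z hz => hf.central_left (hf.cent hx) hz) fun x hx hc => ?_
  exact hP.le ⟨hx, Subgroup.mem_centralizer_iff.mpr fun k hk => ((comm_eq_one_iff x k).mp (hc k hk)).symm⟩

/-- The last pair: involutions, or two elements squaring to the sign. -/
inductive LastPair (m i j : A) : Prop
  | plus : i ^ 2 = 1 → j ^ 2 = 1 → LastPair m i j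
  | minus : i ^ 2 = m → j ^ 2 = m → LastPair m i j

theorem exists_noncentral {R : Subgroup A} (h : 1 < Z.relIndex R) : ∃ x ∈ R, x ∉ Z := by
  by_contra hcon
  push Not at hcon
  rw [Subgroup.relIndex_eq_one.mpr hcon] at h
  exact lt_irrefl 1 h

/-- Pairs when squares are central squares. -/
theorem pairs_complex (hs : Sect hf m) (hsq : ∀ y ∈ F, ∃ z ∈ Z, y ^ 2 = z ^ 2) {k : ℕ}
    (hidx : Z.relIndex F = 4 ^ (k + 1)) : ∃ X W i j, Pairs F Z k X W i j ∧ i ^ 2 = 1 ∧ j ^ 2 = 1 := by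
  have hinv : ∀ R : Subgroup A, R ≤ F → (∀ r ∈ R, (∀ w ∈ R, ⁅r, w⁆ = 1) → r ∈ Z) → Z ≤ R → 1 < Z.relIndex R →
      ∃ x ∈ R, ∃ y ∈ R, x ^ 2 = 1 ∧ y ^ 2 = 1 ∧ ⁅x, y⁆ ≠ 1 := by
    intro R hR hc hZR hi
    obtain ⟨x, hx, hxZ⟩ := exists_noncentral hi
    obtain ⟨y, hy, hxy⟩ : ∃ y ∈ R, ⁅x, y⁆ ≠ 1 := by
      by_contra h
      push Not at h
      exact hxZ (hc x hx h)
    obtain ⟨a, ha, ea⟩ := hsq x (hR hx)
    obtain ⟨b, hb, eb⟩ := hsq y (hR hy)
    have hn : ∀ {w z : A}, w ∈ F → z ∈ Z → w ^ 2 = z ^ 2 → (w * z⁻¹) ^ 2 = 1 := fun hw hz e => by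
      rw [Commute.mul_pow (((comm_eq_one_iff _ _).mp (hf.central_left (hf.cent hw) (Z.inv_mem hz)))), e, inv_pow,
        mul_inv_cancel]
    refine ⟨x * a⁻¹, R.mul_mem hx (hZR (Z.inv_mem ha)), y * b⁻¹, R.mul_mem hy (hZR (Z.inv_mem hb)),
      hn (hR hx) ha ea, hn (hR hy) hb eb, ?_⟩
    have c1 : ∀ {w z : A}, w ∈ F → z ∈ Z → ⁅z, w⁆ = 1 := fun {w z} hw hz =>
      (comm_eq_one_iff z w).mpr ((comm_eq_one_iff w z).mp (hf.central_left (hf.cent hw) hz)).symm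
    rw [Sect.bilin hf (hR hx) (hf.le (Z.inv_mem ha)) (F.mul_mem (hR hy) (hf.le (Z.inv_mem hb))),
      c1 (F.mul_mem (hR hy) (hf.le (Z.inv_mem hb))) (Z.inv_mem ha), mul_one, comm_mul_right,
      hf.central_left (hf.cent (hR hx)) (Z.inv_mem hb)]
    simpa using hxy
  obtain ⟨X, W, R₀, h0R, hZ0, h0i, h0c, hP⟩ := exists_pairs hs
    (fun R hR hZR hc hi => hinv R hR hc hZR (by omega)) k F le_rfl hf.le (fun r hr h => hf.centre_F hr h) hidx
  obtain ⟨i, hi, j, hj, hi2, hj2, hij⟩ := hinv R₀ h0R h0c hZ0 (by omega)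
  exact ⟨X, W, i, j, hP i hi j hj hij, hi2, hj2⟩

/-- Pairs when the centre has two elements. -/
theorem pairs_real (hs : Sect hf m) (hreal : ∀ z ∈ Z, z = 1 ∨ z = m) {k : ℕ}
    (hidx : Z.relIndex F = 4 ^ (k + 1)) : ∃ X W i j, Pairs F Z k X W i j ∧ LastPair m i j := by
  have hm2 : m * m = 1 := by
    rcases hreal _ (Z.mul_mem hs.mem hs.mem) with h | h
    · exact h
    · exact absurd (mul_eq_left.mp h) hs.ne
  have hadj : ∀ R : Subgroup A, R ≤ F → ∀ x ∈ R, ∀ y ∈ R, x ^ 2 = 1 → ⁅x, y⁆ ≠ 1 →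
      ∃ y' ∈ R, y' ^ 2 = 1 ∧ ⁅x, y'⁆ ≠ 1 := by
    intro R hR x hx y hy hx2 hxy
    rcases hreal _ (hs.squares y (hR hy)) with h | h
    · exact ⟨y, hy, h, hxy⟩
    · refine ⟨x * y, R.mul_mem hx hy, ?_, ?_⟩
      · rw [mul_sq hf (hR hx) (hR hy), hx2, h, one_mul, hs.comm_m (hR hy) (hR hx) (Sect.comm_symm_ne hxy), hm2]
      · rw [comm_mul_right]
        simpa using hxy
  have hinv : ∀ R : Subgroup A, R ≤ F → Z ≤ R → (∀ r ∈ R, (∀ w ∈ R, ⁅r, w⁆ = 1) → r ∈ Z) → 4 < Z.relIndex R →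
      ∃ x ∈ R, ∃ y ∈ R, x ^ 2 = 1 ∧ y ^ 2 = 1 ∧ ⁅x, y⁆ ≠ 1 := by
    intro R hR hZR hc hi
    obtain ⟨x, hx, hxZ, hx2⟩ : ∃ x ∈ R, x ∉ Z ∧ x ^ 2 = 1 := by
      by_contra hno
      push Not at hno
      have hall : ∀ r ∈ R, r ∉ Z → r ^ 2 = m := fun r hr hrZ =>
        (hreal _ (hs.squares r (hR hr))).resolve_left (hno r hr hrZ)
      obtain ⟨x, hx, hxZ⟩ := exists_noncentral (by omega : 1 < Z.relIndex R)
      obtain ⟨y, hy, hxy⟩ : ∃ y ∈ R, ⁅x, y⁆ ≠ 1 := by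
        by_contra h
        push Not at h
        exact hxZ (hc x hx h)
      obtain ⟨R', hle, hZR', hcomm, -, hidx', -⟩ := split_pair hs hR hZR hx hy hxy
      obtain ⟨r, hr, hrZ⟩ := exists_noncentral (by omega : 1 < Z.relIndex R')
      obtain ⟨e1, e2⟩ := hcomm r hr
      have hrxZ : r * x ∉ Z := fun h => by
        apply hxy
        have hz := (comm_eq_one_iff y _).mp (hf.central_left (hf.cent (hR hy)) h)
        rw [comm_eq_one_iff]
        have : r * (x * y) = r * (y * x) := by rw [← mul_assoc, ← hz, ← mul_assoc, ← e2, mul_assoc]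
        exact mul_left_cancel this
      have h1 := hall _ (R.mul_mem (hle hr) hx) hrxZ
      rw [mul_sq hf (hR (hle hr)) (hR hx), hall r (hle hr) hrZ, hall x hx hxZ,
        (comm_eq_one_iff x r).mpr e1.symm, mul_one, hm2] at h1
      exact hs.ne h1.symm
    obtain ⟨y, hy, hxy⟩ : ∃ y ∈ R, ⁅x, y⁆ ≠ 1 := by
      by_contra h
      push Not at h
      exact hxZ (hc x hx h)
    obtain ⟨y', hy', hy2, hxy'⟩ := hadj R hR x hx y hy hx2 hxy
    exact ⟨x, hx, y', hy', hx2, hy2, hxy'⟩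
  obtain ⟨X, W, R₀, h0R, hZ0, h0i, h0c, hP⟩ := exists_pairs hs hinv k F le_rfl hf.le (fun r hr h => hf.centre_F hr h) hidx
  by_cases hplus : ∃ x ∈ R₀, x ∉ Z ∧ x ^ 2 = 1
  · obtain ⟨x, hx, hxZ, hx2⟩ := hplus
    obtain ⟨y, hy, hxy⟩ : ∃ y ∈ R₀, ⁅x, y⁆ ≠ 1 := by
      by_contra h
      push Not at h
      exact hxZ (h0c x hx h)
    obtain ⟨y', hy', hy2, hxy'⟩ := hadj R₀ h0R x hx y hy hx2 hxy
    exact ⟨X, W, x, y', hP x hx y' hy' hxy', LastPair.plus hx2 hy2⟩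
  push Not at hplus
  obtain ⟨x, hx, hxZ⟩ := exists_noncentral (by omega : 1 < Z.relIndex R₀)
  obtain ⟨y, hy, hxy⟩ : ∃ y ∈ R₀, ⁅x, y⁆ ≠ 1 := by
    by_contra h
    push Not at h
    exact hxZ (h0c x hx h)
  have hyZ : y ∉ Z := fun h => hxy (hf.central_left (hf.cent (h0R hx)) h)
  exact ⟨X, W, x, y, hP x hx y hy hxy, LastPair.minus
    ((hreal _ (hs.squares x (h0R hx))).resolve_left (hplus x hx hxZ))
    ((hreal _ (hs.squares y (h0R hy))).resolve_left (hplus y hy hyZ))⟩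

end CfsgLib.BaseTwo
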