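import Cfsg.Agent.Lib.BaseTwo.Spec

/-!
Codes of the fields of three, five and nine elements.
-/

set_option autoImplicit false

namespace CfsgLib.BaseTwo

universe u

variable {K : Type u} [Field K]

theorem cast_mod' (p : ℕ) [CharP K p] (n : ℕ) : ((n % p : ℕ) : K) = n := by
  conv_rhs => rw [← Nat.mod_add_div n p]
  rw [Nat.cast_add, Nat.cast_mul, CharP.cast_eq_zero K p, zero_mul, add_zero]

theorem cast_negmod (p : ℕ) [CharP K p] (hp : 0 < p) (n : ℕ) : (((p - n % p) % p : ℕ) : K) = -(n : K) := by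
  rw [cast_mod' p, Nat.cast_sub (Nat.mod_lt n hp).le, CharP.cast_eq_zero K p, zero_sub, cast_mod' p]

/-- The code of a prime field. -/
def numMod (p : ℕ) [CharP K p] (hp : 1 < p) : Num K where
  q := p
  add := (opsMod p).add
  mul := (opsMod p).mul
  neg := (opsMod p).neg
  dec n := (n : K)
  dec_add a b := by show (((a + b) % p : ℕ) : K) = _; rw [cast_mod' p, Nat.cast_add]
  dec_mul a b := by show ((a * b % p : ℕ) : K) = _; rw [cast_mod' p, Nat.cast_mul]
  dec_neg a := cast_negmod p (by omega) a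
  dec_zero := Nat.cast_zero
  dec_one := Nat.cast_one

theorem numMod_ops (p : ℕ) [CharP K p] (hp : 1 < p) : (numMod (K := K) p hp).ops = opsMod p := rfl

theorem numMod_ok [Finite K] (p : ℕ) [CharP K p] (hp : 1 < p) (hcard : Nat.card K = p) : NumOk (numMod (K := K) p hp) := by
  have hinj : ∀ a b : ℕ, a < p → b < p → ((a : K) = b) → a = b := fun a b ha hb e => by
    have h := (CharP.natCast_eq_natCast K p).mp e
    exact Nat.ModEq.eq_of_lt_of_lt h ha hb
  refine ⟨hp, fun a b => Nat.mod_lt _ (by omega), fun a b => Nat.mod_lt _ (by omega), fun a => Nat.mod_lt _ (by omega),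
    hinj, fun x => ?_⟩
  have hbij : Function.Bijective fun i : Fin p => ((i.1 : ℕ) : K) :=
    (Nat.bijective_iff_injective_and_card _).mpr ⟨fun i j e => Fin.ext (hinj i.1 j.1 i.2 j.2 e), by
      rw [Nat.card_fin, hcard]⟩
  obtain ⟨i, hi⟩ := hbij.2 x
  exact ⟨i.1, i.2, hi⟩

/-- The code of the field of nine elements. -/
def numNine [CharP K 3] (ι : K) (hι : ι * ι = -1) : Num K where
  q := 9
  add := opsNine.add
  mul := opsNine.mul
  neg := opsNine.neg
  dec n := ((n % 3 : ℕ) : K) + ((n / 3 % 3 : ℕ) : K) * ι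
  dec_add a b := by
    have e : ∀ x y, x < 3 → (x + 3 * y) % 3 = x ∧ (y < 3 → (x + 3 * y) / 3 % 3 = y) := fun x y hx => by omega
    obtain ⟨e1, e2⟩ := e ((a % 3 + b % 3) % 3) ((a / 3 % 3 + b / 3 % 3) % 3) (by omega)
    show (((_ : ℕ) % 3 : ℕ) : K) + _ = _
    rw [show opsNine.add a b = (a % 3 + b % 3) % 3 + 3 * ((a / 3 % 3 + b / 3 % 3) % 3) from rfl, e1, e2 (by omega),
      cast_mod' 3, cast_mod' 3, Nat.cast_add, Nat.cast_add]
    ring
  dec_mul a b := by
    have e : ∀ x y, x < 3 → (x + 3 * y) % 3 = x ∧ (y < 3 → (x + 3 * y) / 3 % 3 = y) := fun x y hx => by omega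
    obtain ⟨e1, e2⟩ := e ((a % 3 * (b % 3) + 2 * (a / 3 % 3) * (b / 3 % 3)) % 3)
      ((a % 3 * (b / 3 % 3) + a / 3 % 3 * (b % 3)) % 3) (by omega)
    show (((_ : ℕ) % 3 : ℕ) : K) + _ = _
    rw [show opsNine.mul a b = (a % 3 * (b % 3) + 2 * (a / 3 % 3) * (b / 3 % 3)) % 3 +
      3 * ((a % 3 * (b / 3 % 3) + a / 3 % 3 * (b % 3)) % 3) from rfl, e1, e2 (by omega), cast_mod' 3,
      cast_mod' 3 (a % 3 * (b / 3 % 3) + a / 3 % 3 * (b % 3))]
    push_cast
    have h3 : (3 : K) = 0 := by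
      have := CharP.cast_eq_zero K 3
      exact_mod_cast this
    linear_combination ((a / 3 % 3 : ℕ) : K) * ((b / 3 % 3 : ℕ) : K) * (h3 - hι)
  dec_neg a := by
    have e : ∀ x y, x < 3 → (x + 3 * y) % 3 = x ∧ (y < 3 → (x + 3 * y) / 3 % 3 = y) := fun x y hx => by omega
    obtain ⟨e1, e2⟩ := e ((3 - a % 3) % 3) ((3 - a / 3 % 3) % 3) (by omega)
    show (((_ : ℕ) % 3 : ℕ) : K) + _ = _
    rw [show opsNine.neg a = (3 - a % 3) % 3 + 3 * ((3 - a / 3 % 3) % 3) from rfl, e1, e2 (by omega),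
      cast_negmod 3 (by norm_num), show (3 - a / 3 % 3) % 3 = (3 - a / 3 % 3 % 3) % 3 by omega,
      cast_negmod 3 (by norm_num) (a / 3 % 3), cast_mod' 3 a]
    ring
  dec_zero := by simp
  dec_one := by simp

theorem numNine_ops [CharP K 3] (ι : K) (hι : ι * ι = -1) : (numNine ι hι).ops = opsNine := rfl

theorem no_sqrt_three : ∀ t : ZMod 3, t * t ≠ -1 := by decide

theorem numNine_ok [Finite K] [CharP K 3] (ι : K) (hι : ι * ι = -1) (hcard : Nat.card K = 9) :
    NumOk (numNine ι hι) := by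
  haveI : Fact (Nat.Prime 3) := ⟨Nat.prime_three⟩
  have hc : ∀ a b : ℕ, a < 3 → b < 3 → ((a : K) = b) → a = b := fun a b ha hb e =>
    Nat.ModEq.eq_of_lt_of_lt ((CharP.natCast_eq_natCast K 3).mp e) ha hb
  have hindep : ∀ a b c d : ℕ, a < 3 → b < 3 → c < 3 → d < 3 → (a : K) + (b : K) * ι = (c : K) + (d : K) * ι →
      a = c ∧ b = d := by
    intro a b c d ha hb hc' hd e
    by_cases hbd : b = d
    · subst hbd
      exact ⟨hc a c ha hc' (add_right_cancel e), rfl⟩
    exfalso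
    let f : ZMod 3 →+* K := ZMod.castHom dvd_rfl K
    have hf : ∀ n : ℕ, f n = (n : K) := fun n => map_natCast f n
    have hne : (d : ZMod 3) - b ≠ 0 := fun h => hbd (by
      have h1 := congrArg f (sub_eq_zero.mp h)
      rw [hf, hf] at h1
      exact (hc d b hd hb h1).symm)
    obtain ⟨t, ht⟩ : ∃ t : ZMod 3, ((d : ZMod 3) - b) * t = (a : ZMod 3) - c :=
      ⟨((d : ZMod 3) - b)⁻¹ * ((a : ZMod 3) - c), by rw [← mul_assoc, mul_inv_cancel₀ hne, one_mul]⟩
    have hι' : ι = f t := by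
      have hne' : (d : K) - b ≠ 0 := by
        rw [← hf, ← hf, ← map_sub]; exact (map_ne_zero f).mpr hne
      refine mul_left_cancel₀ hne' ?_
      rw [← hf, ← hf, ← map_sub, ← map_mul, ht, map_sub, hf, hf, map_sub, hf, hf]
      linear_combination -e
    have h1 : t * t = -1 := f.injective (by rw [map_mul, ← hι', hι, map_neg, map_one])
    exact no_sqrt_three t h1
  have hinj : ∀ a b, a < 9 → b < 9 → (numNine ι hι).dec a = (numNine ι hι).dec b → a = b := fun a b ha hb e => by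
    obtain ⟨e1, e2⟩ := hindep _ _ _ _ (Nat.mod_lt _ (by norm_num)) (Nat.mod_lt _ (by norm_num))
      (Nat.mod_lt _ (by norm_num)) (Nat.mod_lt _ (by norm_num)) e
    omega
  refine ⟨by show 1 < 9; norm_num, fun a b => ?_, fun a b => ?_, fun a => ?_, hinj, fun x => ?_⟩
  · show (a % 3 + b % 3) % 3 + 3 * ((a / 3 % 3 + b / 3 % 3) % 3) < 9; omega
  · show (a % 3 * (b % 3) + 2 * (a / 3 % 3) * (b / 3 % 3)) % 3 +
      3 * ((a % 3 * (b / 3 % 3) + a / 3 % 3 * (b % 3)) % 3) < 9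
    omega
  · show (3 - a % 3) % 3 + 3 * ((3 - a / 3 % 3) % 3) < 9; omega
  have hbij : Function.Bijective fun i : Fin 9 => (numNine ι hι).dec i.1 :=
    (Nat.bijective_iff_injective_and_card _).mpr ⟨fun i j e => Fin.ext (hinj i.1 j.1 i.2 j.2 e), by
      rw [Nat.card_fin, hcard]⟩
  obtain ⟨i, hi⟩ := hbij.2 x
  exact ⟨i.1, i.2, hi⟩

theorem numNine_auto [Finite K] [CharP K 3] (ι : K) (hι : ι * ι = -1) (σ : K ≃+* K) :
    (∀ z, z < 9 → σ ((numNine ι hι).dec z) = (numNine ι hι).dec z) ∨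
      ∀ z, z < 9 → σ ((numNine ι hι).dec z) = (numNine ι hι).dec (cjNine z) := by
  have h1 : σ ι * σ ι = ι * ι := by rw [← map_mul, hι, map_neg, map_one]
  rcases mul_self_eq_mul_self_iff.mp h1 with h | h
  · left
    intro z _
    show σ (((z % 3 : ℕ) : K) + ((z / 3 % 3 : ℕ) : K) * ι) = ((z % 3 : ℕ) : K) + ((z / 3 % 3 : ℕ) : K) * ι
    rw [map_add, map_mul, map_natCast, map_natCast, h]
  · right
    intro z _
    show σ (((z % 3 : ℕ) : K) + ((z / 3 % 3 : ℕ) : K) * ι) =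
      ((cjNine z % 3 : ℕ) : K) + ((cjNine z / 3 % 3 : ℕ) : K) * ι
    have e1 : cjNine z % 3 = z % 3 := by simp only [cjNine]; omega
    have e2 : cjNine z / 3 % 3 = (3 - z / 3 % 3 % 3) % 3 := by simp only [cjNine]; omega
    rw [map_add, map_mul, map_natCast, map_natCast, h, e1, e2, cast_negmod 3 (by norm_num) (z / 3 % 3)]
    ring

end CfsgLib.BaseTwo
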