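import Cfsg.Agent.Lib.BaseTwo.Real
import Cfsg.Agent.Lib.BaseTwo.Kinds
import Cfsg.Agent.Lib.BaseTwo.Nums
import Cfsg.Agent.Lib.BaseTwo.Data.Q3MK1
import Cfsg.Agent.Lib.BaseTwo.Data.Q3MK2
import Cfsg.Agent.Lib.BaseTwo.Data.Q3MK3
import Cfsg.Agent.Lib.BaseTwo.Data.Q3MK4
import Cfsg.Agent.Lib.BaseTwo.Data.Q3PK1
import Cfsg.Agent.Lib.BaseTwo.Data.Q3PK2
import Cfsg.Agent.Lib.BaseTwo.Data.Q3PK3
import Cfsg.Agent.Lib.BaseTwo.Data.Q3PK4
import Cfsg.Agent.Lib.BaseTwo.Data.Q5CK1
import Cfsg.Agent.Lib.BaseTwo.Data.Q5CK2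
import Cfsg.Agent.Lib.BaseTwo.Data.Q5CK3
import Cfsg.Agent.Lib.BaseTwo.Data.Q5CK4
import Cfsg.Agent.Lib.BaseTwo.Data.Q5MK1
import Cfsg.Agent.Lib.BaseTwo.Data.Q5MK2
import Cfsg.Agent.Lib.BaseTwo.Data.Q5MK3
import Cfsg.Agent.Lib.BaseTwo.Data.Q5MK4
import Cfsg.Agent.Lib.BaseTwo.Data.Q5PK1
import Cfsg.Agent.Lib.BaseTwo.Data.Q5PK2
import Cfsg.Agent.Lib.BaseTwo.Data.Q5PK3
import Cfsg.Agent.Lib.BaseTwo.Data.Q5PK4
import Cfsg.Agent.Lib.BaseTwo.Data.Q9CK1
import Cfsg.Agent.Lib.BaseTwo.Data.Q9CK2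
import Cfsg.Agent.Lib.BaseTwo.Data.Q9CK3

/-!
Pairs of vectors for sections of exponent two over three, five and nine elements.
-/

set_option autoImplicit false

namespace CfsgLib.BaseTwo

open Subgroup CfsgLib.OddBase CfsgLib.BaseThree Data
open scoped commutatorElement

universe u

/-- The scalar codes are the fourth roots of unity, and the conjugation is an involution. -/
def Spec.scalarsB (S : Spec) : Bool :=
  decide S.sc.Nodup &&
    S.sc.all (fun n => decide (n < S.q) && decide ((S.o.mul n)^[4] 1 = 1)) &&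
    (List.range S.q).all fun z => decide (S.cj z < S.q) && decide (S.cj (S.cj z) = z)

variable {A V : Type u} [Group A] [Finite A] [AddCommGroup V] [Finite V] [DistribMulAction A V]
  {Z F L : Subgroup A}

/-- All fourth roots of unity are listed. -/
def Spec.rootsB (S : Spec) : Bool :=
  (List.range S.q).all fun n => decide ((S.o.mul n)^[4] 1 ≠ 1) || decide (n ∈ S.sc)

theorem roots_of_all (hf : Frame A V Z F L) (S : Spec) (ν : @Num (Sc V Z) hf.base.field.toField)
    (hops : letI := hf.base.field.toField; S.o = ν.ops) (hsize : letI := hf.base.field.toField; S.q = ν.q)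
    (hok : letI := hf.base.field.toField; NumOk ν) (hall : S.rootsB = true) :
    letI := hf.base.field.toField
    ∀ z ∈ Z, z ^ 4 = 1 → ∃ s, s < S.sc.length ∧ (rho z : AddMonoid.End V) = (ν.dec (S.sc.getD s 0)).1 := by
  classical
  letI := hf.base.field.toField
  intro z hz hz4
  simp only [Spec.rootsB, List.all_eq_true, Bool.or_eq_true, decide_eq_true_eq, List.mem_range] at hall
  obtain ⟨n, hn, en⟩ := hok.surj ⟨rho z, rho_mem hz⟩
  have h1 : (S.o.mul n)^[4] 1 = 1 := by
    refine hok.inj _ _ ?_ hok.one_lt ?_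
    · rw [hops, Function.iterate_succ', Function.comp_apply]; exact hok.mul_lt _ _
    · rw [hops, dec_iterate_mul, en, ν.dec_one]
      refine Subtype.ext ?_
      show (rho z : AddMonoid.End V) ^ 4 = 1
      rw [← map_pow, hz4, map_one]
  rcases hall n (hsize ▸ hn) with h | h
  · exact absurd h1 h
  · obtain ⟨s, hs', es⟩ := List.getElem_of_mem h
    exact ⟨s, hs', by rw [List.getD_eq_getElem _ _ hs', es, en]⟩

/-- The data fit the group. -/
theorem fits_of (hf : Frame A V Z F L) {m : A} (hs : Sect hf m) (S : Spec)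
    (ν : @Num (Sc V Z) hf.base.field.toField) (hops : letI := hf.base.field.toField; S.o = ν.ops)
    (hsize : letI := hf.base.field.toField; S.q = ν.q) (hok : letI := hf.base.field.toField; NumOk ν)
    (h2 : (2 : Sc V Z) ≠ 0) {X W : ℕ → A} {i j : A} {b₀ b₁ : V}
    (hg : letI := hf.base.field.toField; Gens hf S.k (leafE i j) (decMs ν S.mats) X W b₀ b₁)
    (hfam : S.o.familyB S.q S.mats S.forms = true) (hP : Pairs F Z S.k X W i j) (hi4 : i ^ 4 = 1) (hj4 : j ^ 4 = 1)
    (hidx : Z.relIndex F = 4 ^ (S.k + 1)) (hsc : S.scalarsB = true)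
    (hroots : letI := hf.base.field.toField;
      ∀ z ∈ Z, z ^ 4 = 1 → ∃ s, s < S.sc.length ∧ (rho z : AddMonoid.End V) = (ν.dec (S.sc.getD s 0)).1)
    (hzs : letI := hf.base.field.toField; ∀ s, s < S.sc.length →
      ∃ z ∈ Z, (rho z : AddMonoid.End V) = (ν.dec (S.sc.getD s 0)).1)
    (hspan : letI := hf.base.field.toField; ∀ r : Sc V Z, r ∈ AddSubgroup.closure (ν.dec '' {t | t ∈ S.tsc}))
    (hauto : letI := hf.base.field.toField; ∀ σ : Sc V Z ≃+* Sc V Z,
      (∀ z, z < S.q → σ (ν.dec z) = ν.dec z) ∨ ∀ z, z < S.q → σ (ν.dec z) = ν.dec (S.cj z)) :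
    ∃ zs, Fits hf S ν (leafE i j) X W zs b₀ b₁ := by
  classical
  letI := hf.base.field.toField
  simp only [Spec.scalarsB, Bool.and_eq_true, List.all_eq_true, Bool.or_eq_true, decide_eq_true_eq,
    List.mem_range] at hsc
  obtain ⟨⟨hnd, hpow⟩, hcj⟩ := hsc
  let zs : ℕ → A := fun s => if h : s < S.sc.length then (hzs s h).choose else 1
  have hzsm : ∀ s (h : s < S.sc.length), zs s ∈ Z ∧ (rho (zs s) : AddMonoid.End V) = (ν.dec (S.sc.getD s 0)).1 :=
    fun s h => by simp only [zs, dif_pos h]; exact (hzs s h).choose_spec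
  have hdec4 : ∀ n, ν.dec ((S.o.mul n)^[4] 1) = ν.dec n ^ 4 := fun n => by rw [hops, dec_iterate_mul]
  have h4 : ∀ c, leafE i j c ^ 4 = 1 := fun c => by
    fin_cases c
    · exact one_pow 4
    · exact hi4
    · exact hj4
    · exact pow_four hf hP.mem_i hP.mem_j (hs.squares i hP.mem_i) (hs.squares j hP.mem_j) hi4 hj4
  refine ⟨zs, {
    ops := hops, size := hsize, ok := hok, gens := hg, two := h2, family := (by rw [← hops, ← hsize]; exact hfam),
    squares := hs.squares, fourth := h4, index := hidx, cover := hP.cover, zs_mem := fun s h => (hzsm s h).1,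
    zs_dec := fun s h => (hzsm s h).2, zs_inj := fun s t hs' ht e => ?_, zs_fourth := fun s hs' => ?_,
    roots := fun z hz hz4 => ?_, span := hspan, conj_ok := fun z hz => hcj z hz, auto := hauto }⟩
  · have e' : ν.dec (S.sc.getD s 0) = ν.dec (S.sc.getD t 0) := Subtype.ext (by rw [← (hzsm s hs').2, ← (hzsm t ht).2, e])
    rw [List.getD_eq_getElem _ _ hs', List.getD_eq_getElem _ _ ht] at e'
    exact (List.Nodup.getElem_inj_iff hnd).mp (hok.inj _ _ (hsize ▸ (hpow _ (List.getElem_mem hs')).1)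
      (hsize ▸ (hpow _ (List.getElem_mem ht)).1) e')
  · refine hf.base.rho_inj ?_
    rw [map_pow, (hzsm s hs').2, map_one]
    have hm := List.getElem_mem hs'
    have : ν.dec (S.sc.getD s 0) ^ 4 = 1 := by
      rw [← hdec4, List.getD_eq_getElem _ _ hs', (hpow _ hm).2, ν.dec_one]
    exact congrArg Subtype.val this
  · obtain ⟨s, hs', es⟩ := hroots z hz hz4
    exact ⟨s, hs', hf.base.rho_inj ((hzsm s hs').2.trans es.symm)⟩

variable {hf : Frame A V Z F L}

/-- The sign in the centre. -/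
theorem exists_sect (hf : Frame A V Z F L) (hsq : ∀ y ∈ F, y ^ 2 ∈ Z) (h2 : (2 : Sc V Z) ≠ 0) (hidx : 1 < Z.relIndex F) :
    ∃ m, Sect hf m ∧ (rho m : AddMonoid.End V) = (-1 : Sc V Z).1 ∧ ∀ v : V, m • v = -v := by
  classical
  letI := hf.base.field.toField
  obtain ⟨x, hx, hxZ⟩ := exists_noncentral hidx
  obtain ⟨y, hy, hxy⟩ : ∃ y ∈ F, ⁅x, y⁆ ≠ 1 := by
    by_contra h
    push Not at h
    exact hxZ (hf.centre_F hx h)
  have hval : ∀ z ∈ Z, z ^ 2 = 1 → z = 1 ∨ (rho z : AddMonoid.End V) = (-1 : Sc V Z).1 := by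
    intro z hz hz2
    have hr : (⟨rho z, rho_mem hz⟩ : Sc V Z) * ⟨rho z, rho_mem hz⟩ = 1 := Subtype.ext (by
      show (rho z : AddMonoid.End V) * rho z = 1
      rw [← map_mul, ← pow_two, hz2, map_one])
    rcases mul_self_eq_one_iff.mp hr with h | h
    · exact Or.inl (hf.base.rho_inj ((congrArg Subtype.val h).trans (map_one _).symm))
    · exact Or.inr (congrArg Subtype.val h)
  set m := ⁅x, y⁆
  have hm2 : m ^ 2 = 1 := by rw [← comm_pow_right hf hx hy 2]; exact hf.central_left (hf.cent hx) (hsq y hy)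
  have hrho := (hval m (hf.comm x hx y hy) hm2).resolve_left hxy
  refine ⟨m, ⟨hf.comm x hx y hy, hxy, hsq, fun z hz hz2 => ?_⟩, hrho, fun v => ?_⟩
  · rcases hval z hz hz2 with h | h
    · exact Or.inl h
    · exact Or.inr (hf.base.rho_inj (h.trans hrho.symm))
  · rw [← rho_apply m v, hrho]
    rfl

theorem sc_apply_natCast {Z : Subgroup A} (n : ℕ) (v : V) : (n : Sc V Z).1 v = n • v := by
  induction n with
  | zero => simp
  | succ n ih =>
    rw [Nat.cast_succ, succ_nsmul, ← ih]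
    rfl

theorem smul_char {p : ℕ} [CharP (Sc V Z) p] (v : V) : p • v = 0 := by
  rw [← sc_apply_natCast (Z := Z), CharP.cast_eq_zero]
  rfl

theorem span_prime (p : ℕ) [Fact p.Prime] (hf : Frame A V Z F L) [CharP (Sc V Z) p] (hp : 1 < p)
    (hok : letI := hf.base.field.toField; NumOk (numMod (K := Sc V Z) p hp)) :
    letI := hf.base.field.toField
    ∀ r : Sc V Z, r ∈ AddSubgroup.closure ((numMod (K := Sc V Z) p hp).dec '' {t | t ∈ [1]}) := by
  letI := hf.base.field.toField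
  intro r
  obtain ⟨n, -, rfl⟩ := hok.surj r
  show ((n : ℕ) : Sc V Z) ∈ _
  rw [← nsmul_one n]
  refine AddSubgroup.nsmul_mem _ (AddSubgroup.subset_closure ?_) n
  exact Set.mem_image_of_mem (numMod (K := Sc V Z) p hp).dec (show (1 : ℕ) ∈ {t | t ∈ [1]} from List.mem_singleton.mpr rfl) |> fun h => by
    rwa [show (numMod (K := Sc V Z) p hp).dec 1 = 1 from Nat.cast_one] at h

theorem auto_prime (p : ℕ) (hf : Frame A V Z F L) [CharP (Sc V Z) p] (hp : 1 < p) (S : Spec) :
    letI := hf.base.field.toField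
    ∀ σ : Sc V Z ≃+* Sc V Z, (∀ z, z < S.q → σ ((numMod (K := Sc V Z) p hp).dec z) = (numMod (K := Sc V Z) p hp).dec z) ∨
      ∀ z, z < S.q → σ ((numMod (K := Sc V Z) p hp).dec z) = (numMod (K := Sc V Z) p hp).dec (S.cj z) :=
  letI := hf.base.field.toField
  fun σ => Or.inl fun z _ => map_natCast σ z

theorem pow_units (hf : Frame A V Z F L) {q : ℕ} (hcard : Nat.card (Sc V Z) = q) {z : A} (hz : z ∈ Z) :
    z ^ (q - 1) = 1 := by
  classical
  letI := hf.base.field.toField
  haveI : Fintype (Sc V Z) := Fintype.ofFinite _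
  have h0 : (⟨rho z, rho_mem hz⟩ : Sc V Z) ≠ 0 := fun e => by
    have h1 : (⟨rho z, rho_mem hz⟩ : Sc V Z) * ⟨rho z⁻¹, rho_mem (Z.inv_mem hz)⟩ = 1 := Subtype.ext (by
      show (rho z : AddMonoid.End V) * rho z⁻¹ = 1
      rw [← map_mul, mul_inv_cancel, map_one])
    rw [e, zero_mul] at h1
    exact zero_ne_one h1
  have := FiniteField.pow_card_sub_one_eq_one _ h0
  rw [← Nat.card_eq_fintype_card, hcard] at this
  refine hf.base.rho_inj ?_
  rw [map_pow, map_one]
  exact congrArg Subtype.val this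

/-- Pairs over three elements. -/
theorem pair_three_field (hf : Frame A V Z F L) (hsq : ∀ y ∈ F, y ^ 2 ∈ Z) {k : ℕ} (hk1 : 1 ≤ k) (hk4 : k ≤ 4)
    (hidx : Z.relIndex F = 4 ^ (k + 1)) (hcard : Nat.card (Sc V Z) = 3) (h3A : ¬ 3 ∣ Nat.card A) {v₀ : V} (hv₀ : v₀ ≠ 0) :
    ∃ v w : V, ∀ a : A, a • v = v → a • w = w → a = 1 := by
  classical
  letI := hf.base.field.toField
  haveI : Fintype (Sc V Z) := Fintype.ofFinite _
  haveI : Fact (Nat.Prime 3) := ⟨Nat.prime_three⟩
  haveI : CharP (Sc V Z) 3 := charP_of_card_eq_prime (by rw [← Nat.card_eq_fintype_card, hcard])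
  have hok := numMod_ok (K := Sc V Z) 3 (by norm_num) hcard
  have h2 : (2 : Sc V Z) ≠ 0 := fun e => by
    have := hok.inj 2 0 (show 2 < 3 by norm_num) (show 0 < 3 by norm_num) (by show ((2 : ℕ) : Sc V Z) = ((0 : ℕ) : Sc V Z); simpa using e)
    omega
  have h20 : ((2 : ℕ) : Sc V Z) = -1 := by
    have := CharP.cast_eq_zero (Sc V Z) 3
    push_cast at this ⊢
    linear_combination this
  obtain ⟨m, hs, hrho, hm⟩ := exists_sect hf hsq h2 (by rw [hidx]; exact Nat.one_lt_pow (by omega) (by norm_num))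
  have hreal : ∀ z ∈ Z, z = 1 ∨ z = m := fun z hz => hs.only z hz (pow_units hf hcard hz)
  obtain ⟨X, W, i, j, hP, hlast⟩ := pairs_real hs hreal hidx
  have hsqr : ∀ r : Sc V Z, r ≠ 0 → r * r = 1 := fun r hr => by
    have := FiniteField.pow_card_sub_one_eq_one r hr
    rw [← Nat.card_eq_fintype_card, hcard] at this
    rw [← pow_two]
    exact this
  have hcent : ∀ g : A, g ∈ centralizer (Z : Set A) := fun g => Subgroup.mem_centralizer_iff.mpr fun z hz => by
    rcases hreal z hz with rfl | rfl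
    · simp
    · haveI := hf.base.faith
      refine eq_of_smul_eq_smul fun x : V => ?_
      rw [mul_smul, mul_smul, hm, hm, smul_neg]
  have hm2 : m ^ 2 = 1 := pow_units hf hcard hs.mem
  have hneg : ((numMod (K := Sc V Z) 3 (by norm_num)).dec 2) = -1 := h20
  have hzs : ∀ s, s < [1, 2].length →
      ∃ z ∈ Z, (rho z : AddMonoid.End V) = ((numMod (K := Sc V Z) 3 (by norm_num)).dec ([1, 2].getD s 0)).1 := by
    intro s hs'
    simp only [List.length_cons, List.length_nil] at hs'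
    interval_cases s
    · exact ⟨1, one_mem Z, by rw [map_one]; show (1 : AddMonoid.End V) = ((1 : ℕ) : Sc V Z).1; rw [Nat.cast_one]; rfl⟩
    · exact ⟨m, hs.mem, hrho.trans (congrArg Subtype.val hneg.symm)⟩
  have c0 : ∀ v : V, ((numMod (K := Sc V Z) 3 (by norm_num)).dec 0).1 v = 0 := fun v => by
    show ((0 : ℕ) : Sc V Z).1 v = 0; rw [sc_apply_natCast, zero_smul]
  have c1 : ∀ v : V, ((numMod (K := Sc V Z) 3 (by norm_num)).dec 1).1 v = v := fun v => by
    show ((1 : ℕ) : Sc V Z).1 v = v; rw [sc_apply_natCast, one_smul]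
  have c2 : ∀ v : V, ((numMod (K := Sc V Z) 3 (by norm_num)).dec 2).1 v = -v := fun v => by
    rw [hneg]; rfl
  have h3v : ∀ v : V, v + v + v = 0 := fun v => by
    have := smul_char (Z := Z) (p := 3) v
    rw [succ_nsmul, two_nsmul] at this
    exact this
  suffices key : ∀ S : Spec, S.k = k → S.o = opsMod 3 → S.q = 3 → S.sc = [1, 2] → S.tsc = [1] → S.scalarsB = true →
      S.o.familyB S.q S.mats S.forms = true → S.exactB = true → (∀ z, S.cj z = z) → S.Good →
      ∀ b₀ b₁ : V, Gens hf S.k (leafE i j) (decMs (numMod (K := Sc V Z) 3 (by norm_num)) S.mats) X W b₀ b₁ →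
      i ^ 4 = 1 → j ^ 4 = 1 → ∃ v w : V, ∀ a : A, a • v = v → a • w = w → a = 1 by
    have hexp4 : ∀ x : A, x ^ 2 = 1 ∨ x ^ 2 = m → x ^ 4 = 1 := fun x hx => by
      rw [show 4 = 2 * 2 from rfl, pow_mul]
      rcases hx with e | e <;> rw [e]
      · exact one_pow 2
      · exact hm2
    rcases hlast with ⟨hi, hj⟩ | ⟨hi, hj⟩
    · obtain ⟨b₀, b₁, hb0, hb1, e1, e2, e3, e4, hind⟩ := base_plus hs hm hP h2
        (fun v => by rw [← mul_smul, ← pow_two, hi, one_smul]) (fun v => by rw [← mul_smul, ← pow_two, hj, one_smul]) hv₀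
      have hG : Gens hf k (leafE i j) (decMs (numMod (K := Sc V Z) 3 (by norm_num)) q3pk1.mats) X W b₀ b₁ :=
        gens_of_pairs hs hm hP hb0 hb1 _
          (fun c => by fin_cases c <;> simp [leafE, decMs, decM, q3pk1, c0, c1, c2, e1, e3, mul_smul, e2, e4])
          (fun c => by fin_cases c <;> simp [leafE, decMs, decM, q3pk1, c0, c1, c2, e2, e4, mul_smul, e1, e3]) hind
      interval_cases k
      · exact key q3pk1 rfl rfl rfl rfl rfl (by decide +kernel) (by decide +kernel) (by decide +kernel) (fun _ => rfl) q3pk1_good b₀ b₁ hG (hexp4 i (Or.inl hi)) (hexp4 j (Or.inl hj))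
      · exact key q3pk2 rfl rfl rfl rfl rfl (by decide +kernel) (by decide +kernel) (by decide +kernel) (fun _ => rfl) q3pk2_good b₀ b₁ hG (hexp4 i (Or.inl hi)) (hexp4 j (Or.inl hj))
      · exact key q3pk3 rfl rfl rfl rfl rfl (by decide +kernel) (by decide +kernel) (by decide +kernel) (fun _ => rfl) q3pk3_good b₀ b₁ hG (hexp4 i (Or.inl hi)) (hexp4 j (Or.inl hj))
      · exact key q3pk4 rfl rfl rfl rfl rfl (by decide +kernel) (by decide +kernel) (by decide +kernel) (fun _ => rfl) q3pk4_good b₀ b₁ hG (hexp4 i (Or.inl hi)) (hexp4 j (Or.inl hj))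
    · obtain ⟨b₀, b₁, hb0, hb1, e1, e2, e3, e4, hind⟩ := base_three hs hm hP h3v hsqr h2
        (fun v => by rw [← mul_smul, ← pow_two, hi, hm]) (fun v => by rw [← mul_smul, ← pow_two, hj, hm]) hv₀
      have hb2 : ∀ v : V, v + v = -v := fun v => eq_neg_of_add_eq_zero_left (h3v v)
      have hG : Gens hf k (leafE i j) (decMs (numMod (K := Sc V Z) 3 (by norm_num)) q3mk1.mats) X W b₀ b₁ :=
        gens_of_pairs hs hm hP hb0 hb1 _
          (fun c => by fin_cases c <;> simp [leafE, decMs, decM, q3mk1, c0, c1, c2, e1, e3, mul_smul, e2, e4, smul_add] <;> abel)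
          (fun c => by fin_cases c <;> simp [leafE, decMs, decM, q3mk1, c0, c1, c2, e2, e4, mul_smul, e1, e3, smul_add] <;> abel) hind
      interval_cases k
      · exact key q3mk1 rfl rfl rfl rfl rfl (by decide +kernel) (by decide +kernel) (by decide +kernel) (fun _ => rfl) q3mk1_good b₀ b₁ hG (hexp4 i (Or.inr hi)) (hexp4 j (Or.inr hj))
      · exact key q3mk2 rfl rfl rfl rfl rfl (by decide +kernel) (by decide +kernel) (by decide +kernel) (fun _ => rfl) q3mk2_good b₀ b₁ hG (hexp4 i (Or.inr hi)) (hexp4 j (Or.inr hj))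
      · exact key q3mk3 rfl rfl rfl rfl rfl (by decide +kernel) (by decide +kernel) (by decide +kernel) (fun _ => rfl) q3mk3_good b₀ b₁ hG (hexp4 i (Or.inr hi)) (hexp4 j (Or.inr hj))
      · exact key q3mk4 rfl rfl rfl rfl rfl (by decide +kernel) (by decide +kernel) (by decide +kernel) (fun _ => rfl) q3mk4_good b₀ b₁ hG (hexp4 i (Or.inr hi)) (hexp4 j (Or.inr hj))
  intro S hSk ho hq hsc htsc hscb hfam hex hcj hgood b₀ b₁ hG hi4 hj4
  obtain ⟨zs, H⟩ := fits_of hf hs S (numMod (K := Sc V Z) 3 (by norm_num)) ho hq hok h2 hG hfam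
    (hSk ▸ hP) hi4 hj4 (hSk ▸ hidx) hscb
    (roots_of_all hf S _ ho hq hok (by rw [Spec.rootsB, ho, hq, hsc]; decide))
    (by rw [hsc]; exact hzs) (by rw [htsc]; exact span_prime 3 hf (by norm_num) hok) (auto_prime 3 hf (by norm_num) S)
  exact H.pair (fun _ => ⟨hex, hcj, hsqr, htsc, h3A, hcent, 1, by rw [hsc]; norm_num, by rw [hsc]; exact hneg⟩) hgood

/-- Pairs over five elements. -/
theorem pair_five_field (hf : Frame A V Z F L) (hsq : ∀ y ∈ F, y ^ 2 ∈ Z) {k : ℕ} (hk1 : 1 ≤ k) (hk4 : k ≤ 4)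
    (hidx : Z.relIndex F = 4 ^ (k + 1)) (hcard : Nat.card (Sc V Z) = 5) {v₀ : V} (hv₀ : v₀ ≠ 0) :
    ∃ v w : V, ∀ a : A, a • v = v → a • w = w → a = 1 := by
  classical
  letI := hf.base.field.toField
  haveI : Fintype (Sc V Z) := Fintype.ofFinite _
  haveI : Fact (Nat.Prime 5) := ⟨by norm_num⟩
  haveI : CharP (Sc V Z) 5 := charP_of_card_eq_prime (by rw [← Nat.card_eq_fintype_card, hcard])
  have hok := numMod_ok (K := Sc V Z) 5 (by norm_num) hcard
  have h2 : (2 : Sc V Z) ≠ 0 := fun e => by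
    have := hok.inj 2 0 (show 2 < 5 by norm_num) (show 0 < 5 by norm_num)
      (by show ((2 : ℕ) : Sc V Z) = ((0 : ℕ) : Sc V Z); simpa using e)
    omega
  have h5 : (5 : Sc V Z) = 0 := by
    have := CharP.cast_eq_zero (Sc V Z) 5
    exact_mod_cast this
  obtain ⟨m, hs, hrho, hm⟩ := exists_sect hf hsq h2 (by rw [hidx]; exact Nat.one_lt_pow (by omega) (by norm_num))
  have hm2 : m ^ 2 = 1 := hf.base.rho_inj (by
    rw [map_pow, hrho, map_one]
    exact congrArg Subtype.val (neg_one_sq (R := Sc V Z)))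
  have d1 : (numMod (K := Sc V Z) 5 (by norm_num)).dec 1 = 1 := Nat.cast_one
  have d4 : (numMod (K := Sc V Z) 5 (by norm_num)).dec 4 = -1 := by
    show ((4 : ℕ) : Sc V Z) = -1
    push_cast
    linear_combination h5
  have c0 : ∀ v : V, ((numMod (K := Sc V Z) 5 (by norm_num)).dec 0).1 v = 0 := fun v => by
    show ((0 : ℕ) : Sc V Z).1 v = 0; rw [sc_apply_natCast, zero_smul]
  have c1 : ∀ v : V, ((numMod (K := Sc V Z) 5 (by norm_num)).dec 1).1 v = v := fun v => by rw [d1]; rfl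
  have c4 : ∀ v : V, ((numMod (K := Sc V Z) 5 (by norm_num)).dec 4).1 v = -v := fun v => by rw [d4]; rfl
  have h5v : ∀ v : V, v + v + (v + v) + v = 0 := fun v => by
    have := smul_char (Z := Z) (p := 5) v
    rw [← this]
    abel
  have c2 : ∀ v : V, ((numMod (K := Sc V Z) 5 (by norm_num)).dec 2).1 v = v + v := fun v => by
    show ((2 : ℕ) : Sc V Z).1 v = _; rw [sc_apply_natCast, two_nsmul]
  have c3 : ∀ v : V, ((numMod (K := Sc V Z) 5 (by norm_num)).dec 3).1 v = -(v + v) := fun v => by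
    show ((3 : ℕ) : Sc V Z).1 v = _
    rw [sc_apply_natCast, eq_neg_iff_add_eq_zero, ← h5v v]
    abel
  suffices key : ∀ (S : Spec) (X W : ℕ → A) (i j : A), S.o = opsMod 5 → S.q = 5 → S.tsc = [1] → S.scalarsB = true →
      (∀ z ∈ Z, z ^ 4 = 1 → ∃ s, s < S.sc.length ∧ (rho z : AddMonoid.End V) =
        ((numMod (K := Sc V Z) 5 (by norm_num)).dec (S.sc.getD s 0)).1) →
      (∀ s, s < S.sc.length → ∃ z ∈ Z, (rho z : AddMonoid.End V) =
        ((numMod (K := Sc V Z) 5 (by norm_num)).dec (S.sc.getD s 0)).1) →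
      S.o.familyB S.q S.mats S.forms = true → S.k = k → Pairs F Z S.k X W i j → S.Good →
      ∀ b₀ b₁ : V, Gens hf S.k (leafE i j) (decMs (numMod (K := Sc V Z) 5 (by norm_num)) S.mats) X W b₀ b₁ →
      i ^ 4 = 1 → j ^ 4 = 1 → ∃ v w : V, ∀ a : A, a • v = v → a • w = w → a = 1 by
    have hexp4 : ∀ x : A, x ^ 2 = 1 ∨ x ^ 2 = m → x ^ 4 = 1 := fun x hx => by
      rw [show 4 = 2 * 2 from rfl, pow_mul]
      rcases hx with e | e <;> rw [e]
      · exact one_pow 2
      · exact hm2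
    by_cases hC : ∃ ζ ∈ Z, ζ ^ 2 = m
    · obtain ⟨ζ, hζ, hζ2, hζv⟩ : ∃ ζ ∈ Z, ζ ^ 2 = m ∧
          (rho ζ : AddMonoid.End V) = ((numMod (K := Sc V Z) 5 (by norm_num)).dec 2).1 := by
        obtain ⟨ζ, hζ, hζ2⟩ := hC
        have hsqr : (⟨rho ζ, rho_mem hζ⟩ : Sc V Z) * ⟨rho ζ, rho_mem hζ⟩ = ((2 : ℕ) : Sc V Z) * ((2 : ℕ) : Sc V Z) := by
          rw [show ((2 : ℕ) : Sc V Z) * ((2 : ℕ) : Sc V Z) = -1 by push_cast; linear_combination h5]
          refine Subtype.ext ?_
          show (rho ζ : AddMonoid.End V) * rho ζ = _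
          rw [← map_mul, ← pow_two, hζ2, hrho]
        rcases mul_self_eq_mul_self_iff.mp hsqr with h | h
        · exact ⟨ζ, hζ, hζ2, congrArg Subtype.val h⟩
        · refine ⟨m * ζ, Z.mul_mem hs.mem hζ, ?_, ?_⟩
          · rw [(show Commute m ζ from hf.base.comm m hs.mem ζ hζ).mul_pow, hm2, one_mul, hζ2]
          · rw [map_mul, hrho, show (rho ζ : AddMonoid.End V) = (-((2 : ℕ) : Sc V Z)).1 from congrArg Subtype.val h]
            exact congrArg Subtype.val (show (-1 : Sc V Z) * -((2 : ℕ) : Sc V Z) = ((2 : ℕ) : Sc V Z) by ring)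
      obtain ⟨X, W, i, j, hP, hi, hj⟩ := pairs_complex hs (squares_kind hs hζ hζ2) hidx
      have hzs : ∀ s, s < [1, 2, 4, 3].length → ∃ z ∈ Z, (rho z : AddMonoid.End V) =
          ((numMod (K := Sc V Z) 5 (by norm_num)).dec ([1, 2, 4, 3].getD s 0)).1 := by
        intro s hs'
        simp only [List.length_cons, List.length_nil] at hs'
        interval_cases s
        · exact ⟨1, one_mem Z, by rw [map_one]; exact (congrArg Subtype.val d1).symm⟩
        · exact ⟨ζ, hζ, hζv⟩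
        · exact ⟨m, hs.mem, hrho.trans (congrArg Subtype.val d4.symm)⟩
        · refine ⟨m * ζ, Z.mul_mem hs.mem hζ, ?_⟩
          rw [map_mul, hrho, hζv]
          exact congrArg Subtype.val (show (-1 : Sc V Z) * ((2 : ℕ) : Sc V Z) = ((3 : ℕ) : Sc V Z) by
            push_cast; linear_combination -h5)
      obtain ⟨b₀, b₁, hb0, hb1, e1, e2, e3, e4, hind⟩ := base_plus hs hm hP h2
        (fun v => by rw [← mul_smul, ← pow_two, hi, one_smul]) (fun v => by rw [← mul_smul, ← pow_two, hj, one_smul]) hv₀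
      have hG : Gens hf k (leafE i j) (decMs (numMod (K := Sc V Z) 5 (by norm_num)) q5ck1.mats) X W b₀ b₁ :=
        gens_of_pairs hs hm hP hb0 hb1 _
          (fun c => by fin_cases c <;> simp [leafE, decMs, decM, q5ck1, c0, c1, c4, e1, e3, mul_smul, e2, e4])
          (fun c => by fin_cases c <;> simp [leafE, decMs, decM, q5ck1, c0, c1, c4, e2, e4, mul_smul, e1, e3]) hind
      interval_cases k
      · exact key q5ck1 X W i j rfl rfl rfl (by decide +kernel) (roots_of_all hf q5ck1 _ rfl rfl hok (by decide +kernel)) hzs (by decide +kernel) rfl hP q5ck1_good b₀ b₁ hG (hexp4 i (Or.inl hi)) (hexp4 j (Or.inl hj))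
      · exact key q5ck2 X W i j rfl rfl rfl (by decide +kernel) (roots_of_all hf q5ck2 _ rfl rfl hok (by decide +kernel)) hzs (by decide +kernel) rfl hP q5ck2_good b₀ b₁ hG (hexp4 i (Or.inl hi)) (hexp4 j (Or.inl hj))
      · exact key q5ck3 X W i j rfl rfl rfl (by decide +kernel) (roots_of_all hf q5ck3 _ rfl rfl hok (by decide +kernel)) hzs (by decide +kernel) rfl hP q5ck3_good b₀ b₁ hG (hexp4 i (Or.inl hi)) (hexp4 j (Or.inl hj))
      · exact key q5ck4 X W i j rfl rfl rfl (by decide +kernel) (roots_of_all hf q5ck4 _ rfl rfl hok (by decide +kernel)) hzs (by decide +kernel) rfl hP q5ck4_good b₀ b₁ hG (hexp4 i (Or.inl hi)) (hexp4 j (Or.inl hj))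
    push Not at hC
    have hreal : ∀ z ∈ Z, z = 1 ∨ z = m := fun z hz => by
      have h4 : (z ^ 2) ^ 2 = 1 := by rw [← pow_mul]; exact pow_units hf hcard hz
      exact hs.only z hz ((hs.only _ (Z.pow_mem hz 2) h4).resolve_right (hC z hz))
    obtain ⟨X, W, i, j, hP, hlast⟩ := pairs_real hs hreal hidx
    have hzs : ∀ s, s < [1, 4].length → ∃ z ∈ Z, (rho z : AddMonoid.End V) =
        ((numMod (K := Sc V Z) 5 (by norm_num)).dec ([1, 4].getD s 0)).1 := by
      intro s hs'
      simp only [List.length_cons, List.length_nil] at hs'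
      interval_cases s
      · exact ⟨1, one_mem Z, by rw [map_one]; exact (congrArg Subtype.val d1).symm⟩
      · exact ⟨m, hs.mem, hrho.trans (congrArg Subtype.val d4.symm)⟩
    have hroots : ∀ z ∈ Z, z ^ 4 = 1 → ∃ s, s < [1, 4].length ∧ (rho z : AddMonoid.End V) =
        ((numMod (K := Sc V Z) 5 (by norm_num)).dec ([1, 4].getD s 0)).1 := fun z hz _ => by
      rcases hreal z hz with rfl | rfl
      · exact ⟨0, by norm_num, by rw [map_one]; exact (congrArg Subtype.val d1).symm⟩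
      · exact ⟨1, by norm_num, hrho.trans (congrArg Subtype.val d4.symm)⟩
    rcases hlast with ⟨hi, hj⟩ | ⟨hi, hj⟩
    · obtain ⟨b₀, b₁, hb0, hb1, e1, e2, e3, e4, hind⟩ := base_plus hs hm hP h2
        (fun v => by rw [← mul_smul, ← pow_two, hi, one_smul]) (fun v => by rw [← mul_smul, ← pow_two, hj, one_smul]) hv₀
      have hG : Gens hf k (leafE i j) (decMs (numMod (K := Sc V Z) 5 (by norm_num)) q5pk1.mats) X W b₀ b₁ :=
        gens_of_pairs hs hm hP hb0 hb1 _
          (fun c => by fin_cases c <;> simp [leafE, decMs, decM, q5pk1, c0, c1, c4, e1, e3, mul_smul, e2, e4])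
          (fun c => by fin_cases c <;> simp [leafE, decMs, decM, q5pk1, c0, c1, c4, e2, e4, mul_smul, e1, e3]) hind
      interval_cases k
      · exact key q5pk1 X W i j rfl rfl rfl (by decide +kernel) hroots hzs (by decide +kernel) rfl hP q5pk1_good b₀ b₁ hG (hexp4 i (Or.inl hi)) (hexp4 j (Or.inl hj))
      · exact key q5pk2 X W i j rfl rfl rfl (by decide +kernel) hroots hzs (by decide +kernel) rfl hP q5pk2_good b₀ b₁ hG (hexp4 i (Or.inl hi)) (hexp4 j (Or.inl hj))
      · exact key q5pk3 X W i j rfl rfl rfl (by decide +kernel) hroots hzs (by decide +kernel) rfl hP q5pk3_good b₀ b₁ hG (hexp4 i (Or.inl hi)) (hexp4 j (Or.inl hj))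
      · exact key q5pk4 X W i j rfl rfl rfl (by decide +kernel) hroots hzs (by decide +kernel) rfl hP q5pk4_good b₀ b₁ hG (hexp4 i (Or.inl hi)) (hexp4 j (Or.inl hj))
    · obtain ⟨b₀, b₁, hb0, hb1, e1, e2, e3, e4, hind⟩ := base_five hs hm hP h2 h5v
        (fun v => by rw [← mul_smul, ← pow_two, hi, hm]) (fun v => by rw [← mul_smul, ← pow_two, hj, hm]) hv₀
      have hG : Gens hf k (leafE i j) (decMs (numMod (K := Sc V Z) 5 (by norm_num)) q5mk1.mats) X W b₀ b₁ :=
        gens_of_pairs hs hm hP hb0 hb1 _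
          (fun c => by fin_cases c <;> simp [leafE, decMs, decM, q5mk1, c0, c1, c2, c3, c4, e1, e3, mul_smul, e2, e4, smul_add] <;> abel)
          (fun c => by fin_cases c <;> simp [leafE, decMs, decM, q5mk1, c0, c1, c2, c3, c4, e2, e4, mul_smul, e1, e3, smul_add] <;> abel) hind
      interval_cases k
      · exact key q5mk1 X W i j rfl rfl rfl (by decide +kernel) hroots hzs (by decide +kernel) rfl hP q5mk1_good b₀ b₁ hG (hexp4 i (Or.inr hi)) (hexp4 j (Or.inr hj))
      · exact key q5mk2 X W i j rfl rfl rfl (by decide +kernel) hroots hzs (by decide +kernel) rfl hP q5mk2_good b₀ b₁ hG (hexp4 i (Or.inr hi)) (hexp4 j (Or.inr hj))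
      · exact key q5mk3 X W i j rfl rfl rfl (by decide +kernel) hroots hzs (by decide +kernel) rfl hP q5mk3_good b₀ b₁ hG (hexp4 i (Or.inr hi)) (hexp4 j (Or.inr hj))
      · exact key q5mk4 X W i j rfl rfl rfl (by decide +kernel) hroots hzs (by decide +kernel) rfl hP q5mk4_good b₀ b₁ hG (hexp4 i (Or.inr hi)) (hexp4 j (Or.inr hj))
  intro S X W i j ho hq htsc hscb hroots hzs hfam hSk hP hgood b₀ b₁ hG hi4 hj4
  obtain ⟨zs, H⟩ := fits_of hf hs S (numMod (K := Sc V Z) 5 (by norm_num)) ho hq hok h2 hG hfam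
    hP hi4 hj4 (hSk ▸ hidx) hscb hroots hzs (by rw [htsc]; exact span_prime 5 hf (by norm_num) hok) (auto_prime 5 hf (by norm_num) S)
  exact H.pair (fun h => absurd (hq.symm.trans h) (by norm_num)) hgood

set_option maxHeartbeats 1000000 in
/-- Pairs over nine elements. -/
theorem pair_nine_field (hf : Frame A V Z F L) (hsq : ∀ y ∈ F, y ^ 2 ∈ Z) {k : ℕ} (hk1 : 1 ≤ k) (hk3 : k ≤ 3)
    (hidx : Z.relIndex F = 4 ^ (k + 1)) (hcard : Nat.card (Sc V Z) = 9) {v₀ : V} (hv₀ : v₀ ≠ 0) :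
    ∃ v w : V, ∀ a : A, a • v = v → a • w = w → a = 1 := by
  classical
  letI := hf.base.field.toField
  haveI : Fintype (Sc V Z) := Fintype.ofFinite _
  haveI : CharP (Sc V Z) 3 := by
    obtain ⟨p, hp⟩ := CharP.exists (Sc V Z)
    haveI := hp
    obtain ⟨n, hpp, hn⟩ := FiniteField.card (Sc V Z) p
    rw [← Nat.card_eq_fintype_card, hcard] at hn
    have : p ∣ 3 := hpp.dvd_of_dvd_pow (m := 3) (n := 2) (by
      rw [show 3 ^ 2 = 9 from rfl, hn]; exact dvd_pow_self p n.ne_zero)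
    rcases (Nat.dvd_prime Nat.prime_three).mp this with e | e
    · exact absurd e hpp.one_lt.ne'
    · exact e ▸ hp
  have h3 : (3 : Sc V Z) = 0 := by
    have := CharP.cast_eq_zero (Sc V Z) 3
    exact_mod_cast this
  have h2 : (2 : Sc V Z) ≠ 0 := fun e => one_ne_zero (α := Sc V Z) (by linear_combination h3 - e)
  obtain ⟨m, hs, hrho, hm⟩ := exists_sect hf hsq h2 (by rw [hidx]; exact Nat.one_lt_pow (by omega) (by norm_num))
  obtain ⟨ζ, hζ, hζ2⟩ : ∃ ζ ∈ Z, ζ ^ 2 = m := by
    obtain ⟨z, hz, hz2⟩ : ∃ z ∈ Z, z ^ 2 ≠ 1 := by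
      by_contra hno
      push Not at hno
      have hcube : ∀ r : Sc V Z, r ^ 3 = r := by
        suffices h : ∀ (r : AddMonoid.End V) (hr : r ∈ genRing (V := V) Z), (⟨r, hr⟩ : Sc V Z) ^ 3 = ⟨r, hr⟩ from
          fun r => h r.1 r.2
        intro r hr
        induction hr using Subring.closure_induction with
        | mem x hx =>
          obtain ⟨z, hz, rfl⟩ := hx
          refine Subtype.ext ?_
          show (rho z : AddMonoid.End V) ^ 3 = rho z
          rw [← map_pow, pow_succ, hno z hz, one_mul]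
        | zero => exact zero_pow three_ne_zero
        | one => exact one_pow 3
        | add x y hx hy h1 h2' =>
          show ((⟨x, hx⟩ : Sc V Z) + ⟨y, hy⟩) ^ 3 = ⟨x, hx⟩ + ⟨y, hy⟩
          linear_combination h1 + h2' + ((⟨x, hx⟩ : Sc V Z) ^ 2 * ⟨y, hy⟩ + (⟨x, hx⟩ : Sc V Z) * ⟨y, hy⟩ ^ 2) * h3
        | neg x hx h1 =>
          show (-(⟨x, hx⟩ : Sc V Z)) ^ 3 = -⟨x, hx⟩
          linear_combination -h1
        | mul x y hx hy h1 h2' =>
          show ((⟨x, hx⟩ : Sc V Z) * ⟨y, hy⟩) ^ 3 = ⟨x, hx⟩ * ⟨y, hy⟩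
          rw [mul_pow, h1, h2']
      have hle : (Finset.univ : Finset (Sc V Z)) ⊆ {0, 1, -1} := fun r _ => by
        have h := hcube r
        have : r = 0 ∨ r * r = 1 := by
          rcases eq_or_ne r 0 with e | e
          · exact Or.inl e
          · exact Or.inr (mul_left_cancel₀ e (by linear_combination h))
        rcases this with e | e
        · simp [e]
        · rcases mul_self_eq_one_iff.mp e with e | e <;> simp [e]
      have := (Finset.card_le_card hle).trans (Finset.card_le_three)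
      rw [Finset.card_univ, ← Nat.card_eq_fintype_card, hcard] at this
      omega
    have h8 := pow_units hf hcard hz
    by_cases h4 : z ^ 4 = 1
    · exact ⟨z, hz, (hs.only _ (Z.pow_mem hz 2) (by rw [← pow_mul]; exact h4)).resolve_left hz2⟩
    · exact ⟨z ^ 2, Z.pow_mem hz 2, by
        rw [← pow_mul]
        exact (hs.only _ (Z.pow_mem hz 4) (by rw [← pow_mul]; exact h8)).resolve_left h4⟩
  let ι : Sc V Z := ⟨rho ζ, rho_mem hζ⟩
  have hι : ι * ι = -1 := Subtype.ext (by
    show (rho ζ : AddMonoid.End V) * rho ζ = _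
    rw [← map_mul, ← pow_two, hζ2, hrho])
  have hok := numNine_ok ι hι hcard
  have d1 : (numNine ι hι).dec 1 = 1 := (numNine ι hι).dec_one
  have d2 : (numNine ι hι).dec 2 = -1 := by
    show ((2 % 3 : ℕ) : Sc V Z) + ((2 / 3 % 3 : ℕ) : Sc V Z) * ι = -1
    norm_num
    linear_combination h3
  have d3 : (numNine ι hι).dec 3 = ι := by
    show ((3 % 3 : ℕ) : Sc V Z) + ((3 / 3 % 3 : ℕ) : Sc V Z) * ι = ι
    norm_num
  have d6 : (numNine ι hι).dec 6 = -ι := by
    show ((6 % 3 : ℕ) : Sc V Z) + ((6 / 3 % 3 : ℕ) : Sc V Z) * ι = -ι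
    norm_num
    linear_combination ι * h3
  have c0 : ∀ v : V, ((numNine ι hι).dec 0).1 v = 0 := fun v => by rw [(numNine ι hι).dec_zero]; rfl
  have c1 : ∀ v : V, ((numNine ι hι).dec 1).1 v = v := fun v => by rw [d1]; rfl
  have c2 : ∀ v : V, ((numNine ι hι).dec 2).1 v = -v := fun v => by rw [d2]; rfl
  obtain ⟨X, W, i, j, hP, hi, hj⟩ := pairs_complex hs (squares_kind hs hζ hζ2) hidx
  suffices key : ∀ S : Spec, S.o = opsNine → S.q = 9 → S.cj = cjNine → S.tsc = [1, 3] → S.sc = [1, 3, 2, 6] →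
      S.scalarsB = true → S.o.familyB S.q S.mats S.forms = true → S.k = k → Pairs F Z S.k X W i j → S.Good →
      ∀ b₀ b₁ : V, Gens hf S.k (leafE i j) (decMs (numNine ι hι) S.mats) X W b₀ b₁ →
      ∃ v w : V, ∀ a : A, a • v = v → a • w = w → a = 1 by
    obtain ⟨b₀, b₁, hb0, hb1, e1, e2, e3, e4, hind⟩ := base_plus hs hm hP h2
      (fun v => by rw [← mul_smul, ← pow_two, hi, one_smul]) (fun v => by rw [← mul_smul, ← pow_two, hj, one_smul]) hv₀
    have hG : Gens hf k (leafE i j) (decMs (numNine ι hι) q9ck1.mats) X W b₀ b₁ :=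
      gens_of_pairs hs hm hP hb0 hb1 _
        (fun c => by fin_cases c <;> simp [leafE, decMs, decM, q9ck1, c0, c1, c2, e1, e3, mul_smul, e2, e4])
        (fun c => by fin_cases c <;> simp [leafE, decMs, decM, q9ck1, c0, c1, c2, e2, e4, mul_smul, e1, e3]) hind
    interval_cases k
    · exact key q9ck1 rfl rfl rfl rfl rfl (by decide +kernel) (by decide +kernel) rfl hP q9ck1_good b₀ b₁ hG
    · exact key q9ck2 rfl rfl rfl rfl rfl (by decide +kernel) (by decide +kernel) rfl hP q9ck2_good b₀ b₁ hG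
    · exact key q9ck3 rfl rfl rfl rfl rfl (by decide +kernel) (by decide +kernel) rfl hP q9ck3_good b₀ b₁ hG
  intro S ho hq hcj htsc hsc hscb hfam hSk hP' hgood b₀ b₁ hG
  obtain ⟨zs, H⟩ := fits_of hf hs S (numNine ι hι) ho hq hok h2 hG hfam
    hP' (by rw [show 4 = 2 * 2 from rfl, pow_mul, hi, one_pow]) (by rw [show 4 = 2 * 2 from rfl, pow_mul, hj, one_pow])
    (hSk ▸ hidx) hscb (roots_of_all hf S _ ho hq hok (by rw [Spec.rootsB, ho, hq, hsc]; decide))
    (by
      rw [hsc]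
      intro s hs'
      simp only [List.length_cons, List.length_nil] at hs'
      interval_cases s
      · exact ⟨1, one_mem Z, by rw [map_one]; exact (congrArg Subtype.val d1).symm⟩
      · exact ⟨ζ, hζ, (congrArg Subtype.val d3).symm⟩
      · exact ⟨m, hs.mem, hrho.trans (congrArg Subtype.val d2.symm)⟩
      · refine ⟨m * ζ, Z.mul_mem hs.mem hζ, ?_⟩
        rw [map_mul, hrho]
        exact congrArg Subtype.val (show (-1 : Sc V Z) * ι = (numNine ι hι).dec 6 by rw [d6, neg_one_mul]))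
    (by
      rw [htsc]
      intro r
      obtain ⟨n, -, rfl⟩ := hok.surj r
      show ((n % 3 : ℕ) : Sc V Z) + ((n / 3 % 3 : ℕ) : Sc V Z) * ι ∈ _
      refine add_mem ?_ ?_
      · rw [← nsmul_one (n % 3)]
        exact AddSubgroup.nsmul_mem _ (AddSubgroup.subset_closure
          ((Set.mem_image (numNine ι hι).dec {t | t ∈ [1, 3]} _).mpr ⟨1, List.mem_cons_self, d1⟩)) _
      · rw [← nsmul_eq_mul]
        exact AddSubgroup.nsmul_mem _ (AddSubgroup.subset_closure
          ((Set.mem_image (numNine ι hι).dec {t | t ∈ [1, 3]} _).mpr ⟨3, List.mem_cons_of_mem _ List.mem_cons_self, d3⟩)) _)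
    (by rw [hcj, hq]; exact numNine_auto ι hι)
  exact H.pair (fun h => absurd (hq.symm.trans h) (by norm_num)) hgood

end CfsgLib.BaseTwo
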