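import Cfsg.Agent.Lib.BaseTwo.Count
import Cfsg.Agent.Lib.BaseTwo.Design
import Cfsg.Agent.Lib.BaseTwo.Families

/-!
Pairs of vectors when a maximal abelian normal subgroup generates a field of odd order.
-/

set_option autoImplicit false

namespace CfsgLib.BaseTwo

open Subgroup CfsgLib.OddBase CfsgLib.BaseThree
open scoped commutatorElement

universe u

variable {A V : Type u} [Group A] [Finite A] [AddCommGroup V] [Finite V] [DistribMulAction A V]
  {Z F L : Subgroup A}

/-- A coset space of at most two elements needs no colours. -/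
theorem tiny_pair {hf : Frame A V Z F L} {u : V} (hu : MaxLine hf u) {w : V} (hwE : w ∈ Eig hf u)
    (hanch : ∀ g : A, g • u = u → g • w = w → g ∈ centralizer (Z : Set A) ∧ ∀ x ∈ F₀ hf u, g • x • u = x • u)
    (hY : Nat.card (Cos hf u) ≤ 2) : ∃ x y : V, ∀ a : A, a • x = x → a • y = y → a = 1 := by
  classical
  letI : Field (Sc V Z) := hf.base.field.toField
  haveI : Fintype (Cos hf u) := Fintype.ofFinite _
  refine coset_pair hu hwE hanch (fun q => if q = 1 then 1 else q.out) (fun q => ?_) (if_pos rfl) (fun _ => 1)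
    (Or.inl fun q _ => one_ne_zero) fun g _ _ π _ _ q => ?_
  · show QuotientGroup.mk (if q = 1 then 1 else q.out) = q
    split_ifs with h
    · rw [h]; rfl
    · exact QuotientGroup.out_eq' q
  by_cases h1 : q = 1
  · rw [h1, map_one]
  by_contra hne
  have h2 : π q ≠ 1 := fun e => h1 (π.injective (e.trans (map_one π).symm))
  have h3 : ({1, q, π q} : Finset (Cos hf u)).card = 3 := by
    rw [Finset.card_insert_of_notMem (by simp [Ne.symm h1, Ne.symm h2]), Finset.card_pair (Ne.symm hne)]
  have := Finset.card_le_univ ({1, q, π q} : Finset (Cos hf u))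
  rw [Nat.card_eq_fintype_card] at hY
  omega

/-- The number of translates of the eigenspace squared is at most the index. -/
theorem cos_sq_le {hf : Frame A V Z F L} {u : V} (hu : u ≠ 0) :
    Nat.card (Cos hf u) * Nat.card (Cos hf u) ≤ Z.relIndex F := by
  have hLF : LS hf u ≤ F := fun x hx => hx.1
  have h1 : (F₀ hf u).relIndex F ≤ Z.relIndex (LS hf u) := by
    refine pair_bound hf.base (X := F) (X₀ := F₀ hf u) (Y := LS hf u) (Y₀ := Z) hf.cent (hLF.trans hf.cent)
      (fun x hx y hy => hf.comm x hx y (hLF hy)) ?_ (fun x hx z hz => hf.central_left (hf.cent hx) hz)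
      fun x hx hc => ⟨hx, Subgroup.mem_centralizer_iff.mpr fun y hy => ((comm_eq_one_iff x y).mp (hc y hy)).symm⟩
    haveI := hf.base.normal
    infer_instance
  have h2 : Z.relIndex (LS hf u) * (LS hf u).relIndex (F₀ hf u) * (F₀ hf u).relIndex F = Z.relIndex F := by
    rw [Subgroup.relIndex_mul_relIndex _ _ _ le_LS (le_F₀ hu),
      Subgroup.relIndex_mul_relIndex _ _ _ (le_LS.trans (le_F₀ hu)) inf_le_left]
  have h3 : 1 ≤ (LS hf u).relIndex (F₀ hf u) := Nat.one_le_iff_ne_zero.mpr FiniteIndex.index_ne_zero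
  show (F₀ hf u).relIndex F * (F₀ hf u).relIndex F ≤ _
  rw [← h2]
  refine Nat.mul_le_mul_right _ (h1.trans ?_)
  calc Z.relIndex (LS hf u) = Z.relIndex (LS hf u) * 1 := (mul_one _).symm
    _ ≤ _ := Nat.mul_le_mul_left _ h3

omit [Finite A] [Finite V] in
theorem two_ne_zero_of_odd {K : Type u} [Field K] [Finite K] (h2 : (2 : K) ≠ 0) : Odd (Nat.card K) := by
  haveI : Fintype K := Fintype.ofFinite _
  rw [Nat.card_eq_fintype_card]
  exact Nat.odd_iff.mpr (FiniteField.odd_card_of_char_ne_two fun e => h2 (by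
    haveI := ringChar.of_eq e
    exact CharTwo.two_eq_zero))

omit [Finite A] [Finite V] in
/-- Few fourth powers: the field has three, five or nine elements. -/
theorem small_field {K : Type u} [Field K] [Finite K] (h2 : (2 : K) ≠ 0)
    (hfew : Nat.card (Set.range fun r : {r : K // r ≠ 0} => (r.1 : K) ^ 4) < 3) :
    Nat.card K = 3 ∨ Nat.card K = 5 ∨ Nat.card K = 9 := by
  classical
  haveI : Fintype K := Fintype.ofFinite _
  let s : Finset K := Finset.univ.erase 0
  let T : Finset K := s.image fun r => r ^ 4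
  have hT : T.card ≤ 2 := by
    have e : Nat.card (Set.range fun r : {r : K // r ≠ 0} => (r.1 : K) ^ 4) = T.card := by
      rw [← Nat.card_eq_finsetCard]
      refine Nat.card_congr (Equiv.setCongr (Set.ext fun x => ?_))
      simp [T, s]
    omega
  have hs : s.card = Nat.card K - 1 := by
    rw [Finset.card_erase_of_mem (Finset.mem_univ _), Finset.card_univ, Nat.card_eq_fintype_card]
  have h8 : s.card ≤ 4 * T.card := by
    refine Finset.card_le_mul_card_image _ _ fun b _ => ?_
    refine (Finset.card_le_card (t := (Polynomial.nthRoots 4 b).toFinset) fun x hx => ?_).trans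
      ((Multiset.toFinset_card_le _).trans (Polynomial.card_nthRoots 4 b))
    rw [Multiset.mem_toFinset, Polynomial.mem_nthRoots (by norm_num)]
    exact (Finset.mem_filter.mp hx).2
  have hodd := Nat.odd_iff.mp (two_ne_zero_of_odd h2)
  have hgt : 1 < Nat.card K := Finite.one_lt_card
  have h7 : Nat.card K ≠ 7 := fun e7 => by
    have h6 : ∀ x : K, x ≠ 0 → x ^ 6 = 1 := fun x hx => by
      have := FiniteField.pow_card_sub_one_eq_one x hx
      rwa [← Nat.card_eq_fintype_card, e7] at this
    have h3 : s.card ≤ 2 * T.card := by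
      refine Finset.card_le_mul_card_image _ _ fun b hb => ?_
      obtain ⟨y, hy, rfl⟩ := Finset.mem_image.mp hb
      refine (Finset.card_le_card fun x hx => ?_).trans (Finset.card_le_two (a := y) (b := -y))
      obtain ⟨hxs, hxy⟩ := Finset.mem_filter.mp hx
      have hxy2 : x ^ 2 = y ^ 2 := by
        have k : ∀ z : K, z ∈ s → z ^ 2 = (z ^ 4) ^ 2 := fun z hz => by
          calc z ^ 2 = z ^ 2 * z ^ 6 := by rw [h6 z (Finset.ne_of_mem_erase hz), mul_one]
            _ = _ := by ring
        rw [k x hxs, k y hy, hxy]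
      rw [Finset.mem_insert, Finset.mem_singleton]
      exact sq_eq_sq_iff_eq_or_eq_neg.mp hxy2
    omega
  omega

theorem char_three {h : Setup A V Z} (hcard : Nat.card (Sc V Z) = 3) (v : V) : 3 • v = 0 := by
  letI := h.field.toField
  haveI : Fintype (Sc V Z) := Fintype.ofFinite _
  haveI : Fact (Nat.Prime 3) := ⟨Nat.prime_three⟩
  haveI : CharP (Sc V Z) 3 := charP_of_card_eq_prime (by rw [← Nat.card_eq_fintype_card, hcard])
  exact smul_char (Z := Z) v

/-- Two vectors in the field case, the action being coprime. -/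
theorem field_pair (h : Setup A V Z) (hsol : Group.IsSolvable A) (h2 : (2 : Sc V Z) ≠ 0)
    (hcop : (Nat.card A).Coprime (Nat.card V)) (hne : ∃ x : V, x ≠ 0) : Pair A V := by
  classical
  haveI := h.normal
  haveI := h.faith
  obtain ⟨v, hv⟩ := hne
  suffices hp : ∃ x y : V, ∀ a : A, a • x = x → a • y = y → a = 1 by
    obtain ⟨x, y, hxy⟩ := hp
    exact ⟨x, y, fun a ha hb z => by rw [hxy a ha hb, one_smul]⟩
  by_cases hCZ : centralizer (Z : Set A) ≤ Z
  · obtain ⟨z₀, hz₀, hgen⟩ := exists_gen h
    refine ⟨v, z₀ • v, fun a ha haz => ?_⟩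
    have hconj : a * z₀ * a⁻¹ ∈ Z := h.normal.conj_mem _ hz₀ a
    have e : (a * z₀ * a⁻¹) • v = z₀ • v := by
      rw [mul_smul, mul_smul, show a⁻¹ • v = v by rw [inv_smul_eq_iff, ha], haz]
    have hac : a * z₀ * a⁻¹ = z₀ := by
      by_contra hcon
      refine hv (h.fx_center (Z.mul_mem (Z.inv_mem hz₀) hconj) (fun e1 => hcon (inv_mul_eq_one.mp e1).symm) ?_)
      rw [mul_smul, e, inv_smul_smul]
    by_contra hcon
    exact hv (h.fx_center (hCZ (mem_cent_of_gen hgen hac)) hcon ha)
  haveI : Group.IsSolvable A := hsol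
  obtain ⟨F, L, hf⟩ := exists_frame h
  obtain ⟨u, hu, w, hwE, hanch⟩ := exists_anchor hf hv
  letI : Field (Sc V Z) := h.field.toField
  have hodd := Nat.odd_iff.mp (two_ne_zero_of_odd h2)
  have hQ : 3 ≤ Nat.card (Sc V Z) := by
    have : 1 < Nat.card (Sc V Z) := Finite.one_lt_card
    omega
  by_cases hw : 4096 ≤ Z.relIndex F
  · exact count_pair hsol hf hw hQ
  have hsq := cos_sq_le (hf := hf) hu.1
  have hY : Nat.card (Cos hf u) < 64 := by
    by_contra hge
    push Not at hge
    have := Nat.mul_le_mul hge hge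
    omega
  by_cases hY2 : Nat.card (Cos hf u) ≤ 2
  · exact tiny_pair hu hwE hanch hY2
  by_cases hfour : 2 ∣ Nat.card (Cos hf u) →
      3 ≤ Nat.card (Set.range fun r : {r : Sc V Z // r ≠ 0} => (r.1 : Sc V Z) ^ 4)
  · exact design_pair hu hwE hanch h2 hY hfour
  push Not at hfour
  have hsmall := small_field h2 hfour.2
  -- the section has exponent two
  have hsq2 : ∀ y ∈ F, y ^ 2 ∈ Z := by
    obtain ⟨N, hNsq, hN, hroot⟩ := root_exponent hf
    have hN2 : ∀ s, s.Prime → s ∣ N → s = 2 := fun s hs hd => by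
      obtain ⟨-, z, hz, hzo⟩ := hroot s hs hd
      let ζu := (zeta (V := V) Z).toHomUnits
      have hinj : Function.Injective ζu := fun a b e => zeta_injective h (congrArg Units.val e)
      have h1 : s ∣ Nat.card (Sc V Z)ˣ := by
        rw [← hzo, ← Subgroup.orderOf_mk z hz, ← orderOf_injective ζu hinj]
        exact orderOf_dvd_natCard _
      haveI : Fintype (Sc V Z) := Fintype.ofFinite _
      rw [Nat.card_units] at h1
      have : s ∣ 2 ^ 3 := h1.trans (by rcases hsmall with e | e | e <;> rw [e] <;> norm_num)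
      exact (Nat.prime_dvd_prime_iff_eq hs Nat.prime_two).mp (hs.dvd_of_dvd_pow this)
    have hN12 : N ∣ 2 := by
      rw [← Nat.prod_primeFactors_of_squarefree hNsq]
      have hsub : N.primeFactors ⊆ {2} := fun s hs => Finset.mem_singleton.mpr
        (hN2 s (Nat.prime_of_mem_primeFactors hs) (Nat.dvd_of_mem_primeFactors hs))
      have := Finset.prod_dvd_prod_of_subset N.primeFactors {2} id hsub
      simpa using this
    obtain ⟨c, hc⟩ := hN12
    intro y hy
    rw [hc, pow_mul]
    exact pow_mem (hN y hy) c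
  obtain ⟨j, hj⟩ : ∃ j, Z.relIndex L = 2 ^ j := by
    have hp : IsPGroup 2 (F ⧸ Z.subgroupOf F) := fun q => ⟨1, QuotientGroup.induction_on q fun y => by
      rw [pow_one, ← QuotientGroup.mk_pow, QuotientGroup.eq_one_iff]
      exact hsq2 y y.2⟩
    haveI : Fact (Nat.Prime 2) := ⟨Nat.prime_two⟩
    obtain ⟨n, hn⟩ := IsPGroup.iff_card.mp hp
    have hdvd : Z.relIndex L ∣ 2 ^ n := ⟨Z.relIndex L, hn.symm.trans hf.sq_index⟩
    obtain ⟨j, -, hj⟩ := (Nat.dvd_prime_pow Nat.prime_two).mp hdvd
    exact ⟨j, hj⟩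
  have hw' : Z.relIndex F = 4 ^ j := by
    rw [hf.sq_index, hj, ← Nat.mul_pow]
  have hj2 : 2 ≤ j := by
    by_contra hlt
    have h1 := Nat.pow_le_pow_right (show 0 < 4 by norm_num) (show j ≤ 1 by omega)
    have h4 : 4 ≤ Nat.card (Cos hf u) := by
      have := hfour.1
      omega
    have := Nat.mul_le_mul h4 h4
    omega
  have hj5 : j ≤ 5 := by
    by_contra hlt
    have h1 := Nat.pow_le_pow_right (show 0 < 4 by norm_num) (show 6 ≤ j by omega)
    omega
  have hidx : Z.relIndex F = 4 ^ (j - 1 + 1) := by rw [hw', Nat.sub_add_cancel (by omega)]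
  rcases hsmall with e | e | e
  · refine pair_three_field hf hsq2 (k := j - 1) (by omega) (by omega) hidx e (fun h3 => ?_) hv
    have h3V : 3 ∣ Nat.card V := by
      haveI : Fact (Nat.Prime 3) := ⟨Nat.prime_three⟩
      rw [← addOrderOf_eq_prime (char_three (h := h) e v) hv]
      exact addOrderOf_dvd_natCard v
    exact Nat.not_coprime_of_dvd_of_dvd (by norm_num) h3 h3V hcop
  · exact pair_five_field hf hsq2 (k := j - 1) (by omega) (by omega) hidx e hv
  · rcases Nat.lt_or_eq_of_le hj5 with hj4 | hj5'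
    · exact pair_nine_field hf hsq2 (k := j - 1) (by omega) (by omega) hidx e hv
    · refine count_pair_of_key hsol hf ?_ hQ ?_
      · rw [hj, hj5']; norm_num
      · rw [show Nat.card (genRing (V := V) Z) = 9 from e, hj, hj5']
        norm_num

end CfsgLib.BaseTwo
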