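import Cfsg.Agent.Lib.BaseTwo.Values

/-!
The two certificate models of an element fixing the chosen vectors: plain and with a change of sign.
-/

set_option autoImplicit false

namespace CfsgLib.BaseTwo

open Subgroup CfsgLib.OddBase CfsgLib.BaseThree

universe u

theorem min_code_conj {q : ℕ} {cj : ℕ → ℕ} (S : Spec) (hq : S.q = q) (hcj : S.cj = cj) {a b c d : ℕ}
    (ha : cj (cj a) = a) (hb : cj (cj b) = b) (hc : cj (cj c) = c) (hd : cj (cj d) = d) :
    S.code' (cj a) (cj b) (cj c) (cj d) = S.code' a b c d := by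
  subst hq hcj
  simp only [Spec.code', ha, hb, hc, hd]
  exact min_comm _ _

theorem decT_eq_zero {K : Type u} [Field K] {ν : Num K} : ∀ k (v : List ℕ), v.length = 2 ^ (k + 1) →
    decT ν k v = 0 → ∀ z ∈ v, ν.dec z = 0
  | 0, v, hl, h => by
    rcases v with _ | ⟨a, _ | ⟨b, _ | ⟨c, v⟩⟩⟩ <;> simp at hl
    intro z hz
    simp only [List.mem_cons, List.not_mem_nil, or_false] at hz
    have h1 := congrArg Prod.fst h
    have h2 := congrArg Prod.snd h
    rcases hz with rfl | rfl
    · exact h1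
    · exact h2
  | k + 1, v, hl, h => by
    have h1 : decT ν k (v.take (2 ^ (k + 1))) = 0 := congrArg Prod.fst h
    have h2 : decT ν k (v.drop (2 ^ (k + 1))) = 0 := congrArg Prod.snd h
    have e : 2 ^ (k + 1 + 1) = 2 ^ (k + 1) + 2 ^ (k + 1) := by rw [pow_succ]; omega
    intro z hz
    rw [← List.take_append_drop (2 ^ (k + 1)) v, List.mem_append] at hz
    rcases hz with hz | hz
    · exact decT_eq_zero k _ (by rw [List.length_take]; omega) h1 z hz
    · exact decT_eq_zero k _ (by rw [List.length_drop]; omega) h2 z hz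

theorem decT_inj {K : Type u} [Field K] {ν : Num K} (hν : NumOk ν) : ∀ k (v w : List ℕ), v.length = 2 ^ (k + 1) →
    w.length = 2 ^ (k + 1) → (∀ z ∈ v, z < ν.q) → (∀ z ∈ w, z < ν.q) → decT ν k v = decT ν k w → v = w
  | 0, v, w, hv, hw, lv, lw, h => by
    rcases v with _ | ⟨a, _ | ⟨b, _ | ⟨c, v⟩⟩⟩ <;> simp at hv
    rcases w with _ | ⟨a', _ | ⟨b', _ | ⟨c', w⟩⟩⟩ <;> simp at hw
    have h1 := congrArg Prod.fst h
    have h2 := congrArg Prod.snd h
    rw [hν.inj a a' (lv _ (by simp)) (lw _ (by simp)) h1, hν.inj b b' (lv _ (by simp)) (lw _ (by simp)) h2]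
  | k + 1, v, w, hv, hw, lv, lw, h => by
    have e : 2 ^ (k + 1 + 1) = 2 ^ (k + 1) + 2 ^ (k + 1) := by rw [pow_succ]; omega
    rw [← List.take_append_drop (2 ^ (k + 1)) v, ← List.take_append_drop (2 ^ (k + 1)) w,
      decT_inj hν k (v.take _) (w.take _) (by rw [List.length_take]; omega) (by rw [List.length_take]; omega)
        (fun z hz => lv z (List.mem_of_mem_take hz)) (fun z hz => lw z (List.mem_of_mem_take hz)) (congrArg Prod.fst h),
      decT_inj hν k (v.drop _) (w.drop _) (by rw [List.length_drop]; omega) (by rw [List.length_drop]; omega)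
        (fun z hz => lv z (List.mem_of_mem_drop hz)) (fun z hz => lw z (List.mem_of_mem_drop hz)) (congrArg Prod.snd h)]

variable {A V : Type u} [Group A] [Finite A] [AddCommGroup V] [Finite V] [DistribMulAction A V]
  {Z F L₀ : Subgroup A} {hf : Frame A V Z F L₀} {S : Spec} {ν : @Num (Sc V Z) hf.base.field.toField}
  {ce : Fin 4 → A} {X W zs : ℕ → A} {b₀ b₁ : V}

namespace Fits

variable (H : Fits hf S ν ce X W zs b₀ b₁)

include H

theorem dot_num (r v : List ℕ) : S.o.dot r v < S.q := by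
  letI := hf.base.field.toField
  rw [H.ops, H.size]
  exact dot_lt H.ok r v

theorem num_eq {z z' : ℕ} (hz : z < S.q) (hz' : z' < S.q)
    (e : letI := hf.base.field.toField; ν.dec z = ν.dec z') : z = z' := by
  letI := hf.base.field.toField
  exact H.ok.inj z z' (H.size ▸ hz) (H.size ▸ hz') e

/-- Values moved by an automorphism of the scalars keep the colour. -/
theorem colour_eq {f g : ℕ} (σ : Sc V Z ≃+* Sc V Z)
    (h : letI := hf.base.field.toField; ∀ r ∈ [S.rx, S.ry], ∀ v ∈ [S.x, S.y],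
      ν.dec (S.o.dot r (S.op g v)) = σ (ν.dec (S.o.dot r (S.op f v)))) : S.colour g = S.colour f := by
  letI := hf.base.field.toField
  rcases H.auto σ with hσ | hσ
  · have e : ∀ r ∈ [S.rx, S.ry], ∀ v ∈ [S.x, S.y], S.o.dot r (S.op g v) = S.o.dot r (S.op f v) := fun r hr v hv =>
      H.num_eq (H.dot_num _ _) (H.dot_num _ _) (by rw [h r hr v hv, hσ _ (H.dot_num _ _)])
    simp only [Spec.colour]
    rw [e S.rx (by simp) S.x (by simp), e S.rx (by simp) S.y (by simp), e S.ry (by simp) S.x (by simp),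
      e S.ry (by simp) S.y (by simp)]
  · have e : ∀ r ∈ [S.rx, S.ry], ∀ v ∈ [S.x, S.y], S.o.dot r (S.op g v) = S.cj (S.o.dot r (S.op f v)) :=
      fun r hr v hv => H.num_eq (H.dot_num _ _) (H.conj_ok _ (H.dot_num _ _)).1
        (by rw [h r hr v hv, hσ _ (H.dot_num _ _)])
    simp only [Spec.colour]
    rw [e S.rx (by simp) S.x (by simp), e S.rx (by simp) S.y (by simp), e S.ry (by simp) S.x (by simp),
      e S.ry (by simp) S.y (by simp)]
    exact min_code_conj S rfl rfl (H.conj_ok _ (H.dot_num _ _)).2 (H.conj_ok _ (H.dot_num _ _)).2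
      (H.conj_ok _ (H.dot_num _ _)).2 (H.conj_ok _ (H.dot_num _ _)).2

/-- The plain model. -/
noncomputable def plainModel (a : A) (π : Equiv.Perm (Fin S.n))
    (hπ : ∀ f : Fin S.n, els S ce X W zs (π f) = a * els S ce X W zs f * a⁻¹) : CertModel S.cert V where
  J := vecJ hf S ν X b₀ b₁
  a := DistribMulAction.toAddMonoidHom V a
  π := π
  φ f := DistribMulAction.toAddMonoidHom V (els S ce X W zs f.1)
  map_zero := H.vec_zero _
  map_add v w := H.vec_add v w
  map_op f v := (H.smul_els f.2 v).symm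
  equivariant f v := by
    show a • els S ce X W zs f.1 • vecJ hf S ν X b₀ b₁ v = els S ce X W zs (π f).1 • a • vecJ hf S ν X b₀ b₁ v
    erw [hπ f]
    rw [← mul_smul, ← mul_smul]
    congr 1
    group

/-- A plain chain fixes all coordinate vectors, so the element is trivial. -/
theorem fix_of_plain {a : A} {π : Equiv.Perm (Fin S.n)}
    (hπ : ∀ f : Fin S.n, els S ce X W zs (π f) = a * els S ce X W zs f * a⁻¹)
    (hx : a • vecJ hf S ν X b₀ b₁ S.x = vecJ hf S ν X b₀ b₁ S.x)
    (hy : a • vecJ hf S ν X b₀ b₁ S.y = vecJ hf S ν X b₀ b₁ S.y) {colour : ℕ → ℕ} {cols : List ℕ}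
    (htab : (List.range S.cert.n).map colour = cols) (hinv : ∀ f : Fin S.n, colour (π f) = colour f)
    (hp : S.Plain cols) : a = 1 := by
  letI := hf.base.field.toField
  obtain ⟨ss, cs, hb⟩ := hp
  let M := H.plainModel a π hπ
  have h0 : M.Fixed [S.x, S.y] := by
    intro w hw
    simp only [List.mem_cons, List.not_mem_nil, or_false] at hw
    rcases hw with rfl | rfl
    · exact hx
    · exact hy
  have hT := M.reaches_fixed (M.grow_fixed ⟨htab, hinv⟩ h0 ss) hb
  refine H.eq_one fun v => ?_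
  have hle : AddSubgroup.closure (vecJ hf S ν X b₀ b₁ '' {t | t ∈ Spec.targets S.tsc S.k}) ≤
      (AddMonoidHom.id V).eqLocus (DistribMulAction.toAddMonoidHom V a) :=
    (AddSubgroup.closure_le _).mpr (by rintro _ ⟨t, ht, rfl⟩; exact (hT t ht).symm)
  exact (hle (H.targets_span v)).symm

theorem zneg_smul {s : ℕ} (hs : s < S.sc.length)
    (hneg : letI := hf.base.field.toField; ν.dec (S.sc.getD s 0) = -1) (x : V) : zs s • x = -x := by
  letI := hf.base.field.toField
  rw [H.scalar_smul hs, hneg]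
  rfl

/-- Conjugation followed by negation. -/
theorem exists_perm_neg {a : A} (haC : a ∈ centralizer (Z : Set A)) {s : ℕ} (hs : s < S.sc.length)
    (hneg : letI := hf.base.field.toField; ν.dec (S.sc.getD s 0) = -1) :
    ∃ π : Equiv.Perm (Fin S.n), ∀ f : Fin S.n, els S ce X W zs (π f) = zs s * (a * els S ce X W zs f * a⁻¹) := by
  classical
  have hz := H.zs_mem s hs
  have h : ∀ f : Fin S.n, ∃ g : Fin S.n, els S ce X W zs g = zs s * (a * els S ce X W zs f * a⁻¹) := fun f => by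
    have hy := hf.normal.conj_mem _ (H.els_mem f.2) a
    obtain ⟨g, hg, e⟩ := H.els_surj (F.mul_mem (hf.le hz) hy) (pow_four hf (hf.le hz) hy (Z.pow_mem hz 2)
      (H.squares _ hy) (H.zs_fourth s hs) (by rw [conj_pow, H.els_fourth f.2]; group))
    exact ⟨⟨g, hg⟩, e⟩
  choose π hπ using h
  have hinj : Function.Injective π := fun f g e => by
    have := congrArg (fun x : Fin S.n => els S ce X W zs x) e
    simp only [hπ, mul_left_inj, mul_right_inj] at this
    exact Fin.ext (H.els_injective f.2 g.2 this)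
  exact ⟨Equiv.ofBijective π (Finite.injective_iff_bijective.mp hinj), hπ⟩

theorem neg_colour {a : A} {T : Tree (Sc V Z) S.k → Tree (Sc V Z) S.k} (hT : Move hf S X b₀ b₁ a T)
    (hfirst : S.firstRowB = true)
    (hx : a • vecJ hf S ν X b₀ b₁ S.x = vecJ hf S ν X b₀ b₁ S.x)
    (hy : a • vecJ hf S ν X b₀ b₁ S.y = vecJ hf S ν X b₀ b₁ S.y) {r : Sc V Z} {π : Equiv.Perm (Fin S.n)} {ζ : A}
    (hζ : ∀ x : V, ζ • x = r.1 x) (hr : r * r = 1)
    (hB : letI := hf.base.field.toField; ∀ u w, formW S.k 0 0 (decMs ν S.forms 0) (T u) (T w) =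
      r * formW S.k 0 0 (decMs ν S.forms 0) u w)
    (hπ : ∀ f : Fin S.n, els S ce X W zs (π f) = ζ * (a * els S ce X W zs f * a⁻¹)) (f : Fin S.n) :
    S.colour (π f) = S.colour f := by
  letI := hf.base.field.toField
  refine H.colour_eq (RingEquiv.refl _) fun row hrow v hv => ?_
  simp only [Spec.firstRowB, Bool.and_eq_true, beq_iff_eq] at hfirst
  obtain ⟨L, hL, rfl⟩ : ∃ L, T (decT ν S.k L) = decT ν S.k L ∧ row = S.o.rowR S.k 0 0 (S.forms.getD 0 []) L := by
    simp only [List.mem_cons, List.not_mem_nil, or_false] at hrow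
    rcases hrow with rfl | rfl
    · exact ⟨S.x, H.move_fixed hT hx, hfirst.1.1.symm⟩
    · exact ⟨S.y, H.move_fixed hT hy, hfirst.1.2.symm⟩
  have hv' : a • vecJ hf S ν X b₀ b₁ v = vecJ hf S ν X b₀ b₁ v := by
    simp only [List.mem_cons, List.not_mem_nil, or_false] at hv
    rcases hv with rfl | rfl <;> assumption
  have hpi : decT ν S.k (S.op (π f) v) = smulT r S.k (T (decT ν S.k (S.op f v))) := by
    refine coordJ_injective H.gens H.two _ le_rfl ?_
    rw [coordJ_smul H.gens _ le_rfl, ← hT]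
    show vecJ hf S ν X b₀ b₁ (S.op (π f) v) = r.1 (a • vecJ hf S ν X b₀ b₁ (S.op f v))
    rw [← H.smul_els (π f).2, ← H.smul_els f.2, hπ, mul_smul, hζ, mul_smul, mul_smul,
      show a⁻¹ • vecJ hf S ν X b₀ b₁ v = vecJ hf S ν X b₀ b₁ v by rw [inv_smul_eq_iff, hv']]
  have h1 : smulT (1 : Sc V Z) S.k (decT ν S.k L) = decT ν S.k L := by
    refine coordJ_injective H.gens H.two _ le_rfl ?_
    rw [coordJ_smul H.gens _ le_rfl]; rfl
  have key : formW S.k 0 0 (decMs ν S.forms 0) (decT ν S.k L) (decT ν S.k (S.op (π f) v)) =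
      formW S.k 0 0 (decMs ν S.forms 0) (decT ν S.k L) (decT ν S.k (S.op f v)) := by
    rw [hpi]
    conv_lhs => rw [← h1]
    rw [formW_smul, one_mul]
    conv_lhs => rw [← hL, hB]
    rw [← mul_assoc, hr, one_mul]
  rw [RingEquiv.refl_apply, H.ops, dot_rowR, dot_rowR]
  exact key

/-- The model on pairs of vectors. -/
noncomputable def signedModel (a ζ : A) (hζ : ∀ x : V, ζ • x = -x) (π : Equiv.Perm (Fin S.n))
    (hπ : ∀ f : Fin S.n, els S ce X W zs (π f) = ζ * (a * els S ce X W zs f * a⁻¹)) : CertModel S.cert2 (V × V) where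
  J v := (vecJ hf S ν X b₀ b₁ (v.take S.dim), vecJ hf S ν X b₀ b₁ (v.drop S.dim))
  a := AddMonoidHom.mk' (fun p => (a • p.1, -(a • p.2))) fun p q => by
    simp [smul_add, neg_add, add_comm]
  π := π
  φ f := AddMonoidHom.mk' (fun p => (els S ce X W zs f.1 • p.2, els S ce X W zs f.1 • p.1)) fun p q => by
    simp [smul_add]
  map_zero := by
    show (vecJ hf S ν X b₀ b₁ ((List.replicate _ 0).take _), vecJ hf S ν X b₀ b₁ ((List.replicate _ 0).drop _)) = 0
    rw [List.take_replicate, List.drop_replicate, H.vec_zero, H.vec_zero]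
    rfl
  map_add v w := by
    show (vecJ hf S ν X b₀ b₁ ((S.o.vadd (S.dim + S.dim) v w).take S.dim),
      vecJ hf S ν X b₀ b₁ ((S.o.vadd (S.dim + S.dim) v w).drop S.dim)) = _
    rw [(Ops.vadd_take S.o _ _ v w).1, (Ops.vadd_take S.o _ _ v w).2, H.vec_add, H.vec_add]
    rfl
  map_op f v := by
    show (vecJ hf S ν X b₀ b₁ ((S.op f.1 (v.drop S.dim) ++ S.op f.1 (v.take S.dim)).take S.dim),
      vecJ hf S ν X b₀ b₁ ((S.op f.1 (v.drop S.dim) ++ S.op f.1 (v.take S.dim)).drop S.dim)) = _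
    rw [List.take_left' (S.op_length _ _), List.drop_left' (S.op_length _ _), ← H.smul_els f.2, ← H.smul_els f.2]
    rfl
  equivariant f v := by
    set p := vecJ hf S ν X b₀ b₁ (v.take S.dim)
    set q := vecJ hf S ν X b₀ b₁ (v.drop S.dim)
    show (a • els S ce X W zs f.1 • q, -(a • els S ce X W zs f.1 • p)) =
      (els S ce X W zs (π f).1 • -(a • q), els S ce X W zs (π f).1 • a • p)
    have e : ∀ x : V, els S ce X W zs (π f).1 • a • x = -(a • els S ce X W zs f.1 • x) := fun x => by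
      erw [hπ f]
      rw [mul_smul, hζ, mul_smul, mul_smul, inv_smul_smul]
    rw [smul_neg, e, e, neg_neg]

/-- The pairs reached are fixed. -/
theorem reach2_fixed {a ζ : A} (hζ : ∀ x : V, ζ • x = -x) {π : Equiv.Perm (Fin S.n)}
    (hπ : ∀ f : Fin S.n, els S ce X W zs (π f) = ζ * (a * els S ce X W zs f * a⁻¹))
    (hx : a • vecJ hf S ν X b₀ b₁ S.x = vecJ hf S ν X b₀ b₁ S.x)
    (hy : a • vecJ hf S ν X b₀ b₁ S.y = vecJ hf S ν X b₀ b₁ S.y)
    {colour : ℕ → ℕ} {cols : List ℕ}
    (htab : (List.range S.cert.n).map colour = cols) (hinv : ∀ f : Fin S.n, colour (π f) = colour f)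
    (ss : List (ℕ × ℕ)) (c : List ℕ) :
    a • vecJ hf S ν X b₀ b₁ ((S.cert2.comb c (S.reach2 cols ss)).take S.dim) =
        vecJ hf S ν X b₀ b₁ ((S.cert2.comb c (S.reach2 cols ss)).take S.dim) ∧
      a • vecJ hf S ν X b₀ b₁ ((S.cert2.comb c (S.reach2 cols ss)).drop S.dim) =
        -vecJ hf S ν X b₀ b₁ ((S.cert2.comb c (S.reach2 cols ss)).drop S.dim) := by
  let M := H.signedModel a ζ hζ π hπ
  have hnil : vecJ hf S ν X b₀ b₁ [] = 0 := H.vec_zero 0
  have h0 : M.Fixed [S.o.vadd S.dim S.x [] ++ List.replicate S.dim 0, S.o.vadd S.dim S.y [] ++ List.replicate S.dim 0] := by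
    intro w hw
    simp only [List.mem_cons, List.not_mem_nil, or_false] at hw
    rcases hw with rfl | rfl
    · show (a • vecJ hf S ν X b₀ b₁ _, -(a • vecJ hf S ν X b₀ b₁ _)) = (vecJ hf S ν X b₀ b₁ _, vecJ hf S ν X b₀ b₁ _)
      rw [List.take_left' (vadd_length _ _ _ _), List.drop_left' (vadd_length _ _ _ _), H.vec_add, hnil, add_zero, hx,
        H.vec_zero, smul_zero, neg_zero]
    · show (a • vecJ hf S ν X b₀ b₁ _, -(a • vecJ hf S ν X b₀ b₁ _)) = (vecJ hf S ν X b₀ b₁ _, vecJ hf S ν X b₀ b₁ _)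
      rw [List.take_left' (vadd_length _ _ _ _), List.drop_left' (vadd_length _ _ _ _), H.vec_add, hnil, add_zero, hy,
        H.vec_zero, smul_zero, neg_zero]
  have h := M.comb_fixed c (M.grow_fixed ⟨htab, hinv⟩ h0 ss)
  exact ⟨congrArg Prod.fst h, neg_eq_iff_eq_neg.mp (congrArg Prod.snd h)⟩

end Fits

end CfsgLib.BaseTwo
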