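import Cfsg.Agent.Lib.BaseThree.Prim

/-!
The centralizer of a maximal line stabilizer is the stabilizer itself or a four-group over it.
-/

set_option autoImplicit false

namespace CfsgLib.BaseTwo

open Subgroup CfsgLib.OddBase CfsgLib.BaseThree
open scoped commutatorElement

universe u

variable {A V : Type u} [Group A] [Finite A] [AddCommGroup V] [Finite V] [DistribMulAction A V]
  {Z F L₀ : Subgroup A} {hf : Frame A V Z F L₀} {u : V}

/-- The centre of the centralizer of a line stabilizer is the stabilizer. -/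
theorem perp (hu : MaxLine hf u) {x : A} (hx : x ∈ F₀ hf u) (hc : ∀ y ∈ F₀ hf u, ⁅x, y⁆ = 1) : x ∈ LS hf u := by
  haveI := hf.base.normal
  set L' := F₀ hf u ⊓ centralizer (F₀ hf u : Set A)
  have hLF : ∀ l ∈ LS hf u, l ∈ F := fun l hl => hl.1
  have hle : LS hf u ≤ L' := fun l hl => ⟨le_F₀ hu.1 hl, Subgroup.mem_centralizer_iff.mpr fun y hy =>
    (Subgroup.mem_centralizer_iff.mp hy.2 l hl).symm⟩
  have h1 : (F₀ hf u).relIndex F ≤ Z.relIndex (LS hf u) := pair_bound hf.base hf.cent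
    (fun l hl => hf.cent (hLF l hl)) (fun a ha b hb => hf.comm a ha b (hLF b hb)) inferInstance
    (fun a ha z hz => hf.central_left (hf.cent ha) hz)
    (fun a ha hca => ⟨ha, Subgroup.mem_centralizer_iff.mpr fun l hl => ((comm_eq_one_iff a l).mp (hca l hl)).symm⟩)
  have h2 : Z.relIndex L' ≤ (F₀ hf u).relIndex F := pair_bound hf.base (fun a ha => hf.cent ha.1.1) hf.cent
    (fun a ha b hb => hf.comm a ha.1.1 b hb) F₀_normal
    (fun a ha b hb => (comm_eq_one_iff a b).mpr (Subgroup.mem_centralizer_iff.mp ha.2 b hb).symm)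
    (fun a ha hca => hf.centre_F ha.1.1 hca)
  have h3 := Subgroup.relIndex_mul_relIndex Z (LS hf u) L' le_LS hle
  have h4 : (LS hf u).relIndex L' = 1 := by
    have hpos : 0 < Z.relIndex (LS hf u) := Nat.pos_of_ne_zero Subgroup.FiniteIndex.index_ne_zero
    have hpos' : 0 < (LS hf u).relIndex L' := Nat.pos_of_ne_zero Subgroup.FiniteIndex.index_ne_zero
    have := h2.trans h1
    rw [← h3] at this
    nlinarith
  exact Subgroup.relIndex_eq_one.mp h4 ⟨hx, Subgroup.mem_centralizer_iff.mpr fun y hy =>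
    ((comm_eq_one_iff x y).mp (hc y hy)).symm⟩

/-- A four-group over the line stabilizer. -/
structure FourGroup (hf : Frame A V Z F L₀) (u : V) (a b : A) : Prop where
  left : a ∈ F₀ hf u
  right : b ∈ F₀ hf u
  sq_left : a ^ 2 ∈ LS hf u
  sq_right : b ^ 2 ∈ LS hf u
  ne : ⁅a, b⁆ ≠ 1
  sq_one : ⁅a, b⁆ ^ 2 = 1
  span : ∀ x ∈ F₀ hf u, ∃ l ∈ LS hf u, x = l ∨ x = l * a ∨ x = l * b ∨ x = l * (a * b)

theorem four_or_eq (hu : MaxLine hf u) : F₀ hf u = LS hf u ∨ ∃ a b, FourGroup hf u a b := by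
  classical
  by_cases heq : F₀ hf u ≤ LS hf u
  · exact Or.inl (le_antisymm heq (le_F₀ hu.1))
  refine Or.inr ?_
  obtain ⟨N, hsq, hN, hprimes⟩ := root_exponent hf
  have hodd : ∀ s, s.Prime → s ∣ N → s ≠ 2 → ∀ x ∈ F₀ hf u, x ^ s ∈ LS hf u → x ∈ LS hf u := by
    intro s hs hd hs2 a ha has
    by_contra haL
    obtain ⟨-, z, hz, hzo⟩ := hprimes s hs hd
    obtain ⟨y, hy, hay⟩ : ∃ y ∈ F₀ hf u, ⁅y, a⁆ ≠ 1 := by
      by_contra hcon
      push Not at hcon
      exact haL (perp hu ha fun y hy => by rw [← commutatorElement_inv, hcon y hy, inv_one])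
    obtain ⟨m, hm⟩ := hd
    have hys : ⁅y, a⁆ ^ s = 1 := by
      rw [← comm_pow_right hf hy.1 ha.1, comm_eq_one_iff]
      exact (Subgroup.mem_centralizer_iff.mp hy.2 _ has).symm
    have hym : ⁅y ^ m, a⁆ ≠ 1 := fun h => by
      rw [comm_pow hf hy.1 ha.1] at h
      have hcop : Nat.Coprime s m := Nat.coprime_of_squarefree_mul (hm ▸ hsq)
      have h' := (pow_gcd_eq_one (m := s) (n := m)).mpr ⟨hys, h⟩
      rw [hcop.gcd_eq_one, pow_one] at h'
      exact hay h'
    obtain ⟨i, hi⟩ := mem_of_commute hf hu hs hz hzo ha has haL (pow_mem hy m)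
      (le_LS (by rw [← pow_mul, mul_comm, ← hm]; exact hN y hy.1)) (by
        obtain ⟨c, hc⟩ : s ∣ s.choose 2 := hs.dvd_choose_self (by norm_num) (lt_of_le_of_ne hs.two_le (Ne.symm hs2))
        rw [hc, comm_pow hf hy.1 ha.1, ← pow_mul, show m * (s * c) = s * (m * c) by ring, pow_mul, hys, one_pow])
    refine hym ?_
    rw [← inv_mul_cancel_right (y ^ m) (a ^ i), comm_mul_left,
      show ⁅a ^ i, a⁆ = 1 by rw [comm_pow hf ha.1 ha.1, commutatorElement_self, one_pow], mul_one, mul_inv_cancel, one_mul,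
      commutatorElement_eq_one_iff_mul_comm]
    exact Subgroup.mem_centralizer_iff.mp ha.2 _ hi
  -- squares fall into the stabilizer
  have hdown : ∀ n, n ∣ N → ∀ x ∈ F₀ hf u, x ^ n ∈ LS hf u → x ^ 2 ∈ LS hf u := by
    intro n
    induction n using Nat.strong_induction_on with
    | _ n ih =>
    intro hn x hx hxn
    by_cases h1 : n = 1
    · subst h1; rw [pow_one] at hxn; exact pow_mem hxn 2
    obtain ⟨s, hs, m, rfl⟩ := Nat.exists_prime_and_dvd h1
    have hm0 : 0 < m := Nat.pos_of_ne_zero fun h0 => by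
      rw [h0, mul_zero] at hn; exact not_squarefree_zero (zero_dvd_iff.mp hn ▸ hsq)
    have hmlt : m < s * m := lt_mul_of_one_lt_left hm0 hs.one_lt
    have hmN : m ∣ N := dvd_trans (dvd_mul_left m s) hn
    by_cases hs2 : s = 2
    · subst hs2
      by_cases hm1 : m = 1
      · rwa [hm1, mul_one] at hxn
      obtain ⟨r, hr, c, rfl⟩ := Nat.exists_prime_and_dvd hm1
      have hr2 : r ≠ 2 := fun h => by
        subst h
        exact (Nat.squarefree_iff_prime_squarefree.mp (hsq.squarefree_of_dvd hn)) 2 Nat.prime_two ⟨c, by ring⟩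
      have hc0 : 0 < c := Nat.pos_of_ne_zero fun h0 => by simp [h0] at hm0
      refine ih (2 * c) ?_ (dvd_trans ⟨r, by ring⟩ hn) x hx ?_
      · have := hr.one_lt; nlinarith
      · refine hodd r hr (dvd_trans ⟨2 * c, by ring⟩ hn) hr2 _ (pow_mem hx (2 * c)) ?_
        rw [← pow_mul, show 2 * c * r = 2 * (r * c) by ring]
        exact hxn
    · refine ih m hmlt hmN x hx (hodd s hs (dvd_trans (dvd_mul_right s m) hn) hs2 _ (pow_mem hx m) ?_)
      rw [← pow_mul, mul_comm]
      exact hxn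
  have hsq2 : ∀ x ∈ F₀ hf u, x ^ 2 ∈ LS hf u := fun x hx => hdown N dvd_rfl x hx (le_LS (hN x hx.1))
  have h2N : 2 ∣ N := by
    by_contra h2
    refine heq fun x hx => mem_of_coprime_pow (s := 2) (m := N) ?_ (hsq2 x hx) (le_LS (hN x hx.1))
    exact (Nat.prime_two.coprime_iff_not_dvd).mpr h2
  obtain ⟨-, z, hz, hzo⟩ := hprimes 2 Nat.prime_two h2N
  obtain ⟨a, b, ha, hb, ha2, hb2, hgen⟩ := prime_pair hf hu Nat.prime_two hz hzo
  have hcomm : ∀ l ∈ LS hf u, ∀ y ∈ F₀ hf u, l * y = y * l := fun l hl y hy =>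
    Subgroup.mem_centralizer_iff.mp hy.2 l hl
  have hsp : ∀ x ∈ Sp hf u a b, ∃ l ∈ LS hf u, ∃ i j : ℕ, x = l * (a ^ i * b ^ j) := by
    let M : Submonoid A :=
      { carrier := {x | ∃ l ∈ LS hf u, ∃ i j : ℕ, x = l * (a ^ i * b ^ j)}
        one_mem' := ⟨1, one_mem _, 0, 0, by simp⟩
        mul_mem' := by
          rintro x y ⟨l, hl, i, j, rfl⟩ ⟨l', hl', k, m, rfl⟩
          refine ⟨l * l' * ⁅b ^ j, a ^ k⁆, mul_mem (mul_mem hl hl') (le_LS (hf.comm _ (pow_mem hb.1 j) _ (pow_mem ha.1 k))),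
            i + k, j + m, ?_⟩
          have hcz : ∀ y ∈ F, ⁅b ^ j, a ^ k⁆ * y = y * ⁅b ^ j, a ^ k⁆ := fun y hy =>
            Subgroup.mem_centralizer_iff.mp (hf.cent hy) _ (hf.comm _ (pow_mem hb.1 j) _ (pow_mem ha.1 k))
          have e : b ^ j * a ^ k = ⁅b ^ j, a ^ k⁆ * (a ^ k * b ^ j) := by rw [commutatorElement_def]; group
          have hab : a ^ i * b ^ j ∈ F₀ hf u := mul_mem (pow_mem ha i) (pow_mem hb j)
          calc l * (a ^ i * b ^ j) * (l' * (a ^ k * b ^ m))
              = l * ((a ^ i * b ^ j) * l') * (a ^ k * b ^ m) := by simp only [mul_assoc]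
            _ = l * l' * (a ^ i * (b ^ j * a ^ k) * b ^ m) := by rw [← hcomm l' hl' _ hab]; simp only [mul_assoc]
            _ = l * l' * ((a ^ i * ⁅b ^ j, a ^ k⁆) * (a ^ k * b ^ j) * b ^ m) := by rw [e]; simp only [mul_assoc]
            _ = _ := by rw [← hcz _ (pow_mem ha.1 i), pow_add, pow_add]; simp only [mul_assoc] }
    intro x hx
    have hx' : x ∈ Submonoid.closure ((LS hf u : Set A) ∪ {a, b}) := by
      rwa [Sp, ← Subgroup.mem_toSubmonoid, Subgroup.closure_toSubmonoid_of_finite] at hx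
    refine (Submonoid.closure_le.mpr ?_ : _ ≤ M) hx'
    rintro y (hy | hy | hy)
    · exact ⟨y, hy, 0, 0, by simp⟩
    · rw [hy]; exact ⟨1, one_mem _, 1, 0, by simp⟩
    · rw [Set.mem_singleton_iff.mp hy]; exact ⟨1, one_mem _, 0, 1, by simp⟩
  have hspan : ∀ x ∈ F₀ hf u, ∃ l ∈ LS hf u, x = l ∨ x = l * a ∨ x = l * b ∨ x = l * (a * b) := fun x hx => by
    obtain ⟨l, hl, i, j, rfl⟩ := hsp x (hgen x hx (hsq2 x hx))
    have hred : a ^ i * b ^ j = ((a ^ 2) ^ (i / 2) * (b ^ 2) ^ (j / 2)) * (a ^ (i % 2) * b ^ (j % 2)) := by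
      conv_lhs => rw [← Nat.div_add_mod i 2, ← Nat.div_add_mod j 2, pow_add, pow_add, pow_mul, pow_mul]
      have hc := hcomm _ (pow_mem hb2 (j / 2)) _ (pow_mem ha (i % 2))
      simp only [mul_assoc]
      rw [← mul_assoc (a ^ (i % 2)), ← hc, mul_assoc]
    refine ⟨l * ((a ^ 2) ^ (i / 2) * (b ^ 2) ^ (j / 2)), mul_mem hl (mul_mem (pow_mem ha2 _) (pow_mem hb2 _)), ?_⟩
    rw [hred]
    rcases Nat.mod_two_eq_zero_or_one i with h | h <;> rcases Nat.mod_two_eq_zero_or_one j with h' | h' <;>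
      simp [h, h', mul_assoc]
  have hne : ⁅a, b⁆ ≠ 1 := fun h => by
    refine heq fun x hx => perp hu hx fun y hy => ?_
    have hc : a * b = b * a := (comm_eq_one_iff a b).mp h
    obtain ⟨l, hl, hx'⟩ := hspan x hx
    obtain ⟨l', hl', hy'⟩ := hspan y hy
    rw [comm_eq_one_iff]
    have hLa : Commute l' a := hcomm l' hl' a ha
    have hLb : Commute l' b := hcomm l' hl' b hb
    have hla : Commute l a := hcomm l hl a ha
    have hlb : Commute l b := hcomm l hl b hb
    have hll : Commute l l' := (comm_eq_one_iff l l').mp (LS_comm hu.1 hl hl')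
    have hab : Commute a b := hc
    rcases hx' with rfl | rfl | rfl | rfl <;> rcases hy' with rfl | rfl | rfl | rfl
    all_goals
      first
        | exact (Commute.mul_left (hll.mul_right (by first | exact hla | exact hlb | exact hla.mul_right hlb))
            (by first | exact (hLa.symm.mul_right (by first | exact Commute.refl a | exact hab | exact (Commute.refl a).mul_right hab))
                      | exact (hLb.symm.mul_right (by first | exact Commute.refl b | exact hab.symm | exact hab.symm.mul_right (Commute.refl b)))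
                      | exact Commute.mul_left (hLa.symm.mul_right (by first | exact Commute.refl a | exact hab | exact (Commute.refl a).mul_right hab)) (hLb.symm.mul_right (by first | exact Commute.refl b | exact hab.symm | exact hab.symm.mul_right (Commute.refl b))))).eq
        | exact hll.eq
        | exact (hll.mul_right (by first | exact hla | exact hlb | exact hla.mul_right hlb)).eq
        | exact (Commute.mul_left hll (by first | exact hLa.symm | exact hLb.symm | exact Commute.mul_left hLa.symm hLb.symm)).eq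
  refine ⟨a, b, ha, hb, ha2, hb2, hne, ?_, hspan⟩
  rw [← comm_pow hf ha.1 hb.1, comm_eq_one_iff]
  exact Subgroup.mem_centralizer_iff.mp hb.2 _ ha2

end CfsgLib.BaseTwo
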