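import Cfsg.Agent.Lib.BaseTwo.TreeForm
import Cfsg.Agent.Lib.BaseTwo.Anchor

/-!
A system of tensor generators inside the section gives coordinates on a subspace of the module.
-/

set_option autoImplicit false

namespace CfsgLib.BaseTwo

open Subgroup CfsgLib.OddBase CfsgLib.BaseThree
open scoped commutatorElement

universe u

variable {A V : Type u} [Group A] [Finite A] [AddCommGroup V] [Finite V] [DistribMulAction A V]
  {Z F L₀ : Subgroup A}

/-- Tensor generators with a pair of base vectors. -/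
structure Gens (hf : Frame A V Z F L₀) (k : ℕ) (ce : Fin 4 → A) (ms : Fin 4 → ℕ → Sc V Z) (X W : ℕ → A) (b₀ b₁ : V) : Prop where
  mem_ce : ∀ c, ce c ∈ F
  mem_X : ∀ t, t < k → X t ∈ F
  mem_W : ∀ t, t < k → W t ∈ F
  sq_X : ∀ t, t < k → X t * X t = 1
  comm_XX : ∀ s t, s < k → t < k → X s * X t = X t * X s
  comm_XW : ∀ s t, s < k → t < k → s ≠ t → X s * W t = W t * X s
  comm_WW : ∀ s t, s < k → t < k → W s * W t = W t * W s
  comm_cX : ∀ c t, t < k → ce c * X t = X t * ce c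
  comm_cW : ∀ c t, t < k → ce c * W t = W t * ce c
  anti : ∀ t, t < k → ∀ v : V, W t • X t • v = -(X t • W t • v)
  fix₀ : ∀ t, t < k → W t • b₀ = b₀
  fix₁ : ∀ t, t < k → W t • b₁ = b₁
  leaf₀ : ∀ c, ce c • b₀ = (ms c 0).1 b₀ + (ms c 2).1 b₁
  leaf₁ : ∀ c, ce c • b₁ = (ms c 1).1 b₀ + (ms c 3).1 b₁
  indep : ∀ r s : Sc V Z, r.1 b₀ + s.1 b₁ = 0 → r = 0 ∧ s = 0

/-- The element of a tensor monomial. -/
def elt (ce : Fin 4 → A) (X W : ℕ → A) : ℕ → ℕ → ℕ → Fin 4 → A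
  | 0, _, _, c => ce c
  | k + 1, a, b, c => (if b / 2 ^ k = 1 then W k else 1) *
      ((if a / 2 ^ k = 1 then X k else 1) * elt ce X W k (a % 2 ^ k) (b % 2 ^ k) c)

/-- The coordinates. -/
noncomputable def coordJ (b₀ b₁ : V) (X : ℕ → A) : ∀ k, Tree (Sc V Z) k → V
  | 0, v => (v.1 : Sc V Z).1 b₀ + (v.2 : Sc V Z).1 b₁
  | k + 1, v => coordJ b₀ b₁ X k v.1 + X k • coordJ b₀ b₁ X k v.2

variable {hf : Frame A V Z F L₀} {k : ℕ} {ce : Fin 4 → A} {ms : Fin 4 → ℕ → Sc V Z} {X W : ℕ → A} {b₀ b₁ : V}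

theorem coordJ_add : ∀ j (v w : Tree (Sc V Z) j),
    coordJ b₀ b₁ X j (v + w) = coordJ b₀ b₁ X j v + coordJ b₀ b₁ X j w
  | 0, v, w => by
    show (v.1 + w.1 : Sc V Z).1 b₀ + (v.2 + w.2 : Sc V Z).1 b₁ = _
    show v.1.1 b₀ + w.1.1 b₀ + (v.2.1 b₁ + w.2.1 b₁) = v.1.1 b₀ + v.2.1 b₁ + (w.1.1 b₀ + w.2.1 b₁)
    abel
  | j + 1, v, w => by
    show coordJ b₀ b₁ X j (v.1 + w.1) + X j • coordJ b₀ b₁ X j (v.2 + w.2) = _
    rw [coordJ_add j, coordJ_add j, smul_add]
    show _ = coordJ b₀ b₁ X j v.1 + _ + (coordJ b₀ b₁ X j w.1 + _)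
    abel

theorem coordJ_zero (j : ℕ) : coordJ b₀ b₁ X j (0 : Tree (Sc V Z) j) = 0 := by
  have := coordJ_add (b₀ := b₀) (b₁ := b₁) (X := X) j (0 : Tree (Sc V Z) j) 0
  rwa [add_zero, left_eq_add] at this

theorem coordJ_neg (j : ℕ) (v : Tree (Sc V Z) j) : coordJ b₀ b₁ X j (-v) = -coordJ b₀ b₁ X j v := by
  have := coordJ_add (b₀ := b₀) (b₁ := b₁) (X := X) j v (-v)
  rw [add_neg_cancel, coordJ_zero] at this
  exact eq_neg_of_add_eq_zero_right this.symm

theorem coordJ_smul (hg : Gens hf k ce ms X W b₀ b₁) : ∀ j, j ≤ k → ∀ (r : Sc V Z) (v : Tree (Sc V Z) j),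
    letI := hf.base.field.toField
    coordJ b₀ b₁ X j (smulT r j v) = r.1 (coordJ b₀ b₁ X j v)
  | 0, _, r, v => by
    letI := hf.base.field.toField
    show r.1 (v.1.1 b₀) + r.1 (v.2.1 b₁) = r.1 (v.1.1 b₀ + v.2.1 b₁)
    rw [map_add]
  | j + 1, hj, r, v => by
    letI := hf.base.field.toField
    show coordJ b₀ b₁ X j (smulT r j v.1) + X j • coordJ b₀ b₁ X j (smulT r j v.2) = _
    rw [coordJ_smul hg j (by omega), coordJ_smul hg j (by omega), linear_of_mem (hf.cent (hg.mem_X j (by omega))) r.2]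
    show _ = r.1 (coordJ b₀ b₁ X j v.1 + _)
    rw [map_add]

theorem elt_mem (hg : Gens hf k ce ms X W b₀ b₁) : ∀ j, j ≤ k → ∀ a b c, elt ce X W j a b c ∈ F
  | 0, _, a, b, c => hg.mem_ce c
  | j + 1, hj, a, b, c => by
    simp only [elt]
    refine F.mul_mem ?_ (F.mul_mem ?_ (elt_mem hg j (by omega) _ _ c)) <;> split_ifs
    exacts [hg.mem_W j (by omega), one_mem F, hg.mem_X j (by omega), one_mem F]

theorem elt_comm (hg : Gens hf k ce ms X W b₀ b₁) : ∀ j, j ≤ k → ∀ a b c t, j ≤ t → t < k →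
    elt ce X W j a b c * X t = X t * elt ce X W j a b c ∧ elt ce X W j a b c * W t = W t * elt ce X W j a b c
  | 0, _, a, b, c, t, _, ht => ⟨hg.comm_cX c t ht, hg.comm_cW c t ht⟩
  | j + 1, hj, a, b, c, t, hjt, ht => by
    obtain ⟨h1, h2⟩ := elt_comm hg j (by omega) (a % 2 ^ j) (b % 2 ^ j) c t (by omega) ht
    have hne : j ≠ t := by omega
    simp only [elt]
    constructor
    · refine (Commute.mul_left ?_ (Commute.mul_left ?_ h1)).eq <;> split_ifs
      exacts [(hg.comm_XW t j ht (by omega) (Ne.symm hne)).symm, Commute.one_left _, hg.comm_XX j t (by omega) ht,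
        Commute.one_left _]
    · refine (Commute.mul_left ?_ (Commute.mul_left ?_ h2)).eq <;> split_ifs
      exacts [hg.comm_WW j t (by omega) ht, Commute.one_left _, hg.comm_XW j t (by omega) ht hne, Commute.one_left _]

theorem W_fix (hg : Gens hf k ce ms X W b₀ b₁) : ∀ j, j ≤ k → ∀ t, j ≤ t → t < k → ∀ v : Tree (Sc V Z) j,
    W t • coordJ b₀ b₁ X j v = coordJ b₀ b₁ X j v
  | 0, _, t, _, ht, v => by
    have hW := hf.cent (hg.mem_W t ht)
    simp only [coordJ]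
    rw [smul_add, linear_of_mem hW v.1.2, linear_of_mem hW v.2.2, hg.fix₀ t ht, hg.fix₁ t ht]
  | j + 1, hj, t, hjt, ht, v => by
    simp only [coordJ]
    rw [smul_add, W_fix hg j (by omega) t (by omega) ht, ← mul_smul,
      ← hg.comm_XW j t (by omega) ht (by omega), mul_smul, W_fix hg j (by omega) t (by omega) ht]

/-- Monomials act as prescribed. -/
theorem elt_smul (hg : Gens hf k ce ms X W b₀ b₁) : ∀ j, j ≤ k → ∀ a b c (v : Tree (Sc V Z) j),
    letI := hf.base.field.toField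
    elt ce X W j a b c • coordJ b₀ b₁ X j v = coordJ b₀ b₁ X j (opW j a b (ms c) v)
  | 0, _, a, b, c, v => by
    letI := hf.base.field.toField
    have hC := hf.cent (hg.mem_ce c)
    simp only [elt, coordJ, opW]
    rw [smul_add, linear_of_mem hC v.1.2, linear_of_mem hC v.2.2, hg.leaf₀, hg.leaf₁, map_add, map_add]
    show v.1.1 ((ms c 0).1 b₀) + v.1.1 ((ms c 2).1 b₁) + (v.2.1 ((ms c 1).1 b₀) + v.2.1 ((ms c 3).1 b₁)) =
      ((ms c 0).1 (v.1.1 b₀) + (ms c 1).1 (v.2.1 b₀)) + ((ms c 2).1 (v.1.1 b₁) + (ms c 3).1 (v.2.1 b₁))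
    rw [scalar_comm hf.base v.1.2 (ms c 0).2, scalar_comm hf.base v.1.2 (ms c 2).2,
      scalar_comm hf.base v.2.2 (ms c 1).2, scalar_comm hf.base v.2.2 (ms c 3).2]
    abel
  | j + 1, hj, a, b, c, v => by
    letI := hf.base.field.toField
    obtain ⟨h1, -⟩ := elt_comm hg j (by omega) (a % 2 ^ j) (b % 2 ^ j) c j le_rfl (by omega)
    set E := elt ce X W j (a % 2 ^ j) (b % 2 ^ j) c
    have hE : ∀ w, E • coordJ b₀ b₁ X j w = coordJ b₀ b₁ X j (opW j (a % 2 ^ j) (b % 2 ^ j) (ms c) w) :=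
      fun w => elt_smul hg j (by omega) _ _ c w
    have hX : ∀ w : V, X j • X j • w = w := fun w => by rw [← mul_smul, hg.sq_X j (by omega), one_smul]
    simp only [elt, coordJ, opW]
    rw [mul_smul, mul_smul, smul_add, ← mul_smul E (X j), h1, mul_smul, hE, hE]
    by_cases ha : a / 2 ^ j = 1 <;> by_cases hb : b / 2 ^ j = 1 <;>
      simp only [ha, hb, if_true, if_false, one_smul, smul_add, hX, coordJ_neg, smul_neg, hg.anti j (by omega),
        W_fix hg j (by omega) j le_rfl (by omega)] <;> abel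

/-- The coordinates are injective. -/
theorem coordJ_injective (hg : Gens hf k ce ms X W b₀ b₁) (h2 : (2 : Sc V Z) ≠ 0) : ∀ j, j ≤ k →
    Function.Injective (coordJ b₀ b₁ X j : Tree (Sc V Z) j → V)
  | 0, _, v, w, e => by
    simp only [coordJ] at e
    have h := hg.indep (v.1 - w.1) (v.2 - w.2) (by
      show v.1.1 b₀ - w.1.1 b₀ + (v.2.1 b₁ - w.2.1 b₁) = 0
      rw [show v.1.1 b₀ - w.1.1 b₀ + (v.2.1 b₁ - w.2.1 b₁) = (v.1.1 b₀ + v.2.1 b₁) - (w.1.1 b₀ + w.2.1 b₁) by abel, e,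
        sub_self])
    exact Prod.ext (sub_eq_zero.mp h.1) (sub_eq_zero.mp h.2)
  | j + 1, hj, v, w, e => by
    have hsplit : coordJ b₀ b₁ X j (v.1 - w.1) + X j • coordJ b₀ b₁ X j (v.2 - w.2) = 0 := by
      simp only [coordJ] at e
      rw [sub_eq_add_neg, sub_eq_add_neg, coordJ_add, coordJ_add, coordJ_neg, coordJ_neg, smul_add, smul_neg]
      rw [show coordJ b₀ b₁ X j v.1 + -coordJ b₀ b₁ X j w.1 + (X j • coordJ b₀ b₁ X j v.2 + -(X j • coordJ b₀ b₁ X j w.2))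
        = (coordJ b₀ b₁ X j v.1 + X j • coordJ b₀ b₁ X j v.2) - (coordJ b₀ b₁ X j w.1 + X j • coordJ b₀ b₁ X j w.2)
        by abel, e, sub_self]
    have hW := congrArg (fun x => W j • x) hsplit
    simp only [smul_add, hg.anti j (by omega), W_fix hg j (by omega) j le_rfl (by omega), smul_zero] at hW
    set P := coordJ b₀ b₁ X j (v.1 - w.1)
    set Q := X j • coordJ b₀ b₁ X j (v.2 - w.2) with hQ
    have hPP : P + P = 0 := by
      calc P + P = (P + Q) + (P + -Q) := by abel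
        _ = 0 := by rw [hsplit, hW, add_zero]
    have hP : P = 0 := by
      refine hf.base.eq_zero (1 + 1 : Sc V Z).2 (fun e => h2 ?_) (show (P + P : V) = 0 from hPP)
      rw [← one_add_one_eq_two]
      exact Subtype.ext e
    have hQ0 : Q = 0 := by rw [hP, zero_add] at hsplit; exact hsplit
    have hQ' : coordJ b₀ b₁ X j (v.2 - w.2) = 0 := smul_left_cancel (X j) (by rw [smul_zero]; exact hQ0)
    refine Prod.ext (sub_eq_zero.mp ?_) (sub_eq_zero.mp ?_)
    · exact coordJ_injective hg h2 j (by omega) (hP.trans (coordJ_zero j).symm)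
    · exact coordJ_injective hg h2 j (by omega) (hQ'.trans (coordJ_zero j).symm)

end CfsgLib.BaseTwo
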