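import Cfsg.Agent.Lib.BaseTwo.TreeForm

/-!
Finite checks of the forms on a plane over a field coded by numbers.
-/

set_option autoImplicit false

namespace CfsgLib.BaseTwo

universe u

namespace Ops

variable (o : Ops)

/-- A multiple of a matrix. -/
def scaleM (r : ℕ) (M : List ℕ) : List ℕ :=
  [o.mul r (M.getD 0 0), o.mul r (M.getD 1 0), o.mul r (M.getD 2 0), o.mul r (M.getD 3 0)]

/-- One value of a form. -/
def form0 (M : List ℕ) (a b c d : ℕ) : ℕ :=
  o.add (o.mul a (o.add (o.mul (M.getD 0 0) c) (o.mul (M.getD 1 0) d)))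
    (o.mul b (o.add (o.mul (M.getD 2 0) c) (o.mul (M.getD 3 0) d)))

/-- The form moved by a matrix. -/
def congrM (g M : List ℕ) : List ℕ :=
  [o.form0 M (g.getD 0 0) (g.getD 2 0) (g.getD 0 0) (g.getD 2 0),
   o.form0 M (g.getD 0 0) (g.getD 2 0) (g.getD 1 0) (g.getD 3 0),
   o.form0 M (g.getD 1 0) (g.getD 3 0) (g.getD 0 0) (g.getD 2 0),
   o.form0 M (g.getD 1 0) (g.getD 3 0) (g.getD 1 0) (g.getD 3 0)]

/-- A matrix keeps a form up to a multiple. -/
def semiB (q : ℕ) (g M : List ℕ) : Bool := (List.range q).any fun χ => o.congrM g M == o.scaleM χ M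

/-- Only multiples of the listed forms are semi-invariant under the two matrices. -/
def uniqueB (q : ℕ) (g₁ g₂ : List ℕ) (forms : List (List ℕ)) : Bool :=
  (List.range q).all fun a => (List.range q).all fun b => (List.range q).all fun c => (List.range q).all fun d =>
    !(o.semiB q g₁ [a, b, c, d] && o.semiB q g₂ [a, b, c, d]) ||
      (List.range 4).any fun i => (List.range q).any fun r => [a, b, c, d] == o.scaleM r (forms.getD i [])

/-- All listed matrices keep all listed forms up to multiples. -/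
def semiAllB (q : ℕ) (mats forms : List (List ℕ)) : Bool :=
  (List.range 4).all fun i => (List.range 4).all fun j => o.semiB q (mats.getD i []) (forms.getD j [])

/-- The listed forms are reduced, non-zero and pairwise non-proportional. -/
def distinctB (q : ℕ) (forms : List (List ℕ)) : Bool :=
  (List.range 4).all fun i => (List.range 4).all fun e => decide ((forms.getD i []).getD e 0 < q) &&
    (List.range q).all fun r => (List.range 4).all fun j =>
      decide (i = j) ||
        [(forms.getD i []).getD 0 0, (forms.getD i []).getD 1 0, (forms.getD i []).getD 2 0, (forms.getD i []).getD 3 0] !=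
          o.scaleM r (forms.getD j [])

/-- Only the first listed form is invariant under the two matrices. -/
def firstB (g₁ g₂ : List ℕ) (forms : List (List ℕ)) : Bool :=
  (List.range 4).all fun i => decide (i = 0) || o.congrM g₁ (forms.getD i []) != o.scaleM 1 (forms.getD i []) ||
    o.congrM g₂ (forms.getD i []) != o.scaleM 1 (forms.getD i [])

/-- All checks of a family. -/
def familyB (q : ℕ) (mats forms : List (List ℕ)) : Bool :=
  o.uniqueB q (mats.getD 1 []) (mats.getD 2 []) forms && o.semiAllB q mats forms && o.distinctB q forms &&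
    (List.range 4).all fun e => decide ((mats.getD 0 []).getD e 0 = if e = 0 ∨ e = 3 then 1 else 0)

end Ops

variable {K : Type u} [Field K]

/-- The numbers below the bound code the field bijectively. -/
structure NumOk (ν : Num K) : Prop where
  one_lt : 1 < ν.q
  add_lt : ∀ a b, ν.add a b < ν.q
  mul_lt : ∀ a b, ν.mul a b < ν.q
  neg_lt : ∀ a, ν.neg a < ν.q
  inj : ∀ a b, a < ν.q → b < ν.q → ν.dec a = ν.dec b → a = b
  surj : ∀ x : K, ∃ a, a < ν.q ∧ ν.dec a = x

/-- The decoded matrices of a list. -/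
def decMs (ν : Num K) (L : List (List ℕ)) : Fin 4 → ℕ → K := fun c => decM ν (L.getD c.1 [])

variable {ν : Num K}

theorem form0_dec (M : List ℕ) (a b c d : ℕ) :
    ν.dec (ν.ops.form0 M a b c d) = formW 0 0 0 (decM ν M) ((ν.dec a, ν.dec b) : K × K) ((ν.dec c, ν.dec d) : K × K) := by
  simp only [Ops.form0, Num.ops, ν.dec_add, ν.dec_mul, formW, decM]

theorem formW_entries (m : ℕ → K) (v w : Tree K 0) : formW 0 0 0 m v w =
    v.1 * w.1 * m 0 + v.1 * w.2 * m 1 + v.2 * w.1 * m 2 + v.2 * w.2 * m 3 := by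
  simp only [formW]; ring

theorem congrM_formW (g M : List ℕ) (v w : Tree K 0) :
    formW 0 0 0 (decM ν (ν.ops.congrM g M)) v w =
      formW 0 0 0 (decM ν M) (opW 0 0 0 (decM ν g) v) (opW 0 0 0 (decM ν g) w) := by
  simp only [formW, opW, decM, Ops.congrM, Ops.form0, Num.ops, ν.dec_add, ν.dec_mul, List.getD_cons_zero,
    List.getD_cons_succ]
  ring

theorem scaleM_formW (r : ℕ) (M : List ℕ) (v w : Tree K 0) :
    formW 0 0 0 (decM ν (ν.ops.scaleM r M)) v w = ν.dec r * formW 0 0 0 (decM ν M) v w := by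
  simp only [formW_entries, decM, Ops.scaleM, List.getD_cons_zero, List.getD_cons_succ, Num.ops, ν.dec_mul]
  ring

theorem semiB_spec {g M : List ℕ} {q : ℕ} (h : ν.ops.semiB q g M = true) :
    ∃ χ : K, ∀ v w : Tree K 0,
      formW 0 0 0 (decM ν M) (opW 0 0 0 (decM ν g) v) (opW 0 0 0 (decM ν g) w) = χ * formW 0 0 0 (decM ν M) v w := by
  simp only [Ops.semiB, List.any_eq_true, beq_iff_eq] at h
  obtain ⟨χ, -, he⟩ := h
  exact ⟨ν.dec χ, fun v w => by rw [← congrM_formW, he, scaleM_formW]⟩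

theorem semiAll_spec {q : ℕ} {mats forms : List (List ℕ)} (h : ν.ops.semiAllB q mats forms = true) (c d : Fin 4) :
    ∃ χ : K, ∀ v w : Tree K 0, formW 0 0 0 (decMs ν forms c) (opW 0 0 0 (decMs ν mats d) v)
      (opW 0 0 0 (decMs ν mats d) w) = χ * formW 0 0 0 (decMs ν forms c) v w := by
  simp only [Ops.semiAllB, List.all_eq_true, List.mem_range] at h
  exact semiB_spec (h d.1 d.2 c.1 c.2)

/-- The entries of a bilinear form on a plane. -/
theorem Bilin.entries {D : Tree K 0 → Tree K 0 → K} (hD : Bilin 0 D) (m : ℕ → K)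
    (h0 : m 0 = D ((1, 0) : K × K) ((1, 0) : K × K)) (h1 : m 1 = D ((1, 0) : K × K) ((0, 1) : K × K))
    (h2 : m 2 = D ((0, 1) : K × K) ((1, 0) : K × K)) (h3 : m 3 = D ((0, 1) : K × K) ((0, 1) : K × K))
    (v w : Tree K 0) : D v w = formW 0 0 0 m v w := by
  let e₁ : Tree K 0 := ((1, 0) : K × K)
  let e₂ : Tree K 0 := ((0, 1) : K × K)
  have hs : ∀ v : Tree K 0, v = smulT v.1 0 e₁ + smulT v.2 0 e₂ := fun v => by
    show v = ((v.1 * 1 + v.2 * 0, v.1 * 0 + v.2 * 1) : K × K)
    simp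
    rfl
  conv_lhs => rw [hs v, hs w, hD.addl, hD.addr, hD.addr, hD.smul, hD.smul, hD.smul, hD.smul]
  rw [formW_entries, h0, h1, h2, h3]
  ring

theorem formW_inj_entries {m m' : ℕ → K} (h : ∀ v w : Tree K 0, formW 0 0 0 m v w = formW 0 0 0 m' v w) :
    ∀ e, e < 4 → m e = m' e := by
  intro e he
  have a := h ((1, 0) : K × K) ((1, 0) : K × K)
  have b := h ((1, 0) : K × K) ((0, 1) : K × K)
  have c := h ((0, 1) : K × K) ((1, 0) : K × K)
  have d := h ((0, 1) : K × K) ((0, 1) : K × K)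
  simp only [formW, mul_one, mul_zero, zero_mul, add_zero, zero_add, one_mul] at a b c d
  interval_cases e <;> assumption

theorem form0_lt (hν : NumOk ν) (M : List ℕ) (a b c d : ℕ) : ν.ops.form0 M a b c d < ν.q := hν.add_lt _ _

theorem list_eq_of_dec (hν : NumOk ν) {a b c d a' b' c' d' : ℕ} (ha : a < ν.q) (hb : b < ν.q) (hc : c < ν.q)
    (hd : d < ν.q) (ha' : a' < ν.q) (hb' : b' < ν.q) (hc' : c' < ν.q) (hd' : d' < ν.q)
    (h : ∀ e, e < 4 → decM ν [a, b, c, d] e = decM ν [a', b', c', d'] e) : [a, b, c, d] = [a', b', c', d'] := by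
  rw [hν.inj a a' ha ha' (h 0 (by norm_num)), hν.inj b b' hb hb' (h 1 (by norm_num)),
    hν.inj c c' hc hc' (h 2 (by norm_num)), hν.inj d d' hd hd' (h 3 (by norm_num))]

theorem leafUnique_of_check (hν : NumOk ν) {g₁ g₂ : List ℕ} {forms : List (List ℕ)}
    (h : ν.ops.uniqueB ν.q g₁ g₂ forms = true) : LeafUnique (decM ν g₁) (decM ν g₂) (decMs ν forms) := by
  intro D hD hsemi
  obtain ⟨a, ha, ea⟩ := hν.surj (D ((1, 0) : K × K) ((1, 0) : K × K))
  obtain ⟨b, hb, eb⟩ := hν.surj (D ((1, 0) : K × K) ((0, 1) : K × K))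
  obtain ⟨c, hc, ec⟩ := hν.surj (D ((0, 1) : K × K) ((1, 0) : K × K))
  obtain ⟨d, hd, ed⟩ := hν.surj (D ((0, 1) : K × K) ((0, 1) : K × K))
  have hDM : ∀ v w, D v w = formW 0 0 0 (decM ν [a, b, c, d]) v w :=
    hD.entries _ (by simpa [decM] using ea) (by simpa [decM] using eb) (by simpa [decM] using ec)
      (by simpa [decM] using ed)
  have hsB : ∀ g : List ℕ, (∃ χ, ∀ v w, D (opW 0 0 0 (decM ν g) v) (opW 0 0 0 (decM ν g) w) = χ * D v w) →
      ν.ops.semiB ν.q g [a, b, c, d] = true := by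
    rintro g ⟨χ, hχ⟩
    obtain ⟨r, hr, er⟩ := hν.surj χ
    simp only [Ops.semiB, List.any_eq_true, List.mem_range, beq_iff_eq]
    refine ⟨r, hr, ?_⟩
    simp only [Ops.congrM, Ops.scaleM]
    refine list_eq_of_dec hν (form0_lt hν ..) (form0_lt hν ..) (form0_lt hν ..) (form0_lt hν ..) (hν.mul_lt _ _)
      (hν.mul_lt _ _) (hν.mul_lt _ _) (hν.mul_lt _ _) ?_
    refine formW_inj_entries fun v w => ?_
    show formW 0 0 0 (decM ν (ν.ops.congrM g [a, b, c, d])) v w = formW 0 0 0 (decM ν (ν.ops.scaleM r [a, b, c, d])) v w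
    rw [congrM_formW, scaleM_formW, ← hDM, ← hDM, hχ, er]
  simp only [Ops.uniqueB, List.all_eq_true, List.mem_range, Bool.or_eq_true, Bool.not_eq_true', List.any_eq_true,
    beq_iff_eq] at h
  rcases h a ha b hb c hc d hd with h0 | ⟨i, hi, r, -, hir⟩
  · rw [hsB g₁ hsemi.1, hsB g₂ hsemi.2.1] at h0
    simp at h0
  · refine ⟨⟨i, hi⟩, ν.dec r, fun v w => ?_⟩
    rw [hDM, hir, scaleM_formW]
    rfl

theorem distinct_spec (hν : NumOk ν) {forms : List (List ℕ)} (h : ν.ops.distinctB ν.q forms = true) :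
    (∀ c, ∃ v w, formW 0 0 0 (decMs ν forms c) v w ≠ 0) ∧
      ∀ c c' r, (∀ v w : Tree K 0, formW 0 0 0 (decMs ν forms c) v w = r * formW 0 0 0 (decMs ν forms c') v w) → c = c' := by
  simp only [Ops.distinctB, List.all_eq_true, List.mem_range, Bool.and_eq_true, Bool.or_eq_true, decide_eq_true_eq,
    bne_iff_ne] at h
  have key : ∀ (c c' : Fin 4) (r : K),
      (∀ v w : Tree K 0, formW 0 0 0 (decMs ν forms c) v w = r * formW 0 0 0 (decMs ν forms c') v w) → c = c' := by
    intro c c' r hr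
    obtain ⟨n, hn, en⟩ := hν.surj r
    rcases (h c.1 c.2 0 (by norm_num)).2 n hn c'.1 c'.2 with e | e
    · exact Fin.ext e
    refine absurd ?_ e
    simp only [Ops.scaleM]
    refine list_eq_of_dec hν (h c.1 c.2 0 (by norm_num)).1 (h c.1 c.2 1 (by norm_num)).1 (h c.1 c.2 2 (by norm_num)).1
      (h c.1 c.2 3 (by norm_num)).1 (hν.mul_lt _ _) (hν.mul_lt _ _) (hν.mul_lt _ _) (hν.mul_lt _ _)
      (formW_inj_entries fun v w => ?_)
    show formW 0 0 0 (decM ν [_, _, _, _]) v w = formW 0 0 0 (decM ν (ν.ops.scaleM n _)) v w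
    rw [scaleM_formW, en, show formW 0 0 0 (decM ν (forms.getD c'.1 [])) v w = formW 0 0 0 (decMs ν forms c') v w from rfl,
      ← hr]
    simp [formW_entries, decM, decMs]
  refine ⟨fun c => ?_, key⟩
  by_contra hc
  push Not at hc
  have hd : ∀ c : Fin 4, c ≠ c + 1 := by decide
  exact hd c (key c (c + 1) 0 fun v w => by rw [hc, zero_mul])

theorem first_spec (hν : NumOk ν) {g₁ g₂ : List ℕ} {forms : List (List ℕ)} (h : ν.ops.firstB g₁ g₂ forms = true)
    (c : Fin 4)
    (h1 : ∀ v w : Tree K 0, formW 0 0 0 (decMs ν forms c) (opW 0 0 0 (decM ν g₁) v) (opW 0 0 0 (decM ν g₁) w) =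
      formW 0 0 0 (decMs ν forms c) v w)
    (h2 : ∀ v w : Tree K 0, formW 0 0 0 (decMs ν forms c) (opW 0 0 0 (decM ν g₂) v) (opW 0 0 0 (decM ν g₂) w) =
      formW 0 0 0 (decMs ν forms c) v w) : c = 0 := by
  simp only [Ops.firstB, List.all_eq_true, List.mem_range, Bool.or_eq_true, decide_eq_true_eq, bne_iff_ne] at h
  have key : ∀ g : List ℕ, (∀ v w : Tree K 0, formW 0 0 0 (decMs ν forms c) (opW 0 0 0 (decM ν g) v)
      (opW 0 0 0 (decM ν g) w) = formW 0 0 0 (decMs ν forms c) v w) →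
      ν.ops.congrM g (forms.getD c.1 []) = ν.ops.scaleM 1 (forms.getD c.1 []) := by
    intro g hg
    simp only [Ops.congrM, Ops.scaleM]
    refine list_eq_of_dec hν (form0_lt hν ..) (form0_lt hν ..) (form0_lt hν ..) (form0_lt hν ..) (hν.mul_lt _ _)
      (hν.mul_lt _ _) (hν.mul_lt _ _) (hν.mul_lt _ _) (formW_inj_entries fun v w => ?_)
    show formW 0 0 0 (decM ν (ν.ops.congrM g _)) v w = formW 0 0 0 (decM ν (ν.ops.scaleM 1 _)) v w
    rw [congrM_formW, scaleM_formW, ν.dec_one, one_mul]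
    exact hg v w
  rcases h c.1 c.2 with (e | e) | e
  · exact Fin.ext e
  · exact absurd (key g₁ h1) e
  · exact absurd (key g₂ h2) e

theorem decMs_zero {q : ℕ} {mats forms : List (List ℕ)} (h : ν.ops.familyB q mats forms = true) :
    ∀ k a b (v : Tree K k), opW k a b (decMs ν mats 0) v = opW k a b oneM v := by
  simp only [Ops.familyB, Bool.and_eq_true, List.all_eq_true, List.mem_range, decide_eq_true_eq] at h
  have he : ∀ e, e < 4 → decMs ν mats 0 e = (oneM : ℕ → K) e := fun e he => by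
    show ν.dec ((mats.getD 0 []).getD e 0) = _
    rw [h.2 e he, oneM]
    split_ifs <;> simp [ν.dec_one, ν.dec_zero]
  intro k
  induction k with
  | zero =>
    intro a b v
    simp only [opW, he 0 (by norm_num), he 1 (by norm_num), he 2 (by norm_num), he 3 (by norm_num)]
    rfl
  | succ k ih => intro a b v; simp only [opW, ih]; rfl

end CfsgLib.BaseTwo
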