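import Cfsg.Agent.Lib.BaseTwo.Spec

/-!
Certificates for maps sending the first form to its negative, and the four kinds of complete certificates.
-/

set_option autoImplicit false

namespace CfsgLib.BaseTwo

namespace Spec

variable (S : Spec)

/-- The length of the coordinate lists. -/
def dim : ℕ := 2 ^ (S.k + 1)

/-- The data on pairs of vectors, the monomials exchanging the parts. -/
def cert2 : CertData :=
  ⟨S.n, fun f v => S.op f (v.drop S.dim) ++ S.op f (v.take S.dim), S.o.vadd (S.dim + S.dim),
    List.replicate (S.dim + S.dim) 0⟩

/-- The pairs reached. -/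
def reach2 (cols : List ℕ) (ss : List (ℕ × ℕ)) : List (List ℕ) :=
  S.cert2.grow cols [S.o.vadd S.dim S.x [] ++ List.replicate S.dim 0, S.o.vadd S.dim S.y [] ++ List.replicate S.dim 0] ss

/-- A pair reached with opposite non-zero parts. -/
def contraB (cols : List ℕ) (ss : List (ℕ × ℕ)) (c : List ℕ) : Bool :=
  let v := S.cert2.comb c (S.reach2 cols ss)
  v.drop S.dim == (v.take S.dim).map S.o.neg && (v.take S.dim).length == S.dim &&
    (v.take S.dim).all (fun z => decide (z < S.q)) && v.take S.dim != List.replicate S.dim 0

/-- The signed images of the spanning vectors. -/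
def signedB (cols : List ℕ) (ss : List (ℕ × ℕ)) (cs : List (List ℕ)) (E : List (List ℕ)) : Bool :=
  let W := S.reach2 cols ss
  (cs.map fun c => S.o.vadd S.dim ((S.cert2.comb c W).take S.dim) ((S.cert2.comb c W).drop S.dim)) == targets S.tsc S.k &&
    ((cs.map fun c => S.o.vadd S.dim ((S.cert2.comb c W).take S.dim)
      (((S.cert2.comb c W).drop S.dim).map S.o.neg)) == E) &&
    cs.all fun c => ((S.cert2.comb c W).drop S.dim).length == S.dim

/-- The list is reproduced by its coordinates. -/
def stableB (L : List (List ℕ)) : Bool := L.all fun v => S.cert.comb v (targets S.tsc S.k) == v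

/-- The composite of two tables. -/
def compT (A B : List (List ℕ)) : List (List ℕ) := B.map fun v => S.cert.comb v A

/-- The map with the given table moves every monomial only by one fixed monomial. -/
def transB (E : List (List ℕ)) (c : ℕ) (mv : List (ℕ × Bool)) : Bool :=
  decide (mv.length = 4 * 4 ^ S.k ∧ c < 4 * 4 ^ S.k) && (List.range (4 * 4 ^ S.k)).all fun f =>
    let p := mv.getD f (0, false)
    decide (p.1 < S.n ∧ p.1 % (4 * 4 ^ S.k) = f) && S.stableB ((targets S.tsc S.k).map (S.op f)) &&
      (S.compT E ((targets S.tsc S.k).map (S.op f)) ==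
        E.map fun w => S.op p.1 (bif p.2 then S.op c w else w))

/-- The square of the composite has order three. -/
def orderB (E E' : List (List ℕ)) : Bool :=
  let M := S.compT E E'
  let M₂ := S.compT M M
  let M₄ := S.compT M₂ M₂
  let M₆ := S.compT M₄ M₂
  S.stableB E' && S.stableB M && S.stableB M₂ && (M₆ == targets S.tsc S.k) && (M₂ != targets S.tsc S.k) &&
    M₂.all fun v => v.length == S.dim && v.all fun z => decide (z < S.q)

/-- The colours form the given table. -/
def Table (cols : List ℕ) : Prop := (List.range S.cert.n).map S.colour = cols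

/-- A chain of steps exists. -/
def Plain (cols : List ℕ) : Prop := ∃ ss cs, S.plainB cols ss cs = true

/-- Complete data from the weighted sum of the forms. -/
def GoodPhi : Prop := S.phiB = true ∧ ∃ cols, S.Table cols ∧ S.Plain cols

/-- Complete data from the first form, excluding a change of its sign. -/
def GoodReal : Prop :=
  S.firstRowB = true ∧ ∃ cols, S.Table cols ∧ S.Plain cols ∧ ∃ ss c, S.contraB cols ss c = true

/-- Complete data through a class of three monomials. -/
def GoodPivot : Prop :=
  S.firstRowB = true ∧ ∃ cols, S.Table cols ∧ ∃ key, (S.cert.cls cols key).length = 3 ∧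
    ∀ f ∈ S.cert.cls cols key, S.Plain (cols.set f (S.q ^ 4)) ∧
      ∃ ss cs E c mv, S.signedB (cols.set f (S.q ^ 4)) ss cs E = true ∧ S.transB E c mv = true

/-- The vectors of another specification over the same monomials. -/
def withPair (x y rx ry : List ℕ) : Spec := { S with x := x, y := y, rx := rx, ry := ry }

/-- Complete data through two pairs of vectors. -/
def GoodTwo (x y rx ry : List ℕ) : Prop :=
  S.firstRowB = true ∧ (S.withPair x y rx ry).firstRowB = true ∧
    ∃ cols cols', S.Table cols ∧ (S.withPair x y rx ry).Table cols' ∧ S.Plain cols ∧ (S.withPair x y rx ry).Plain cols' ∧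
      ∃ ss cs E ss' cs' E', S.signedB cols ss cs E = true ∧ (S.withPair x y rx ry).signedB cols' ss' cs' E' = true ∧
        S.orderB E E' = true

/-- Some complete data exists. -/
def Good : Prop :=
  S.GoodPhi ∨ (S.q = 3 ∧ (S.GoodReal ∨ S.GoodPivot ∨ ∃ x y rx ry, S.GoodTwo x y rx ry))

end Spec

end CfsgLib.BaseTwo
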