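import Cfsg.Agent.Lib.BaseTwo.Frames
import Cfsg.Agent.Lib.BaseTwo.Signed

/-!
A group with a tensor frame realises the certificate data.
-/

set_option autoImplicit false

namespace CfsgLib.BaseTwo

open Subgroup CfsgLib.OddBase CfsgLib.BaseThree
open scoped commutatorElement

universe u

variable {A V : Type u} [Group A] [Finite A] [AddCommGroup V] [Finite V] [DistribMulAction A V]
  {Z F L₀ : Subgroup A}

namespace Spec

variable (S : Spec)

/-- The number of a monomial. -/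
def idx (c a b s : ℕ) : ℕ := c + 4 * (a + 2 ^ S.k * (b + 2 ^ S.k * s))

theorem four_pow : 4 ^ S.k = 2 ^ S.k * 2 ^ S.k := by rw [← mul_pow]; norm_num

theorem idx_spec {c a b s : ℕ} (hc : c < 4) (ha : a < 2 ^ S.k) (hb : b < 2 ^ S.k) (hs : s < S.sc.length) :
    S.idx c a b s < S.n ∧ S.idx c a b s % 4 = c ∧ S.ia (S.idx c a b s) = a ∧ S.ib (S.idx c a b s) = b ∧
      S.isc (S.idx c a b s) = s := by
  have hp : 0 < 2 ^ S.k := pow_pos two_pos _
  have e1 : S.idx c a b s / 4 = a + 2 ^ S.k * (b + 2 ^ S.k * s) := by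
    rw [idx, Nat.add_mul_div_left _ _ (by norm_num), Nat.div_eq_of_lt hc, zero_add]
  have e2 : S.idx c a b s / (4 * 2 ^ S.k) = b + 2 ^ S.k * s := by
    rw [← Nat.div_div_eq_div_mul, e1, Nat.add_mul_div_left _ _ hp, Nat.div_eq_of_lt ha, zero_add]
  refine ⟨?_, ?_, ?_, ?_, ?_⟩
  · rw [idx, n, four_pow]
    have h1 : b + 2 ^ S.k * s < 2 ^ S.k * S.sc.length := by nlinarith
    have h2 : a + 2 ^ S.k * (b + 2 ^ S.k * s) < 2 ^ S.k * (2 ^ S.k * S.sc.length) := by nlinarith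
    nlinarith
  · rw [idx, Nat.add_mul_mod_self_left, Nat.mod_eq_of_lt hc]
  · rw [ia, e1, Nat.add_mul_mod_self_left, Nat.mod_eq_of_lt ha]
  · rw [ib, e2, Nat.add_mul_mod_self_left, Nat.mod_eq_of_lt hb]
  · rw [isc, four_pow, ← mul_assoc, ← Nat.div_div_eq_div_mul, e2, Nat.add_mul_div_left _ _ hp, Nat.div_eq_of_lt hb,
      zero_add]

theorem idx_parts {f : ℕ} (hf : f < S.n) :
    S.ia f < 2 ^ S.k ∧ S.ib f < 2 ^ S.k ∧ S.isc f < S.sc.length ∧ S.idx (f % 4) (S.ia f) (S.ib f) (S.isc f) = f := by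
  have hp : 0 < 2 ^ S.k := pow_pos two_pos _
  refine ⟨Nat.mod_lt _ hp, Nat.mod_lt _ hp, (Nat.div_lt_iff_lt_mul (by positivity)).mpr (by
    rw [n] at hf; linarith), ?_⟩
  have e : S.ib f + 2 ^ S.k * S.isc f = f / 4 / 2 ^ S.k := by
    rw [ib, isc, four_pow, ← mul_assoc, ← Nat.div_div_eq_div_mul (f) (4 * 2 ^ S.k) (2 ^ S.k),
      ← Nat.div_div_eq_div_mul f 4 (2 ^ S.k)]
    exact Nat.mod_add_div _ _
  rw [idx, e, ia, Nat.mod_add_div, Nat.mod_add_div]

theorem op_length (f : ℕ) (v : List ℕ) : (S.op f v).length = S.dim := by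
  rw [op, List.length_map, Ops.opR_length, dim]

end Spec

theorem pow_four (hf : Frame A V Z F L₀) {p q : A} (hp : p ∈ F) (hq : q ∈ F) (hp2 : p ^ 2 ∈ Z) (hq2 : q ^ 2 ∈ Z)
    (hp4 : p ^ 4 = 1) (hq4 : q ^ 4 = 1) : (p * q) ^ 4 = 1 := by
  have hk : ⁅q, p⁆ ∈ Z := hf.comm q hq p hp
  have hk2 : ⁅q, p⁆ ^ 2 = 1 := by
    rw [← comm_pow_right hf hq hp 2]
    exact hf.central_left (hf.cent hq) hp2
  have hz : ∀ z ∈ Z, ∀ y ∈ F, y * z = z * y := fun z hz y hy => by
    have := (comm_eq_one_iff y z).mp (hf.central_left (hf.cent hy) hz); exact this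
  have e : (p * q) ^ 2 = p ^ 2 * q ^ 2 * ⁅q, p⁆ := by
    have hqp : q * p = p * q * ⁅q, p⁆ := by
      have : q * p = ⁅q, p⁆ * (p * q) := by simp [commutatorElement_def, mul_assoc]
      rw [this, hz _ hk _ (F.mul_mem hp hq)]
    calc (p * q) ^ 2 = p * (q * p) * q := by simp [pow_two, mul_assoc]
      _ = p * (p * q * (⁅q, p⁆ * q)) := by rw [hqp]; simp [mul_assoc]
      _ = p * (p * q * (q * ⁅q, p⁆)) := by rw [hz _ hk _ hq]
      _ = _ := by simp [pow_two, mul_assoc]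
  have hpz : p ^ 2 ∈ F := F.pow_mem hp 2
  have hc : Commute (p ^ 2) (q ^ 2) := hz _ hq2 _ hpz
  have hc' : Commute (p ^ 2 * q ^ 2) ⁅q, p⁆ := hz _ hk _ (F.mul_mem hpz (F.pow_mem hq 2))
  rw [show 4 = 2 * 2 from rfl, pow_mul, e, hc'.mul_pow, hc.mul_pow, ← pow_mul, ← pow_mul, hp4, hq4, hk2,
    mul_one, mul_one]

/-- The data realised in a group. -/
structure Fits (hf : Frame A V Z F L₀) (S : Spec) (ν : @Num (Sc V Z) hf.base.field.toField)
    (ce : Fin 4 → A) (X W zs : ℕ → A) (b₀ b₁ : V) : Prop where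
  ops : letI := hf.base.field.toField; S.o = ν.ops
  size : letI := hf.base.field.toField; S.q = ν.q
  ok : letI := hf.base.field.toField; NumOk ν
  gens : letI := hf.base.field.toField; Gens hf S.k ce (decMs ν S.mats) X W b₀ b₁
  two : (2 : Sc V Z) ≠ 0
  family : letI := hf.base.field.toField; ν.ops.familyB ν.q S.mats S.forms = true
  squares : ∀ y ∈ F, y ^ 2 ∈ Z
  fourth : ∀ c, ce c ^ 4 = 1
  index : Z.relIndex F = 4 ^ (S.k + 1)
  cover : ∀ y ∈ F, ∃ z ∈ Z, ∃ a, a < 2 ^ S.k ∧ ∃ b, b < 2 ^ S.k ∧ ∃ c : Fin 4, y = z * elt ce X W S.k a b c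
  zs_mem : ∀ s, s < S.sc.length → zs s ∈ Z
  zs_dec : letI := hf.base.field.toField; ∀ s, s < S.sc.length →
    (rho (zs s) : AddMonoid.End V) = (ν.dec (S.sc.getD s 0)).1
  zs_inj : ∀ s t, s < S.sc.length → t < S.sc.length → zs s = zs t → s = t
  zs_fourth : ∀ s, s < S.sc.length → zs s ^ 4 = 1
  roots : ∀ z ∈ Z, z ^ 4 = 1 → ∃ s, s < S.sc.length ∧ zs s = z
  span : letI := hf.base.field.toField; ∀ r : Sc V Z, r ∈ AddSubgroup.closure (ν.dec '' {t | t ∈ S.tsc})
  conj_ok : ∀ z, z < S.q → S.cj z < S.q ∧ S.cj (S.cj z) = z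
  auto : letI := hf.base.field.toField; ∀ σ : Sc V Z ≃+* Sc V Z,
    (∀ z, z < S.q → σ (ν.dec z) = ν.dec z) ∨ ∀ z, z < S.q → σ (ν.dec z) = ν.dec (S.cj z)

variable {hf : Frame A V Z F L₀} {S : Spec} {ν : @Num (Sc V Z) hf.base.field.toField} {ce : Fin 4 → A}
  {X W zs : ℕ → A} {b₀ b₁ : V}

/-- The element with a given number. -/
def els (S : Spec) (ce : Fin 4 → A) (X W zs : ℕ → A) (f : ℕ) : A :=
  zs (S.isc f) * elt ce X W S.k (S.ia f) (S.ib f) ⟨f % 4, Nat.mod_lt _ (by norm_num)⟩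

/-- The vector of a list of numbers. -/
noncomputable def vecJ (hf : Frame A V Z F L₀) (S : Spec) (ν : @Num (Sc V Z) hf.base.field.toField) (X : ℕ → A) (b₀ b₁ : V)
    (v : List ℕ) : V :=
  letI := hf.base.field.toField
  coordJ b₀ b₁ X S.k (decT ν S.k v)

namespace Fits

variable (H : Fits hf S ν ce X W zs b₀ b₁)

include H

theorem els_mem {f : ℕ} (hf' : f < S.n) : els S ce X W zs f ∈ F :=
  F.mul_mem (hf.le (H.zs_mem _ (S.idx_parts hf').2.2.1)) (elt_mem H.gens _ le_rfl _ _ _)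

theorem W_fix_point {t : ℕ} (ht : t < S.k) : W t ^ 2 = 1 := by
  have hbase : b₀ ≠ 0 := by
    intro e
    letI := hf.base.field.toField
    exact one_ne_zero (α := Sc V Z) (H.gens.indep 1 0 (by
      show (b₀ : V) + (0 : V) = 0
      rw [e, add_zero])).1
  refine by_contra fun hne => hbase (hf.base.fx_center (H.squares _ (H.gens.mem_W t ht)) hne ?_)
  rw [pow_two, mul_smul, H.gens.fix₀ t ht, H.gens.fix₀ t ht]

theorem elt_fourth : ∀ j, j ≤ S.k → ∀ a b c, elt ce X W j a b c ^ 4 = 1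
  | 0, _, a, b, c => H.fourth c
  | j + 1, hj, a, b, c => by
    have hjk : j < S.k := by omega
    have hE := elt_mem H.gens j (by omega) (a % 2 ^ j) (b % 2 ^ j) c
    have hx : ∀ x : A, x = X j ∨ x = W j ∨ x = 1 → x ∈ F ∧ x ^ 4 = 1 := by
      rintro x (rfl | rfl | rfl)
      · exact ⟨H.gens.mem_X j hjk, by rw [show 4 = 2 * 2 from rfl, pow_mul, (pow_two (X j)).trans (H.gens.sq_X j hjk), one_pow]⟩
      · exact ⟨H.gens.mem_W j hjk, by rw [show 4 = 2 * 2 from rfl, pow_mul, H.W_fix_point hjk, one_pow]⟩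
      · exact ⟨one_mem F, one_pow 4⟩
    have hmul : ∀ p q : A, p ∈ F → q ∈ F → p ^ 4 = 1 → q ^ 4 = 1 → (p * q) ^ 4 = 1 := fun p q hp hq =>
      pow_four hf hp hq (H.squares p hp) (H.squares q hq)
    have h1 := hx (if a / 2 ^ j = 1 then X j else 1) (by split_ifs <;> simp)
    have h2 := hx (if b / 2 ^ j = 1 then W j else 1) (by split_ifs <;> simp)
    simp only [elt]
    exact hmul _ _ h2.1 (F.mul_mem h1.1 hE) h2.2 (hmul _ _ h1.1 hE h1.2 (elt_fourth j (by omega) _ _ c))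

theorem els_fourth {f : ℕ} (hf' : f < S.n) : els S ce X W zs f ^ 4 = 1 := by
  have hz := H.zs_mem _ (S.idx_parts hf').2.2.1
  exact pow_four hf (hf.le hz) (elt_mem H.gens _ le_rfl _ _ _) (Z.pow_mem hz 2) (H.squares _ (elt_mem H.gens _ le_rfl _ _ _))
    (H.zs_fourth _ (S.idx_parts hf').2.2.1) (H.elt_fourth _ le_rfl _ _ _)

theorem elt_coset {a b a' b' : ℕ} {c c' : Fin 4} (ha : a < 2 ^ S.k) (hb : b < 2 ^ S.k) (ha' : a' < 2 ^ S.k)
    (hb' : b' < 2 ^ S.k) {z z' : A} (hz : z ∈ Z) (hz' : z' ∈ Z)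
    (h : z * elt ce X W S.k a b c = z' * elt ce X W S.k a' b' c') : a = a' ∧ b = b' ∧ c = c' := by
  classical
  haveI := hf.base.normal
  haveI : Finite (F ⧸ Z.subgroupOf F) := inferInstance
  let ψ : Fin (2 ^ S.k) × Fin (2 ^ S.k) × Fin 4 → F ⧸ Z.subgroupOf F := fun t =>
    QuotientGroup.mk ⟨elt ce X W S.k t.1 t.2.1 t.2.2, elt_mem H.gens _ le_rfl _ _ _⟩
  have hsurj : Function.Surjective ψ := fun Q => by
    obtain ⟨y, rfl⟩ := QuotientGroup.mk_surjective Q
    obtain ⟨w, hw, a, ha, b, hb, c, e⟩ := H.cover y y.2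
    refine ⟨(⟨a, ha⟩, ⟨b, hb⟩, c), QuotientGroup.eq.mpr ?_⟩
    show (elt ce X W S.k a b c)⁻¹ * (y : A) ∈ Z
    rw [e, ← (comm_eq_one_iff (elt ce X W S.k a b c) w).mp (hf.central_left (hf.cent (elt_mem H.gens _ le_rfl _ _ _)) hw)]
    rw [← mul_assoc, inv_mul_cancel, one_mul]
    exact hw
  have hcard : Nat.card (F ⧸ Z.subgroupOf F) = Nat.card (Fin (2 ^ S.k) × Fin (2 ^ S.k) × Fin 4) := by
    rw [← Subgroup.index_eq_card]
    show Z.relIndex F = _
    rw [H.index, Nat.card_prod, Nat.card_prod, Nat.card_fin, Nat.card_fin, pow_succ, S.four_pow]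
    ring
  have hbij := hsurj.bijective_of_nat_card_le hcard.ge
  have := @hbij.1 (⟨a, ha⟩, ⟨b, hb⟩, c) (⟨a', ha'⟩, ⟨b', hb'⟩, c') (QuotientGroup.eq.mpr (by
    show (elt ce X W S.k a b c)⁻¹ * elt ce X W S.k a' b' c' ∈ Z
    have e : (elt ce X W S.k a b c)⁻¹ * (z'⁻¹ * z) * elt ce X W S.k a b c =
        (elt ce X W S.k a b c)⁻¹ * elt ce X W S.k a' b' c' := by
      rw [mul_assoc, mul_assoc, h]; group
    rw [← e]
    simpa using hf.base.normal.conj_mem _ (Z.mul_mem (Z.inv_mem hz') hz) (elt ce X W S.k a b c)⁻¹))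
  simpa [Prod.ext_iff, Fin.ext_iff] using this

theorem els_injective {f g : ℕ} (hf' : f < S.n) (hg : g < S.n) (h : els S ce X W zs f = els S ce X W zs g) : f = g := by
  obtain ⟨h1, h2, h3, h4⟩ := S.idx_parts hf'
  obtain ⟨g1, g2, g3, g4⟩ := S.idx_parts hg
  obtain ⟨ea, eb, ec⟩ := H.elt_coset h1 h2 g1 g2 (H.zs_mem _ h3) (H.zs_mem _ g3) h
  have ec' : f % 4 = g % 4 := congrArg Fin.val ec
  have es : S.isc f = S.isc g := by
    refine H.zs_inj _ _ h3 g3 ?_
    unfold els at h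
    rw [ea, eb, ec] at h
    exact mul_right_cancel h
  rw [← h4, ← g4, ea, eb, ec', es]

theorem els_surj {y : A} (hy : y ∈ F) (h4 : y ^ 4 = 1) : ∃ f, f < S.n ∧ els S ce X W zs f = y := by
  obtain ⟨z, hz, a, ha, b, hb, c, e⟩ := H.cover y hy
  have hE := elt_mem H.gens _ le_rfl a b c
  have hz4 : z ^ 4 = 1 := by
    have hc : Commute z (elt ce X W S.k a b c) :=
      ((comm_eq_one_iff _ z).mp (hf.central_left (hf.cent hE) hz)).symm
    rw [e, hc.mul_pow, H.elt_fourth _ le_rfl, mul_one] at h4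
    exact h4
  obtain ⟨s, hs, es⟩ := H.roots z hz hz4
  obtain ⟨g1, g2, g3, g4, g5⟩ := S.idx_spec c.2 ha hb hs
  refine ⟨S.idx c a b s, g1, ?_⟩
  rw [e, els, g3, g4, g5, es]
  congr

/-- Conjugation permutes the numbered elements. -/
theorem exists_perm (a : A) :
    ∃ π : Equiv.Perm (Fin S.n), ∀ f : Fin S.n, els S ce X W zs (π f) = a * els S ce X W zs f * a⁻¹ := by
  classical
  have h : ∀ f : Fin S.n, ∃ g : Fin S.n, els S ce X W zs g = a * els S ce X W zs f * a⁻¹ := fun f => by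
    obtain ⟨g, hg, e⟩ := H.els_surj (hf.normal.conj_mem _ (H.els_mem f.2) a)
      (by rw [conj_pow, H.els_fourth f.2]; group)
    exact ⟨⟨g, hg⟩, e⟩
  choose π hπ using h
  have hinj : Function.Injective π := fun f g e => by
    have := congrArg (fun x : Fin S.n => els S ce X W zs x) e
    simp only [hπ, mul_left_inj, mul_right_inj] at this
    exact Fin.ext (H.els_injective f.2 g.2 this)
  exact ⟨Equiv.ofBijective π (Finite.injective_iff_bijective.mp hinj), hπ⟩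

theorem scalar_smul {s : ℕ} (hs : s < S.sc.length) (x : V) :
    letI := hf.base.field.toField
    zs s • x = (ν.dec (S.sc.getD s 0)).1 x := by
  letI := hf.base.field.toField
  rw [← H.zs_dec s hs]; rfl

theorem smul_els {f : ℕ} (hf' : f < S.n) (v : List ℕ) :
    els S ce X W zs f • vecJ hf S ν X b₀ b₁ v = vecJ hf S ν X b₀ b₁ (S.op f v) := by
  letI := hf.base.field.toField
  unfold els vecJ
  rw [mul_smul, elt_smul H.gens _ le_rfl, H.scalar_smul (S.idx_parts hf').2.2.1, Spec.op, H.ops,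
    decT_map_mul _ _ _ (Ops.opR_length _ _ _ _ _ _), decT_opR, coordJ_smul H.gens _ le_rfl]
  rfl

theorem vec_zero (n : ℕ) : vecJ hf S ν X b₀ b₁ (List.replicate n 0) = 0 := by
  letI := hf.base.field.toField
  unfold vecJ
  rw [decT_zero, coordJ_zero]

theorem vec_add (v w : List ℕ) :
    vecJ hf S ν X b₀ b₁ (S.o.vadd S.dim v w) = vecJ hf S ν X b₀ b₁ v + vecJ hf S ν X b₀ b₁ w := by
  letI := hf.base.field.toField
  unfold vecJ
  rw [H.ops, Spec.dim, decT_vadd, coordJ_add]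

theorem vec_neg {v : List ℕ} (h : v.length = S.dim) :
    vecJ hf S ν X b₀ b₁ (v.map S.o.neg) = -vecJ hf S ν X b₀ b₁ v := by
  letI := hf.base.field.toField
  unfold vecJ
  rw [H.ops, decT_neg ν _ _ h, coordJ_neg]

/-- The spanning vectors span every coordinate vector. -/
theorem targets_span :
    letI := hf.base.field.toField
    ∀ (v : Tree (Sc V Z) S.k),
      coordJ b₀ b₁ X S.k v ∈ AddSubgroup.closure (vecJ hf S ν X b₀ b₁ '' {t | t ∈ Spec.targets S.tsc S.k}) := by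
  letI := hf.base.field.toField
  suffices h : ∀ j (v : Tree (Sc V Z) j),
      v ∈ AddSubgroup.closure (decT ν j '' {t | t ∈ Spec.targets S.tsc j ∧ t.length = 2 ^ (j + 1)}) by
    intro v
    have hv := AddSubgroup.mem_map_of_mem
      (AddMonoidHom.mk' (coordJ b₀ b₁ X S.k) (coordJ_add S.k)) (h S.k v)
    rw [AddMonoidHom.map_closure, Set.image_image] at hv
    exact AddSubgroup.closure_mono (Set.image_mono fun t ht => ht.1) hv
  intro j
  induction j with
  | zero =>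
    intro v
    have hs := H.span
    let e₁ : Sc V Z →+ Tree (Sc V Z) 0 :=
      AddMonoidHom.mk' (fun r => ((r, 0) : Sc V Z × Sc V Z)) fun a b => by
        show ((a + b, 0) : Sc V Z × Sc V Z) = (a + b, 0 + 0); rw [add_zero]
    let e₂ : Sc V Z →+ Tree (Sc V Z) 0 :=
      AddMonoidHom.mk' (fun r => ((0, r) : Sc V Z × Sc V Z)) fun a b => by
        show ((0, a + b) : Sc V Z × Sc V Z) = (0 + 0, a + b); rw [add_zero]
    have hv : v = e₁ v.1 + e₂ v.2 := by
      show v = ((v.1 + 0, 0 + v.2) : Sc V Z × Sc V Z); rw [add_zero, zero_add]; rfl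
    rw [hv]
    refine add_mem ?_ ?_
    · have := AddSubgroup.mem_map_of_mem e₁ (hs v.1)
      rw [AddMonoidHom.map_closure, Set.image_image] at this
      refine AddSubgroup.closure_mono ?_ this
      rintro _ ⟨t, ht, rfl⟩
      refine ⟨[t, 0], ⟨List.mem_append_left _ (List.mem_map.mpr ⟨t, ht, rfl⟩), rfl⟩, ?_⟩
      show (ν.dec t, ν.dec 0) = (ν.dec t, 0)
      rw [ν.dec_zero]
    · have := AddSubgroup.mem_map_of_mem e₂ (hs v.2)
      rw [AddMonoidHom.map_closure, Set.image_image] at this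
      refine AddSubgroup.closure_mono ?_ this
      rintro _ ⟨t, ht, rfl⟩
      refine ⟨[0, t], ⟨List.mem_append_right _ (List.mem_map.mpr ⟨t, ht, rfl⟩), rfl⟩, ?_⟩
      show (ν.dec 0, ν.dec t) = (0, ν.dec t)
      rw [ν.dec_zero]
  | succ j ih =>
    intro v
    let e₁ : Tree (Sc V Z) j →+ Tree (Sc V Z) (j + 1) :=
      AddMonoidHom.mk' (fun r => ((r, 0) : Tree (Sc V Z) j × Tree (Sc V Z) j)) fun a b => by
        show ((a + b, 0) : Tree (Sc V Z) j × Tree (Sc V Z) j) = (a + b, 0 + 0); rw [add_zero]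
    let e₂ : Tree (Sc V Z) j →+ Tree (Sc V Z) (j + 1) :=
      AddMonoidHom.mk' (fun r => ((0, r) : Tree (Sc V Z) j × Tree (Sc V Z) j)) fun a b => by
        show ((0, a + b) : Tree (Sc V Z) j × Tree (Sc V Z) j) = (0 + 0, a + b); rw [add_zero]
    have hv : v = e₁ v.1 + e₂ v.2 := by
      show v = ((v.1 + 0, 0 + v.2) : Tree (Sc V Z) j × Tree (Sc V Z) j); rw [add_zero, zero_add]; rfl
    rw [hv]
    have hz : decT ν j (List.replicate (2 ^ (j + 1)) 0) = 0 := decT_zero ν j _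
    refine add_mem ?_ ?_
    · have := AddSubgroup.mem_map_of_mem e₁ (ih v.1)
      rw [AddMonoidHom.map_closure, Set.image_image] at this
      refine AddSubgroup.closure_mono ?_ this
      rintro _ ⟨t, ⟨ht, hl⟩, rfl⟩
      refine ⟨t ++ List.replicate (2 ^ (j + 1)) 0, ⟨List.mem_append_left _ (List.mem_map.mpr ⟨t, ht, rfl⟩), by
        simp [hl, pow_succ]; omega⟩, ?_⟩
      rw [decT_append ν hl, hz]; rfl
    · have := AddSubgroup.mem_map_of_mem e₂ (ih v.2)
      rw [AddMonoidHom.map_closure, Set.image_image] at this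
      refine AddSubgroup.closure_mono ?_ this
      rintro _ ⟨t, ⟨ht, hl⟩, rfl⟩
      refine ⟨List.replicate (2 ^ (j + 1)) 0 ++ t, ⟨List.mem_append_right _ (List.mem_map.mpr ⟨t, ht, rfl⟩), by
        simp [hl, pow_succ]; omega⟩, ?_⟩
      rw [decT_append ν (List.length_replicate), hz]; rfl

/-- An element of the section fixing all coordinate vectors is trivial. -/
theorem faithful {y : A} (hy : y ∈ F)
    (h : letI := hf.base.field.toField; ∀ v : Tree (Sc V Z) S.k, y • coordJ b₀ b₁ X S.k v = coordJ b₀ b₁ X S.k v) :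
    y = 1 := by
  letI := hf.base.field.toField
  obtain ⟨w, hw⟩ : ∃ w : Tree (Sc V Z) S.k, coordJ b₀ b₁ X S.k w ≠ 0 := by
    haveI : Nontrivial (Tree (Sc V Z) S.k) := by
      have : ∀ j, Nontrivial (Tree (Sc V Z) j) := by
        intro j
        induction j with
        | zero => exact inferInstanceAs (Nontrivial (Sc V Z × Sc V Z))
        | succ j ih => exact ⟨⟨((exists_ne (0 : Tree (Sc V Z) j)).choose, 0), 0, fun e =>
            (exists_ne (0 : Tree (Sc V Z) j)).choose_spec (congrArg Prod.fst e)⟩⟩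
      exact this _
    obtain ⟨w, hw⟩ := exists_ne (0 : Tree (Sc V Z) S.k)
    exact ⟨w, fun e => hw (coordJ_injective H.gens H.two _ le_rfl (e.trans (coordJ_zero _).symm))⟩
  have hy1 : ∀ x ∈ F, ⁅y, x⁆ = 1 := by
    intro x hx
    refine by_contra fun hne => hw (hf.base.fx_center (hf.comm y hy x hx) hne ?_)
    obtain ⟨z, hz, a, ha, b, hb, c, e⟩ := H.cover x⁻¹ (F.inv_mem hx)
    rw [commutatorElement_def, mul_smul, mul_smul, mul_smul]
    have hinv : ∀ v, y⁻¹ • coordJ b₀ b₁ X S.k v = coordJ b₀ b₁ X S.k v := fun v => by rw [inv_smul_eq_iff, h]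
    have hxi : ∃ v' : Tree (Sc V Z) S.k, x⁻¹ • coordJ b₀ b₁ X S.k w = coordJ b₀ b₁ X S.k v' := by
      refine ⟨smulT ⟨rho z, rho_mem hz⟩ S.k (opW S.k a b (decMs ν S.mats c) w), ?_⟩
      rw [e, mul_smul, elt_smul H.gens _ le_rfl, coordJ_smul H.gens _ le_rfl]
      rfl
    obtain ⟨v', hv'⟩ := hxi
    rw [hv', hinv v', ← hv', smul_inv_smul, h]
  have hyZ := hf.centre_F hy hy1
  exact by_contra fun hne => hw (hf.base.fx_center hyZ hne (h w))

/-- An element fixing all coordinate vectors is trivial. -/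
theorem eq_one {a : A}
    (h : letI := hf.base.field.toField; ∀ v : Tree (Sc V Z) S.k, a • coordJ b₀ b₁ X S.k v = coordJ b₀ b₁ X S.k v) :
    a = 1 := by
  letI := hf.base.field.toField
  have hin : ∀ y ∈ F, ∀ v : Tree (Sc V Z) S.k, ∃ v' : Tree (Sc V Z) S.k, y • coordJ b₀ b₁ X S.k v = coordJ b₀ b₁ X S.k v' := by
    intro y hy v
    obtain ⟨z, hz, i, hi, j, hj, c, e⟩ := H.cover y hy
    refine ⟨smulT ⟨rho z, rho_mem hz⟩ S.k (opW S.k i j (decMs ν S.mats c) v), ?_⟩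
    rw [e, mul_smul, elt_smul H.gens _ le_rfl, coordJ_smul H.gens _ le_rfl]
    rfl
  have hc : ∀ y ∈ F, a * y = y * a := by
    intro y hy
    have h1 : y⁻¹ * (a * y * a⁻¹) = 1 := by
      refine H.faithful (F.mul_mem (F.inv_mem hy) (hf.normal.conj_mem y hy a)) fun v => ?_
      have ha' : a⁻¹ • coordJ b₀ b₁ X S.k v = coordJ b₀ b₁ X S.k v := by rw [inv_smul_eq_iff, h]
      obtain ⟨v', hv'⟩ := hin y hy v
      rw [mul_smul, mul_smul, mul_smul, ha', hv', h, ← hv', inv_smul_smul]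
    have h2 : a * y * a⁻¹ = y := (inv_mul_eq_one.mp h1).symm
    calc a * y = a * y * a⁻¹ * a := by group
      _ = y * a := by rw [h2]
  have haC : a ∈ centralizer (Z : Set A) := Subgroup.mem_centralizer_iff.mpr fun z hz => (hc z (hf.le hz)).symm
  have haZ : a ∈ Z := hf.centre a haC fun y hy => (comm_eq_one_iff a y).mpr (hc y hy)
  exact H.faithful (hf.le haZ) h

end Fits

end CfsgLib.BaseTwo
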