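import Cfsg.Agent.Lib.BaseTwo.Model

/-!
An element fixing the two chosen vectors moves the tensor forms by a permutation up to scalars.
-/

set_option autoImplicit false

namespace CfsgLib.BaseTwo

open Subgroup CfsgLib.OddBase CfsgLib.BaseThree

universe u

variable {A V : Type u} [Group A] [Finite A] [AddCommGroup V] [Finite V] [DistribMulAction A V]
  {Z F L₀ : Subgroup A} {hf : Frame A V Z F L₀} {S : Spec} {ν : @Num (Sc V Z) hf.base.field.toField}
  {ce : Fin 4 → A} {X W zs : ℕ → A} {b₀ b₁ : V}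

theorem dot_foldr {K : Type u} [Field K] {ν : Num K} {n : ℕ} (v : List ℕ) : ∀ l : List (List ℕ),
    (∀ r ∈ l, r.length = n) →
    (l.foldr (ν.ops.vadd n) (List.replicate n 0)).length = n ∧
      ν.dec (ν.ops.dot (l.foldr (ν.ops.vadd n) (List.replicate n 0)) v) = (l.map fun r => ν.dec (ν.ops.dot r v)).sum
  | [], _ => ⟨List.length_replicate, by simpa using dot_zero_row n v⟩
  | r :: l, h => by
    obtain ⟨h1, h2⟩ := dot_foldr (ν := ν) v l fun s hs => h s (List.mem_cons_of_mem r hs)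
    refine ⟨vadd_length _ _ _ _, ?_⟩
    rw [List.foldr_cons, dot_vadd n r _ v (h r List.mem_cons_self) h1, h2]
    simp

theorem dot_lt {K : Type u} [Field K] {ν : Num K} (hν : NumOk ν) : ∀ r v : List ℕ, ν.ops.dot r v < ν.q
  | [], v => by simp only [Ops.dot]; exact lt_trans Nat.zero_lt_one hν.one_lt
  | a :: r, [] => by simp only [Ops.dot]; exact lt_trans Nat.zero_lt_one hν.one_lt
  | a :: r, b :: v => hν.add_lt _ _

/-- A map of trees induced by an element. -/
def Move (hf : Frame A V Z F L₀) (S : Spec) (X : ℕ → A) (b₀ b₁ : V) (a : A)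
    (T : Tree (Sc V Z) S.k → Tree (Sc V Z) S.k) : Prop :=
  ∀ v, a • coordJ b₀ b₁ X S.k v = coordJ b₀ b₁ X S.k (T v)

namespace Fits

variable (H : Fits hf S ν ce X W zs b₀ b₁)

include H

/-- The steps stay inside every invariant subgroup. -/
theorem grow_mem {P : AddSubgroup V} (hP : ∀ f, f < S.n → ∀ v ∈ P, els S ce X W zs f • v ∈ P) (cols : List ℕ) :
    ∀ (ss : List (ℕ × ℕ)) (L : List (List ℕ)), (∀ w ∈ L, vecJ hf S ν X b₀ b₁ w ∈ P) →
      ∀ w ∈ S.cert.grow cols L ss, vecJ hf S ν X b₀ b₁ w ∈ P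
  | [], L, h => h
  | s :: ss, L, h => by
    refine grow_mem hP cols ss (S.cert.step cols L s) fun w hw => ?_
    rcases List.mem_append.mp hw with hw | hw
    · exact h w hw
    rw [List.mem_singleton] at hw
    subst hw
    have hget : vecJ hf S ν X b₀ b₁ (L.getD s.2 S.cert.zero) ∈ P := by
      by_cases hi : s.2 < L.length
      · rw [List.getD_eq_getElem _ _ hi]; exact h _ (List.getElem_mem hi)
      · rw [List.getD_eq_default _ _ (by omega)]
        show vecJ hf S ν X b₀ b₁ (List.replicate _ 0) ∈ P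
        rw [H.vec_zero]; exact P.zero_mem
    generalize hl : S.cert.cls cols s.1 = l
    have hlt : ∀ f ∈ l, f < S.n := fun f hf' => by
      rw [← hl, CertData.cls, List.mem_map] at hf'
      obtain ⟨q, hq, rfl⟩ := hf'
      exact List.mem_range.mp (List.of_mem_zip (List.mem_of_mem_filter hq)).2
    clear hl
    induction l with
    | nil =>
      show vecJ hf S ν X b₀ b₁ (List.replicate _ 0) ∈ P
      rw [H.vec_zero]; exact P.zero_mem
    | cons f l ih =>
      show vecJ hf S ν X b₀ b₁ (S.o.vadd S.dim (S.op f _) _) ∈ P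
      rw [H.vec_add, ← H.smul_els (hlt f List.mem_cons_self)]
      exact add_mem (hP f (hlt f List.mem_cons_self) _ hget) (ih fun g hg => hlt g (List.mem_cons_of_mem f hg))

theorem comb_mem {P : AddSubgroup V} : ∀ (c : List ℕ) (L : List (List ℕ)),
    (∀ w ∈ L, vecJ hf S ν X b₀ b₁ w ∈ P) → vecJ hf S ν X b₀ b₁ (S.cert.comb c L) ∈ P
  | [], L, h => by
    show vecJ hf S ν X b₀ b₁ (List.replicate _ 0) ∈ P
    rw [H.vec_zero]; exact P.zero_mem
  | c :: cs, [], h => by
    show vecJ hf S ν X b₀ b₁ (List.replicate _ 0) ∈ P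
    rw [H.vec_zero]; exact P.zero_mem
  | c :: cs, w :: L, h => by
    show vecJ hf S ν X b₀ b₁ (S.o.vadd S.dim ((S.o.vadd S.dim w)^[c] S.cert.zero) (S.cert.comb cs L)) ∈ P
    rw [H.vec_add]
    refine add_mem ?_ (comb_mem cs L fun x hx => h x (List.mem_cons_of_mem w hx))
    induction c with
    | zero =>
      show vecJ hf S ν X b₀ b₁ (List.replicate _ 0) ∈ P
      rw [H.vec_zero]; exact P.zero_mem
    | succ c ih =>
      rw [Function.iterate_succ', Function.comp_apply, H.vec_add]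
      exact add_mem (h w List.mem_cons_self) ih

/-- An element fixing the chosen vectors keeps the coordinate space. -/
theorem exists_move {cols : List ℕ} (hp : S.Plain cols) {a : A}
    (hx : a • vecJ hf S ν X b₀ b₁ S.x = vecJ hf S ν X b₀ b₁ S.x)
    (hy : a • vecJ hf S ν X b₀ b₁ S.y = vecJ hf S ν X b₀ b₁ S.y) : ∃ T, Move hf S X b₀ b₁ a T := by
  letI := hf.base.field.toField
  obtain ⟨ss, cs, hb⟩ := hp
  obtain ⟨π, hπ⟩ := H.exists_perm a
  let U : AddSubgroup V := (AddMonoidHom.mk' (coordJ b₀ b₁ X S.k) (coordJ_add (Z := Z) S.k)).range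
  let P : AddSubgroup V := U ⊓ U.comap (DistribMulAction.toAddMonoidHom V a)
  have hU : ∀ f, f < S.n → ∀ v ∈ U, els S ce X W zs f • v ∈ U := by
    rintro f hf' _ ⟨t, rfl⟩
    refine ⟨smulT (ν.dec (S.sc.getD (S.isc f) 0)) S.k
      (opW S.k (S.ia f) (S.ib f) (decMs ν S.mats ⟨f % 4, Nat.mod_lt _ (by norm_num)⟩) t), ?_⟩
    show coordJ b₀ b₁ X S.k _ = els S ce X W zs f • coordJ b₀ b₁ X S.k t
    unfold els
    rw [mul_smul, elt_smul H.gens _ le_rfl, H.scalar_smul (S.idx_parts hf').2.2.1, coordJ_smul H.gens _ le_rfl]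
  have hP : ∀ f, f < S.n → ∀ v ∈ P, els S ce X W zs f • v ∈ P := by
    intro f hf' v hv
    refine ⟨hU f hf' v hv.1, ?_⟩
    show a • els S ce X W zs f • v ∈ U
    rw [show a • els S ce X W zs f • v = els S ce X W zs (π ⟨f, hf'⟩) • a • v by
      rw [hπ, ← mul_smul, ← mul_smul]; congr 1; group]
    exact hU _ (π ⟨f, hf'⟩).2 _ hv.2
  have hxy : ∀ w ∈ [S.x, S.y], vecJ hf S ν X b₀ b₁ w ∈ P := by
    intro w hw
    simp only [List.mem_cons, List.not_mem_nil, or_false] at hw
    rcases hw with rfl | rfl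
    · exact ⟨⟨_, rfl⟩, show a • _ ∈ U by rw [hx]; exact ⟨_, rfl⟩⟩
    · exact ⟨⟨_, rfl⟩, show a • _ ∈ U by rw [hy]; exact ⟨_, rfl⟩⟩
  have hT : ∀ t ∈ Spec.targets S.tsc S.k, vecJ hf S ν X b₀ b₁ t ∈ P := by
    intro t ht
    simp only [Spec.plainB, CertData.reaches, beq_iff_eq] at hb
    rw [← hb, List.mem_map] at ht
    obtain ⟨c, -, rfl⟩ := ht
    exact H.comb_mem c _ (H.grow_mem hP cols ss _ hxy)
  have hall : ∀ v, coordJ b₀ b₁ X S.k v ∈ P := fun v =>
    (AddSubgroup.closure_le P).mpr (by rintro _ ⟨t, ht, rfl⟩; exact hT t ht) (H.targets_span v)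
  have hall' : ∀ v, ∃ w, coordJ b₀ b₁ X S.k w = a • coordJ b₀ b₁ X S.k v := fun v => by
    obtain ⟨w, hw⟩ := (hall v).2
    exact ⟨w, hw⟩
  choose T hT' using hall'
  exact ⟨T, fun v => (hT' v).symm⟩

variable {a : A} {T : Tree (Sc V Z) S.k → Tree (Sc V Z) S.k} (hT : Move hf S X b₀ b₁ a T)

include hT

theorem move_add (v w : Tree (Sc V Z) S.k) : T (v + w) = T v + T w :=
  coordJ_injective H.gens H.two _ le_rfl (by rw [← hT, coordJ_add, coordJ_add, smul_add, hT, hT])

theorem move_bijective : Function.Bijective T := by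
  letI := hf.base.field.toField
  haveI : Finite (Tree (Sc V Z) S.k) := Finite.of_injective _ (coordJ_injective H.gens H.two S.k le_rfl)
  refine Finite.injective_iff_bijective.mp fun v w e => coordJ_injective H.gens H.two _ le_rfl ?_
  exact smul_left_cancel a (by rw [hT, hT, e])

theorem move_smul (r : Sc V Z) (v : Tree (Sc V Z) S.k) :
    letI := hf.base.field.toField
    T (smulT r S.k v) = smulT (scalarAut hf.base a r) S.k (T v) := by
  letI := hf.base.field.toField
  refine coordJ_injective H.gens H.two _ le_rfl ?_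
  rw [← hT, coordJ_smul H.gens _ le_rfl, coordJ_smul H.gens _ le_rfl, smul_scalar hf.base a r, hT]

theorem move_fixed {v : List ℕ} (h : a • vecJ hf S ν X b₀ b₁ v = vecJ hf S ν X b₀ b₁ v) :
    letI := hf.base.field.toField
    T (decT ν S.k v) = decT ν S.k v := by
  letI := hf.base.field.toField
  refine coordJ_injective H.gens H.two _ le_rfl ?_
  rw [← hT]
  exact h

theorem move_op {π : Equiv.Perm (Fin S.n)} (hπ : ∀ f : Fin S.n, els S ce X W zs (π f) = a * els S ce X W zs f * a⁻¹)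
    {v : List ℕ} (h : a • vecJ hf S ν X b₀ b₁ v = vecJ hf S ν X b₀ b₁ v) (f : Fin S.n) :
    letI := hf.base.field.toField
    T (decT ν S.k (S.op f v)) = decT ν S.k (S.op (π f) v) := by
  letI := hf.base.field.toField
  refine coordJ_injective H.gens H.two _ le_rfl ?_
  rw [← hT]
  show a • vecJ hf S ν X b₀ b₁ (S.op f v) = vecJ hf S ν X b₀ b₁ (S.op (π f) v)
  rw [← H.smul_els f.2, ← H.smul_els (π f).2, hπ, mul_smul, mul_smul, show a⁻¹ • vecJ hf S ν X b₀ b₁ v =
    vecJ hf S ν X b₀ b₁ v by rw [inv_smul_eq_iff, h]]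

/-- Monomials move to multiples of monomials. -/
theorem move_opW (i j : ℕ) (c : Fin 4) :
    letI := hf.base.field.toField
    ∃ ρ : Sc V Z, ∃ i' j', ∃ c' : Fin 4, ∀ v,
      T (opW S.k i j (decMs ν S.mats c) v) = smulT ρ S.k (opW S.k i' j' (decMs ν S.mats c') (T v)) := by
  letI := hf.base.field.toField
  obtain ⟨z, hz, i', -, j', -, c', e⟩ := H.cover _ (hf.normal.conj_mem _ (elt_mem H.gens _ le_rfl i j c) a)
  refine ⟨⟨rho z, rho_mem hz⟩, i', j', c', fun v => coordJ_injective H.gens H.two _ le_rfl ?_⟩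
  rw [← hT, ← elt_smul H.gens _ le_rfl, coordJ_smul H.gens _ le_rfl, ← elt_smul H.gens _ le_rfl, ← hT]
  show a • elt ce X W S.k i j c • coordJ b₀ b₁ X S.k v = z • elt ce X W S.k i' j' c' • a • coordJ b₀ b₁ X S.k v
  rw [← mul_smul, ← mul_smul, ← mul_smul, ← e]
  congr 1
  group

omit hT in
theorem semi_leaf (c d : Fin 4) :
    letI := hf.base.field.toField
    ∃ χ, ∀ v w : Tree (Sc V Z) 0, formW 0 0 0 (decMs ν S.forms c) (opW 0 0 0 (decMs ν S.mats d) v)
      (opW 0 0 0 (decMs ν S.mats d) w) = χ * formW 0 0 0 (decMs ν S.forms c) v w := by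
  letI := hf.base.field.toField
  have h := H.family
  simp only [Ops.familyB, Bool.and_eq_true] at h
  exact semiAll_spec h.1.1.2 c d

/-- A transported form is a multiple of a form. -/
theorem transport_form (i j : ℕ) (c : Fin 4) :
    letI := hf.base.field.toField
    ∃ i', i' < 2 ^ S.k ∧ ∃ j', j' < 2 ^ S.k ∧ ∃ (c' : Fin 4) (r : Sc V Z), ∀ v w,
      (scalarAut hf.base a).symm (formW S.k i j (decMs ν S.forms c) (T v) (T w)) =
        r * formW S.k i' j' (decMs ν S.forms c') v w := by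
  letI := hf.base.field.toField
  set σ := scalarAut hf.base a
  have hfam := H.family
  simp only [Ops.familyB, Bool.and_eq_true] at hfam
  have h0 := decMs_zero (ν := ν) H.family
  have hgen : ∀ p q (d : Fin 4), ∃ χ, ∀ v w,
      σ.symm (formW S.k i j (decMs ν S.forms c) (T (opW S.k p q (decMs ν S.mats d) v))
        (T (opW S.k p q (decMs ν S.mats d) w))) =
      χ * σ.symm (formW S.k i j (decMs ν S.forms c) (T v) (T w)) := by
    intro p q d
    obtain ⟨ρ, p', q', d', h⟩ := H.move_opW hT p q d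
    obtain ⟨χ₀, hχ₀⟩ := H.semi_leaf c d'
    obtain ⟨ε, -, hε⟩ := formW_semi hχ₀ S.k i j p' q'
    refine ⟨σ.symm (ρ * ρ * (ε * χ₀)), fun v w => ?_⟩
    rw [h, h, formW_smul, hε, ← map_mul]
    ring_nf
  refine exists_form H.two (leafUnique_of_check H.ok hfam.1.1.1) S.k _ ⟨?_, ?_, ?_⟩ ⟨hgen 0 0 1, hgen 0 0 2, ?_⟩
  · intro v v' w
    rw [H.move_add hT, formW_add_left, map_add]
  · intro v w w'
    rw [H.move_add hT, formW_add_right, map_add]
  · intro r s v w
    rw [H.move_smul hT, H.move_smul hT, formW_smul, map_mul, map_mul, RingEquiv.symm_apply_apply, RingEquiv.symm_apply_apply]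
  · intro t _
    obtain ⟨χ, hχ⟩ := hgen (2 ^ t) 0 0
    obtain ⟨χ', hχ'⟩ := hgen 0 (2 ^ t) 0
    exact ⟨⟨χ, fun v w => by rw [← h0, ← h0]; exact hχ v w⟩, χ', fun v w => by rw [← h0, ← h0]; exact hχ' v w⟩

omit hT in
theorem forms_injective :
    letI := hf.base.field.toField
    ∀ (i j : ℕ) (c : Fin 4) (i' j' : ℕ) (c' : Fin 4) (r : Sc V Z), i < 2 ^ S.k → j < 2 ^ S.k → i' < 2 ^ S.k →
      j' < 2 ^ S.k → (∀ v w, formW S.k i j (decMs ν S.forms c) v w = r * formW S.k i' j' (decMs ν S.forms c') v w) →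
      i = i' ∧ j = j' ∧ c = c' := by
  letI := hf.base.field.toField
  have hfam := H.family
  simp only [Ops.familyB, Bool.and_eq_true] at hfam
  obtain ⟨h1, h2⟩ := distinct_spec H.ok hfam.1.2
  exact form_injective H.two h1 h2 S.k

omit hT in
theorem forms_ne_zero :
    letI := hf.base.field.toField
    ∀ (i j : ℕ) (c : Fin 4), i < 2 ^ S.k → j < 2 ^ S.k → ∃ v w, formW S.k i j (decMs ν S.forms c) v w ≠ 0 := by
  letI := hf.base.field.toField
  intro i j c hi hj
  by_contra h
  push Not at h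
  have hd : ∀ c : Fin 4, c ≠ c + 1 := by decide
  exact hd c (H.forms_injective i j c i j (c + 1) 0 hi hj hi hj fun v w => by rw [h, zero_mul]).2.2

end Fits

end CfsgLib.BaseTwo
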