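import Cfsg.Agent.Lib.BaseTwo.Action
import Cfsg.Agent.Lib.MinSimpleOdd.Basic

/-!
Three conjugates of a Hall subgroup of a group with a series of prime power and complementary factors.
-/

set_option autoImplicit false

namespace CfsgLib.BaseTwo

open Subgroup
open scoped Pointwise

universe u

/-- Series whose factors are prime powers inside the set or prime to the set. -/
def PiSeries (π : Set ℕ) (G : Type u) [Group G] : Prop :=
  ∃ (n : ℕ) (N : Fin (n + 1) → Subgroup G), N 0 = ⊥ ∧ N (Fin.last n) = ⊤ ∧ Monotone N ∧ (∀ i, (N i).Normal) ∧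
    ∀ i : Fin n, (∃ p ∈ π, p.Prime ∧ ∃ k : ℕ, (N i.castSucc).relIndex (N i.succ) = p ^ k) ∨
      (∀ q : ℕ, q.Prime → q ∣ (N i.castSucc).relIndex (N i.succ) → q ∉ π)

variable {G : Type u} [Group G] [Finite G] {π : Set ℕ}

theorem relIndex_map_dvd {G' : Type u} [Group G'] (f : G →* G') (H K : Subgroup G) [H.Normal] :
    (H.map f).relIndex (K.map f) ∣ H.relIndex K := by
  rw [← Subgroup.relIndex_comap]
  exact Subgroup.relIndex_dvd_of_le_left K (Subgroup.le_comap_map f H)

/-- The series passes to quotients. -/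
theorem PiSeries.map {G' : Type u} [Group G'] (h : PiSeries π G) (f : G →* G') (hf : Function.Surjective f) :
    PiSeries π G' := by
  obtain ⟨n, N, h0, hl, hmono, hn, hfac⟩ := h
  refine ⟨n, fun i => (N i).map f, by simp [h0], by simp [hl, Subgroup.map_top_of_surjective f hf],
    fun i j hij => Subgroup.map_mono (hmono hij), fun i => (hn i).map f hf, fun i => ?_⟩
  haveI := hn i.castSucc
  have hd := relIndex_map_dvd f (N i.castSucc) (N i.succ)
  rcases hfac i with ⟨p, hpπ, hp, k, hk⟩ | h
  · obtain ⟨j, -, hj⟩ := (Nat.dvd_prime_pow hp).mp (hk ▸ hd)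
    exact Or.inl ⟨p, hpπ, hp, j, hj⟩
  · exact Or.inr fun q hq hqd => h q hq (hqd.trans hd)

/-- A subgroup with primes in the set is solvable. -/
theorem solvable_of_series (h : PiSeries π G) (H : Subgroup G) (hH : ∀ q : ℕ, q.Prime → q ∣ Nat.card H → q ∈ π) :
    Group.IsSolvable H := by
  obtain ⟨n, N, h0, hl, hmono, hn, hfac⟩ := h
  have key : ∀ i : Fin (n + 1), Group.IsSolvable (H ⊓ N i : Subgroup G) := by
    intro i
    induction i using Fin.induction with
    | zero =>
      rw [h0, inf_bot_eq]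
      infer_instance
    | succ i ih =>
      haveI := hn i.castSucc
      let f : (H ⊓ N i.succ : Subgroup G) →* G ⧸ N i.castSucc := (QuotientGroup.mk' _).comp (Subgroup.subtype _)
      have hle : f.ker.map (Subgroup.subtype _) ≤ H ⊓ N i.castSucc := by
        rintro _ ⟨x, hx, rfl⟩
        exact ⟨x.2.1, (QuotientGroup.eq_one_iff _).mp hx⟩
      haveI := ih
      haveI : Group.IsSolvable f.ker := Group.isSolvable_of_isSolvable_injective
        (f := (Subgroup.inclusion hle).comp (f.ker.equivMapOfInjective _ (Subgroup.subtype_injective _)).toMonoidHom)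
        ((Subgroup.inclusion_injective hle).comp (f.ker.equivMapOfInjective _ (Subgroup.subtype_injective _)).injective)
      have hrH : Nat.card f.range ∣ Nat.card H :=
        (Subgroup.card_range_dvd f).trans (Subgroup.card_dvd_of_le inf_le_left)
      have hrN : Nat.card f.range ∣ (N i.castSucc).relIndex (N i.succ) := by
        have h1 : f.range ≤ (N i.succ).map (QuotientGroup.mk' (N i.castSucc)) := by
          rintro _ ⟨x, rfl⟩
          exact ⟨x, x.2.2, rfl⟩
        refine (Subgroup.card_dvd_of_le h1).trans (dvd_of_eq ?_)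
        rw [← Subgroup.relIndex_bot_left, ← Subgroup.relIndex_comap, MonoidHom.comap_bot, QuotientGroup.ker_mk']
      haveI : Group.IsSolvable f.range := by
        rcases hfac i with ⟨p, -, hp, k, hk⟩ | h
        · haveI : Fact p.Prime := ⟨hp⟩
          obtain ⟨j, -, hj⟩ := (Nat.dvd_prime_pow hp).mp (hk ▸ hrN)
          haveI := (IsPGroup.of_card hj : IsPGroup p f.range).isNilpotent
          infer_instance
        · have h1 : Nat.card f.range = 1 := Nat.eq_one_iff_not_exists_prime_dvd.mpr fun q hq hd =>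
            h q hq (hd.trans hrN) (hH q hq (hd.trans hrH))
          rw [Subgroup.card_eq_one.mp h1]
          infer_instance
      exact Group.isSolvable_of_ker_le_range f.ker.subtype f.rangeRestrict (by
        rw [MonoidHom.ker_rangeRestrict, Subgroup.range_subtype])
  have := key (Fin.last n)
  rwa [hl, inf_top_eq] at this

/-- The complementary core contains its centralizer when the core is trivial. -/
theorem centralizer_core_le (h : PiSeries π G) (hO : Cfsg.piCore π G = ⊥) :
    centralizer (Cfsg.piCore {q | q ∉ π} G : Set G) ≤ Cfsg.piCore {q | q ∉ π} G := by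
  obtain ⟨n, N, h0, hl, hmono, hn, hfac⟩ := h
  set O := Cfsg.piCore {q | q ∉ π} G with hO'
  set C := centralizer (O : Set G) with hC
  haveI hCn : C.Normal := inferInstance
  have hOp : ∀ q : ℕ, q.Prime → q ∣ Nat.card O → q ∉ π := CfsgLib.MinSimpleOdd.card_piCore {q | q ∉ π}
  suffices key : ∀ i : Fin (n + 1), C ⊓ N i ≤ O by
    have := key (Fin.last n)
    rwa [hl, inf_top_eq] at this
  intro i
  induction i using Fin.induction with
  | zero => rw [h0, inf_bot_eq]; exact bot_le
  | succ i ih =>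
    haveI := hn i.castSucc
    haveI := hn i.succ
    set M := C ⊓ N i.succ with hM
    set M₀ := C ⊓ N i.castSucc with hM₀
    have hle : M₀ ≤ M := inf_le_inf_left _ (hmono (Fin.castSucc_le_succ i))
    have hd : M₀.relIndex M ∣ (N i.castSucc).relIndex (N i.succ) := by
      have e : M₀.relIndex M = (N i.castSucc).relIndex M := by
        rw [← Subgroup.inf_relIndex_right (N i.castSucc) M, hM₀, hM]
        congr 1
        rw [inf_comm (N i.castSucc), inf_assoc, inf_eq_right.mpr (hmono (Fin.castSucc_le_succ i))]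
      rw [e]
      have hcard : ∀ K : Subgroup G, (N i.castSucc).relIndex K = Nat.card (K.map (QuotientGroup.mk' (N i.castSucc))) :=
        fun K => by rw [← Subgroup.relIndex_bot_left, ← Subgroup.relIndex_comap, MonoidHom.comap_bot, QuotientGroup.ker_mk']
      rw [hcard, hcard]
      exact Subgroup.card_dvd_of_le (Subgroup.map_mono inf_le_right)
    have hM₀p : ∀ q : ℕ, q.Prime → q ∣ Nat.card M₀ → q ∉ π := fun q hq hd' =>
      hOp q hq (hd'.trans (Subgroup.card_dvd_of_le ih))
    have hmul := CfsgLib.card_mul_relIndex hle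
    rcases hfac i with ⟨p, hpπ, hp, k, hk⟩ | hq
    · haveI : Fact p.Prime := ⟨hp⟩
      obtain ⟨j, -, hj⟩ := (Nat.dvd_prime_pow hp).mp (hk ▸ hd)
      obtain ⟨P⟩ : Nonempty (Sylow p M) := inferInstance
      set P₀ := (P : Subgroup M).map M.subtype with hP₀
      have hcen : ∀ a ∈ M₀, ∀ b ∈ M, a * b = b * a := fun a ha b hb =>
        Subgroup.mem_centralizer_iff.mp hb.1 a (ih ha)
      have hP0card : Nat.card (P : Subgroup M) = p ^ j := by
        have h1 := (Sylow.card_eq_multiplicity P)
        rw [h1, ← hmul, hj, Nat.factorization_mul Nat.card_pos.ne' (pow_ne_zero _ hp.ne_zero), Finsupp.add_apply,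
          Nat.factorization_eq_zero_of_not_dvd fun h => hM₀p p hp h hpπ, hp.factorization_pow, Finsupp.single_eq_same,
          zero_add]
      have hcopMP : (Nat.card (M₀.subgroupOf M)).Coprime (Nat.card (P : Subgroup M)) := by
        rw [Nat.card_congr (Subgroup.subgroupOfEquivOfLe hle).toEquiv, hP0card]
        exact ((hp.coprime_iff_not_dvd.mpr fun h => hM₀p p hp h hpπ).symm).pow_right j
      have hcompl : Subgroup.IsComplement' (M₀.subgroupOf M) (P : Subgroup M) := by
        refine Subgroup.isComplement'_of_coprime ?_ hcopMP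
        rw [Nat.card_congr (Subgroup.subgroupOfEquivOfLe hle).toEquiv, hP0card, ← hj]
        exact hmul
      haveI hPn : (P : Subgroup M).Normal := ⟨fun x hx g => by
        obtain ⟨⟨⟨m, hm⟩, ⟨y, hy⟩⟩, rfl⟩ := hcompl.2 g
        have hc : ∀ z : M, m * z = z * m := fun z => Subtype.ext (hcen m hm z z.2)
        show (m * y) * x * (m * y)⁻¹ ∈ (P : Subgroup M)
        rw [show m * y * x * (m * y)⁻¹ = m * (y * x * y⁻¹) * m⁻¹ by group, hc, mul_inv_cancel_right]
        exact (P : Subgroup M).mul_mem ((P : Subgroup M).mul_mem hy hx) ((P : Subgroup M).inv_mem hy)⟩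
      haveI : (P : Subgroup M).Characteristic := P.characteristic_of_normal hPn
      haveI : M.Normal := inferInstance
      haveI hP₀n : P₀.Normal := ConjAct.normal_of_characteristic_of_normal
      have hP₀bot : P₀ = ⊥ := eq_bot_iff.mpr (hO ▸ le_sSup ⟨hP₀n, fun q hq' hd' => by
        rw [hP₀, Subgroup.card_map_of_injective M.subtype_injective, hP0card] at hd'
        exact (Nat.prime_dvd_prime_iff_eq hq' hp).mp (hq'.dvd_of_dvd_pow hd') ▸ hpπ⟩)
      intro x hx
      obtain ⟨⟨⟨m, hm⟩, ⟨y, hy⟩⟩, hxy⟩ := hcompl.2 ⟨x, hx⟩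
      have hy1 : (y : G) = 1 := by
        have : (y : G) ∈ P₀ := ⟨y, hy, rfl⟩
        rwa [hP₀bot, Subgroup.mem_bot] at this
      have e := congrArg Subtype.val hxy
      simp only [Subgroup.coe_mul, hy1, mul_one] at e
      exact e ▸ ih hm
    · refine le_sSup ⟨inferInstance, fun q hq' hd' => ?_⟩
      rw [← hmul] at hd'
      rcases hq'.dvd_mul.mp hd' with h | h
      · exact hM₀p q hq' h
      · exact hq q hq' (h.trans hd)

/-- The trivial core case: two points of the complementary core. -/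
theorem three_conj_of_trivial (h : PiSeries π G) (hO : Cfsg.piCore π G = ⊥) (H : Subgroup G)
    (hH : ∀ q : ℕ, q.Prime → q ∣ Nat.card H → q ∈ π) :
    ∃ x y : G, H ⊓ MulAut.conj x • H ⊓ MulAut.conj y • H = ⊥ := by
  classical
  set O := Cfsg.piCore {q | q ∉ π} G with hO'
  haveI : O.Normal := Cfsg.piCore_normal _ G
  letI : MulDistribMulAction H O := MulDistribMulAction.compHom O
    ((MulAut.conjNormal : G →* MulAut O).comp H.subtype)
  have hcoe : ∀ (a : H) (z : O), ((a • z : O) : G) = (a : G) * z * (a : G)⁻¹ := fun a z => rfl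
  have hcop : (Nat.card H).Coprime (Nat.card O) := Nat.coprime_of_dvd fun q hq h1 h2 =>
    CfsgLib.MinSimpleOdd.card_piCore {q | q ∉ π} q hq h2 (hH q hq h1)
  have hdis : ∀ g : G, g ∈ H → g ∈ O → g = 1 := fun g h1 h2 =>
    Subgroup.disjoint_def.mp (Subgroup.disjoint_of_coprime_natCard hcop) h1 h2
  haveI : FaithfulSMul H O := ⟨fun {a b} e => by
    have hc : ((b⁻¹ * a : H) : G) ∈ centralizer (O : Set G) := Subgroup.mem_centralizer_iff.mpr fun z hz => by
      have : (b⁻¹ * a) • (⟨z, hz⟩ : O) = ⟨z, hz⟩ := by rw [mul_smul, e, inv_smul_smul]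
      have := congrArg Subtype.val this
      rw [hcoe] at this
      exact (mul_inv_eq_iff_eq_mul.mp this).symm
    exact (inv_mul_eq_one.mp (Subtype.ext (hdis _ (b⁻¹ * a).2 (centralizer_core_le h hO hc)))).symm⟩
  obtain ⟨x, y, hxy⟩ := coprime_pair (A := H) (K := O) (solvable_of_series h H hH) hcop
  refine ⟨x, y, eq_bot_iff.mpr fun g hg => ?_⟩
  obtain ⟨⟨hgH, hgx⟩, hgy⟩ := hg
  have key : ∀ z : O, g ∈ MulAut.conj (z : G) • H → (⟨g, hgH⟩ : H) • z = z := fun z hz => by
    rw [CfsgLib.mem_conj_smul_iff] at hz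
    have h1 : g⁻¹ * ((z : G)⁻¹ * g * z) ∈ H := H.mul_mem (H.inv_mem hgH) hz
    have h2 : g⁻¹ * ((z : G)⁻¹ * g * z) ∈ O := by
      rw [show g⁻¹ * ((z : G)⁻¹ * g * z) = g⁻¹ * (z : G)⁻¹ * g⁻¹⁻¹ * z by group]
      exact O.mul_mem ((inferInstance : O.Normal).conj_mem _ (O.inv_mem z.2) g⁻¹) z.2
    have h3 := hdis _ h1 h2
    refine Subtype.ext ?_
    rw [hcoe]
    show g * (z : G) * g⁻¹ = z
    rw [inv_mul_eq_one] at h3
    rw [mul_inv_eq_iff_eq_mul]
    calc g * (z : G) = (z : G) * ((z : G)⁻¹ * g * z) := by group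
      _ = (z : G) * g := by rw [← h3]
  exact Subgroup.mem_bot.mpr (congrArg Subtype.val (hxy ⟨g, hgH⟩ (key x hgx) (key y hgy)))

set_option maxHeartbeats 1000000 in
/-- Three conjugates of a Hall subgroup meet in the core. -/
theorem three_conj (h : PiSeries π G) (H : Subgroup G) (hH : Cfsg.IsPiHall π H) :
    ∃ x y : G, H ⊓ MulAut.conj x • H ⊓ MulAut.conj y • H = Cfsg.piCore π G := by
  classical
  obtain ⟨C, hC⟩ : ∃ C : Subgroup G, C = Cfsg.piCore π G := ⟨_, rfl⟩
  rw [← hC]
  haveI hCn : C.Normal := hC ▸ Cfsg.piCore_normal π G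
  have hCp : ∀ q : ℕ, q.Prime → q ∣ Nat.card C → q ∈ π := hC ▸ CfsgLib.MinSimpleOdd.card_piCore (X := G) π
  have hCH : C ≤ H := by
    have h1 : H.relIndex (C ⊔ H) ∣ Nat.card C := by
      refine Nat.dvd_of_mul_dvd_mul_left (Nat.card_pos (α := H)) ?_
      rw [CfsgLib.card_mul_relIndex le_sup_right, sup_comm]
      exact CfsgLib.card_sup_dvd_mul H C
    have h2 : H.relIndex (C ⊔ H) ∣ H.index := Dvd.intro _ (Subgroup.relIndex_mul_index le_sup_right)
    have h3 : H.relIndex (C ⊔ H) = 1 := Nat.eq_one_iff_not_exists_prime_dvd.mpr fun q hq hd =>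
      hH.2 q hq (hCp q hq (hd.trans h1)) (hd.trans h2)
    exact le_sup_left.trans (Subgroup.relIndex_eq_one.mp h3)
  set f := QuotientGroup.mk' C with hf
  have hsurj : Function.Surjective f := QuotientGroup.mk'_surjective C
  have hO : Cfsg.piCore π (G ⧸ C) = ⊥ := by
    set K := (Cfsg.piCore π (G ⧸ C)).comap f with hK
    have hle : K ≤ C := by
      rw [hC]
      refine le_sSup ⟨inferInstance, fun q hq hd => ?_⟩
      have h1 : C ≤ K := fun x hx => by
        show f x ∈ Cfsg.piCore π (G ⧸ C)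
        rw [hf, QuotientGroup.mk'_apply, (QuotientGroup.eq_one_iff x).mpr hx]
        exact one_mem _
      have h0 := Subgroup.relIndex_comap (⊥ : Subgroup (G ⧸ C)) f K
      rw [MonoidHom.comap_bot, hf, QuotientGroup.ker_mk', hK,
        Subgroup.map_comap_eq_self_of_surjective (QuotientGroup.mk'_surjective _), Subgroup.relIndex_bot_left] at h0
      rw [← CfsgLib.card_mul_relIndex h1, h0] at hd
      rcases hq.dvd_mul.mp hd with h' | h'
      · exact hCp q hq h'
      · exact CfsgLib.MinSimpleOdd.card_piCore π q hq h'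
    refine le_bot_iff.mp fun y hy => ?_
    obtain ⟨x, rfl⟩ := hsurj y
    exact Subgroup.mem_bot.mpr ((QuotientGroup.eq_one_iff x).mpr (hle hy))
  have hser : PiSeries π (G ⧸ C) := h.map f hsurj
  have hHf : ∀ q : ℕ, q.Prime → q ∣ Nat.card (H.map f : Subgroup (G ⧸ C)) → q ∈ π :=
    fun q hq hd => hH.1 q hq (hd.trans (Subgroup.card_map_dvd (H := H) f))
  obtain ⟨a, b, hab⟩ := three_conj_of_trivial (G := G ⧸ C) hser hO (H.map f) hHf
  obtain ⟨x, rfl⟩ := hsurj a
  obtain ⟨y, rfl⟩ := hsurj b
  refine ⟨x, y, le_antisymm (fun g hg => ?_) ?_⟩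
  · obtain ⟨⟨h1, h2⟩, h3⟩ := hg
    have key : ∀ z : G, g ∈ MulAut.conj z • H → f g ∈ MulAut.conj (f z) • H.map f := fun z hz => by
      rw [CfsgLib.mem_conj_smul_iff] at hz ⊢
      exact ⟨_, hz, by simp⟩
    have hmem : f g ∈ H.map f ⊓ MulAut.conj (f x) • H.map f ⊓ MulAut.conj (f y) • H.map f :=
      ⟨⟨Subgroup.mem_map_of_mem f h1, key x h2⟩, key y h3⟩
    rw [hab, Subgroup.mem_bot] at hmem
    exact (QuotientGroup.eq_one_iff g).mp hmem
  · have key : ∀ z : G, C ≤ MulAut.conj z • H := fun z c hc => by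
      rw [CfsgLib.mem_conj_smul_iff]
      have := (inferInstance : C.Normal).conj_mem c hc z⁻¹
      rw [inv_inv] at this
      exact hCH this
    exact le_inf (le_inf hCH (key x)) (key y)

end CfsgLib.BaseTwo
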