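import Cfsg.Agent.Lib.BaseTwo.Solve

/-!
The certificates over the field of three elements.
-/

set_option autoImplicit false

namespace CfsgLib.BaseTwo

open Subgroup CfsgLib.OddBase CfsgLib.BaseThree

universe u

theorem Spec.idx_succ (S : Spec) (c a b s : ℕ) : S.idx c a b s = S.idx c a b 0 + 4 * 4 ^ S.k * s := by
  rw [Spec.idx, Spec.idx, Spec.four_pow]; ring

theorem forall₂_map_eq {α β γ : Type*} {R : α → β → Prop} {g₁ : α → γ} {g₂ : β → γ} : ∀ {l₁ : List α} {l₂ : List β},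
    List.Forall₂ R l₁ l₂ → l₁.map g₁ = l₂.map g₂ → List.Forall₂ (fun a b => R a b ∧ g₁ a = g₂ b) l₁ l₂
  | _, _, .nil, _ => .nil
  | _, _, .cons h t, e => by
    simp only [List.map_cons, List.cons.injEq] at e
    exact .cons ⟨h, e.1⟩ (forall₂_map_eq t e.2)

variable {A V : Type u} [Group A] [Finite A] [AddCommGroup V] [Finite V] [DistribMulAction A V]
  {Z F L₀ : Subgroup A} {hf : Frame A V Z F L₀} {S : Spec} {ν : @Num (Sc V Z) hf.base.field.toField}
  {ce : Fin 4 → A} {X W zs : ℕ → A} {b₀ b₁ : V}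

namespace Fits

variable (H : Fits hf S ν ce X W zs b₀ b₁)

include H

theorem auto_id (h3 : Three hf S ν) (σ : Sc V Z ≃+* Sc V Z) (r : Sc V Z) : σ r = r := by
  letI := hf.base.field.toField
  obtain ⟨n, hn, rfl⟩ := H.ok.surj r
  rcases H.auto σ with h | h
  · exact h n (H.size ▸ hn)
  · rw [h n (H.size ▸ hn), h3.cj_id]

/-- The sign with which the first form is moved. -/
theorem sign_cases (h3 : Three hf S ν) (hfirst : S.firstRowB = true) {a : A}
    {T : Tree (Sc V Z) S.k → Tree (Sc V Z) S.k} (hT : Move hf S X b₀ b₁ a T) :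
    letI := hf.base.field.toField
    ∃ r : Sc V Z, (r = 1 ∨ r = -1) ∧ ∀ u w, formW S.k 0 0 (decMs ν S.forms 0) (T u) (T w) =
      r * formW S.k 0 0 (decMs ν S.forms 0) u w := by
  letI := hf.base.field.toField
  obtain ⟨r, hr, h⟩ := H.first_move hT hfirst h3.exact' h3.sq (fun x => H.auto_id h3 _ x)
  exact ⟨r, mul_self_eq_one_iff.mp hr, h⟩

/-- When the form is kept, conjugation keeps the colours. -/
theorem colour_of_kept (hfirst : S.firstRowB = true) {a : A} {T : Tree (Sc V Z) S.k → Tree (Sc V Z) S.k}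
    (hT : Move hf S X b₀ b₁ a T)
    (hx : a • vecJ hf S ν X b₀ b₁ S.x = vecJ hf S ν X b₀ b₁ S.x)
    (hy : a • vecJ hf S ν X b₀ b₁ S.y = vecJ hf S ν X b₀ b₁ S.y)
    (hB : letI := hf.base.field.toField; ∀ u w, formW S.k 0 0 (decMs ν S.forms 0) (T u) (T w) =
      formW S.k 0 0 (decMs ν S.forms 0) u w)
    {π : Equiv.Perm (Fin S.n)} (hπ : ∀ f : Fin S.n, els S ce X W zs (π f) = a * els S ce X W zs f * a⁻¹) :
    ∀ f : Fin S.n, S.colour (π f) = S.colour f := by
  letI := hf.base.field.toField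
  exact H.neg_colour hT hfirst hx hy (r := 1) (ζ := 1) (fun x => one_smul A x) (one_mul 1)
    (fun u w => by rw [one_mul]; exact hB u w) (fun f => by rw [one_mul]; exact hπ f)

/-- An element of the section keeps the first form. -/
theorem kept_of_mem (h3 : Three hf S ν) {a : A} (ha : a ∈ F) {T : Tree (Sc V Z) S.k → Tree (Sc V Z) S.k}
    (hT : Move hf S X b₀ b₁ a T) :
    letI := hf.base.field.toField
    ∀ u w, formW S.k 0 0 (decMs ν S.forms 0) (T u) (T w) = formW S.k 0 0 (decMs ν S.forms 0) u w := by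
  letI := hf.base.field.toField
  obtain ⟨z, hz, i, -, j, -, d, e⟩ := H.cover a ha
  have hTv : ∀ v, T v = smulT ⟨rho z, rho_mem hz⟩ S.k (opW S.k i j (decMs ν S.mats d) v) := fun v => by
    refine coordJ_injective H.gens H.two _ le_rfl ?_
    rw [← hT, coordJ_smul H.gens _ le_rfl, ← elt_smul H.gens _ le_rfl, e, mul_smul]
    rfl
  have hne : (⟨rho z, rho_mem hz⟩ : Sc V Z) ≠ 0 := by
    intro e0
    obtain ⟨v, w, hvw⟩ := H.forms_ne_zero 0 0 0 (pow_pos two_pos _) (pow_pos two_pos _)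
    obtain ⟨v', rfl⟩ := (H.move_bijective hT).2 v
    obtain ⟨w', rfl⟩ := (H.move_bijective hT).2 w
    exact hvw (by rw [hTv, hTv, e0, formW_smul, zero_mul, zero_mul])
  intro u w
  rw [hTv, hTv, formW_smul, h3.sq _ hne, one_mul]
  refine first_exact (fun v w => ?_) S.k i j u w
  have hex := h3.exact'
  simp only [Spec.exactB, List.all_eq_true, List.mem_range, beq_iff_eq] at hex
  have := hex d.1 d.2
  rw [H.ops] at this
  show formW 0 0 0 (decM ν (S.forms.getD 0 [])) (opW 0 0 0 (decM ν (S.mats.getD d.1 [])) v)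
    (opW 0 0 0 (decM ν (S.mats.getD d.1 [])) w) = _
  rw [← congrM_formW, this, scaleM_formW, ν.dec_one, one_mul]
  rfl

/-- A table from the signed chain. -/
theorem maps_of_signed {a ζ : A} (hζ : ∀ x : V, ζ • x = -x) {π : Equiv.Perm (Fin S.n)}
    (hπ : ∀ f : Fin S.n, els S ce X W zs (π f) = ζ * (a * els S ce X W zs f * a⁻¹))
    (hx : a • vecJ hf S ν X b₀ b₁ S.x = vecJ hf S ν X b₀ b₁ S.x)
    (hy : a • vecJ hf S ν X b₀ b₁ S.y = vecJ hf S ν X b₀ b₁ S.y) {colour : ℕ → ℕ} {cols : List ℕ}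
    (htab : (List.range S.cert.n).map colour = cols) (hinv : ∀ f : Fin S.n, colour (π f) = colour f)
    {ss : List (ℕ × ℕ)} {cs E : List (List ℕ)} (hs : S.signedB cols ss cs E = true) : H.Maps a E := by
  simp only [Spec.signedB, Bool.and_eq_true, beq_iff_eq, List.all_eq_true] at hs
  obtain ⟨⟨h1, h2⟩, h3⟩ := hs
  unfold Maps
  rw [← h1, ← h2, List.forall₂_map_left_iff, List.forall₂_map_right_iff, List.forall₂_same]
  intro c hc
  obtain ⟨e1, e2⟩ := H.reach2_fixed hζ hπ hx hy htab hinv ss c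
  rw [H.vec_add, H.vec_add, H.vec_neg (h3 c hc), smul_add, e1, e2]

/-- Data with a contradiction to the change of sign give a pair. -/
theorem pair_real (h3 : Three hf S ν) (h : S.GoodReal) : ∀ a : A,
    a • vecJ hf S ν X b₀ b₁ S.x = vecJ hf S ν X b₀ b₁ S.x →
    a • vecJ hf S ν X b₀ b₁ S.y = vecJ hf S ν X b₀ b₁ S.y → a = 1 := by
  letI := hf.base.field.toField
  obtain ⟨hfirst, cols, htab, hp, ss, c, hc⟩ := h
  intro a hx hy
  obtain ⟨T, hT⟩ := H.exists_move hp hx hy
  obtain ⟨π, hπ⟩ := H.exists_perm a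
  obtain ⟨r, hr, hB⟩ := H.sign_cases h3 hfirst hT
  rcases hr with rfl | rfl
  · exact H.fix_of_plain hπ hx hy htab (H.colour_of_kept hfirst hT hx hy (fun u w => by rw [hB, one_mul]) hπ) hp
  · exfalso
    obtain ⟨s, hs, hneg⟩ := h3.neg
    obtain ⟨π', hπ'⟩ := H.exists_perm_neg (h3.cent a) hs hneg
    have hζ := H.zneg_smul hs hneg
    have hinv := H.neg_colour hT hfirst hx hy (r := -1) (ζ := zs s) (fun x => hζ x)
      (by rw [neg_mul_neg, one_mul]) hB hπ'
    obtain ⟨e1, e2⟩ := H.reach2_fixed hζ hπ' hx hy htab hinv ss c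
    simp only [Spec.contraB, Bool.and_eq_true, beq_iff_eq, List.all_eq_true, decide_eq_true_eq, bne_iff_ne] at hc
    obtain ⟨⟨⟨c1, c2⟩, c3⟩, c4⟩ := hc
    set v := S.cert2.comb c (S.reach2 cols ss) with hv
    rw [c1, H.vec_neg c2, smul_neg, e1, neg_neg] at e2
    have h0 : vecJ hf S ν X b₀ b₁ (v.take S.dim) = 0 := by
      refine hf.base.eq_zero (1 + 1 : Sc V Z).2 (fun e => H.two ?_) ?_
      · rw [← one_add_one_eq_two]; exact Subtype.ext e
      · show vecJ hf S ν X b₀ b₁ (v.take S.dim) + vecJ hf S ν X b₀ b₁ (v.take S.dim) = 0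
        nth_rewrite 1 [← e2]
        exact neg_add_cancel _
    have hd : decT ν S.k (v.take S.dim) = 0 :=
      coordJ_injective H.gens H.two _ le_rfl (h0.trans (coordJ_zero _).symm)
    refine c4 (List.eq_replicate_iff.mpr ⟨c2, fun z hz => ?_⟩)
    exact H.num_eq (c3 z hz) (lt_of_le_of_lt (Nat.zero_le _) (c3 z hz))
      ((decT_eq_zero S.k _ c2 hd z hz).trans ν.dec_zero.symm)

theorem els_pow {a ζ : A} (hζa : Commute ζ a) {π : Equiv.Perm (Fin S.n)}
    (hπ : ∀ f : Fin S.n, els S ce X W zs (π f) = ζ * (a * els S ce X W zs f * a⁻¹)) :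
    ∀ (n : ℕ) (f : Fin S.n), els S ce X W zs ((π ^ n) f) = ζ ^ n * (a ^ n * els S ce X W zs f * (a ^ n)⁻¹)
  | 0, f => by simp
  | n + 1, f => by
    rw [pow_succ', Equiv.Perm.mul_apply, hπ, els_pow hζa hπ n f]
    have e : a * ζ ^ n = ζ ^ n * a := (hζa.pow_left n).eq.symm
    calc ζ * (a * (ζ ^ n * (a ^ n * els S ce X W zs f * (a ^ n)⁻¹)) * a⁻¹)
        = ζ * ((a * ζ ^ n) * (a ^ n * els S ce X W zs f * (a ^ n)⁻¹) * a⁻¹) := by group
      _ = ζ * ((ζ ^ n * a) * (a ^ n * els S ce X W zs f * (a ^ n)⁻¹) * a⁻¹) := by rw [e]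
      _ = _ := by rw [pow_succ' ζ, pow_succ' a]; group

/-- A class of three has a fixed member. -/
theorem exists_pivot (h3 : Three hf S ν) {a ζ : A} (hζa : Commute ζ a) (hζ : ζ ^ 2 = 1) {π : Equiv.Perm (Fin S.n)}
    (hπ : ∀ f : Fin S.n, els S ce X W zs (π f) = ζ * (a * els S ce X W zs f * a⁻¹))
    {cols : List ℕ} (htab : S.Table cols) (hinv : ∀ f : Fin S.n, S.colour (π f) = S.colour f) {key : ℕ}
    (hkey : (S.cert.cls cols key).length = 3) :
    ∃ f : Fin S.n, f.1 ∈ S.cert.cls cols key ∧ π f = f := by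
  classical
  have hcls : S.cert.cls cols key = (((List.finRange S.n).filter fun f : Fin S.n => S.colour f == key).map Fin.val) := by
    show ((cols.zip (List.range S.n)).filter fun q => q.1 == key).map Prod.snd = _
    rw [← show (List.range S.n).map S.colour = cols from htab, ← List.map_coe_finRange_eq_range, List.map_map]
    generalize List.finRange S.n = l
    induction l with
    | nil => rfl
    | cons x l ih =>
      simp only [List.map_cons, List.zip_cons_cons, List.filter_cons, Function.comp_apply]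
      simp only [Function.comp_def] at ih ⊢
      by_cases h : S.colour x == key <;> simp [h, ih]
  have hord : π ^ (2 * orderOf a) = 1 := by
    refine Equiv.ext fun f => Fin.ext (H.els_injective ((π ^ _) f).2 f.2 ?_)
    rw [H.els_pow hζa hπ, pow_mul, hζ, one_pow, show a ^ (2 * orderOf a) = 1 by
      rw [mul_comm, pow_mul, pow_orderOf_eq_one, one_pow]]
    simp
  have hnd : ¬ 3 ∣ 2 * orderOf a :=
    coprime_three_of_mul fun e => h3.order (e.trans (orderOf_dvd_natCard a))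
  obtain ⟨f, hf', hfix⟩ := exists_fixed_of_three π hord hnd (Finset.univ.filter fun f : Fin S.n => S.colour f = key)
    (by
      rw [hcls, List.length_map] at hkey
      rw [← hkey, ← List.toFinset_card_of_nodup ((List.nodup_finRange _).filter _)]
      congr 1
      ext f
      simp)
    (fun f hf' => by simp only [Finset.mem_filter, Finset.mem_univ, true_and] at hf' ⊢; rw [hinv, hf'])
  refine ⟨f, ?_, hfix⟩
  rw [hcls]
  simp only [Finset.mem_filter, Finset.mem_univ, true_and] at hf'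
  exact List.mem_map.mpr ⟨f, List.mem_filter.mpr ⟨List.mem_finRange f, by simp [hf']⟩, rfl⟩

omit H in
theorem recoloured {π : Equiv.Perm (Fin S.n)} (hinv : ∀ f : Fin S.n, S.colour (π f) = S.colour f) {f₀ : Fin S.n}
    (h0 : π f₀ = f₀) (key : ℕ) (g : Fin S.n) :
    (if ((π g : Fin S.n) : ℕ) = f₀ then key else S.colour (π g)) = (if (g : ℕ) = f₀ then key else S.colour g) := by
  have : ((π g : Fin S.n) : ℕ) = f₀ ↔ (g : ℕ) = f₀ :=
    ⟨fun e => congrArg Fin.val (π.injective ((Fin.ext e).trans h0.symm)), fun e => by rw [Fin.ext e, h0]⟩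
  by_cases h : (g : ℕ) = f₀
  · rw [if_pos (this.mpr h), if_pos h]
  · rw [if_neg (mt this.mp h), if_neg h, hinv]

/-- An element with a transvection table lies in the section. -/
theorem mem_of_trans (h3 : Three hf S ν) {a : A} {E : List (List ℕ)} (hM : H.Maps a E) {c : ℕ} {mv : List (ℕ × Bool)}
    (ht : S.transB E c mv = true) : a ∈ F := by
  classical
  haveI := hf.base.normal
  haveI := hf.normal
  simp only [Spec.transB, Spec.stableB, Bool.and_eq_true, decide_eq_true_eq, List.all_eq_true, List.mem_range,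
    beq_iff_eq, List.mem_map, forall_exists_index, and_imp, forall_apply_eq_imp_iff₂] at ht
  obtain ⟨⟨-, hc⟩, hall⟩ := ht
  obtain ⟨s₀, hs₀, -⟩ := h3.neg
  have hN : 4 * 4 ^ S.k ≤ S.n := Nat.le_mul_of_pos_right _ (by omega)
  let yc : Bool → A := fun b => bif b then els S ce X W zs c else 1
  have hyc : ∀ b, yc b ∈ F := fun b => by cases b <;> [exact one_mem F; exact H.els_mem (lt_of_lt_of_le hc hN)]
  have hconj : ∀ f, f < 4 * 4 ^ S.k → ∀ p, mv.getD f (0, false) = p →
      a * els S ce X W zs f * a⁻¹ = els S ce X W zs p.1 * yc p.2 := by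
    intro f hf' p hp
    obtain ⟨⟨⟨hp1, -⟩, hst⟩, heq⟩ := hall f hf'
    rw [hp] at hp1 heq
    have hfn : f < S.n := lt_of_lt_of_le hf' hN
    simp only [Spec.compT, List.map_map] at heq
    have hpair := forall₂_map_eq hM heq
    suffices key : ∀ t ∈ Spec.targets S.tsc S.k, (els S ce X W zs p.1 * yc p.2)⁻¹ • a • els S ce X W zs f •
        vecJ hf S ν X b₀ b₁ t = a • vecJ hf S ν X b₀ b₁ t by
      have h1 : a⁻¹ * ((els S ce X W zs p.1 * yc p.2)⁻¹ * a * els S ce X W zs f) = 1 := by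
        refine H.fix_of_targets fun t ht => ?_
        rw [mul_smul, mul_smul, mul_smul, key t ht, inv_smul_smul]
      have h2 : (els S ce X W zs p.1 * yc p.2)⁻¹ * a * els S ce X W zs f = a := (inv_mul_eq_one.mp h1).symm
      calc a * els S ce X W zs f * a⁻¹ =
          els S ce X W zs p.1 * yc p.2 * ((els S ce X W zs p.1 * yc p.2)⁻¹ * a * els S ce X W zs f) * a⁻¹ := by group
        _ = _ := by rw [h2]; group
    intro t ht
    obtain ⟨i, hi, rfl⟩ := List.getElem_of_mem ht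
    have hlen := hpair.length_eq
    obtain ⟨hte, hop⟩ := (List.forall₂_iff_get.mp hpair).2 i hi (hlen ▸ hi)
    simp only [List.get_eq_getElem, Function.comp_apply] at hte hop
    rw [H.smul_els hfn, H.maps_apply hM (hst _ (List.getElem_mem hi)), hop, inv_smul_eq_iff, hte, mul_smul]
    rcases hb : p.2 with _ | _
    · simp only [yc, hb, cond_false, one_smul]
      rw [H.smul_els hp1]
    · simp only [yc, hb, cond_true]
      rw [H.smul_els (lt_of_lt_of_le hc hN), H.smul_els hp1]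
  have hzs : ∀ p, ∀ hp : p < S.n, ∀ (y : A) (hy : y ∈ F) (z : A), z ∈ Z → ∀ i j (d : Fin 4), i < 2 ^ S.k → j < 2 ^ S.k →
      y = z * elt ce X W S.k i j d → p % (4 * 4 ^ S.k) = S.idx d i j 0 →
      cl (Z := Z) (⟨els S ce X W zs p, H.els_mem hp⟩ : F) = cl ⟨y, hy⟩ := by
    intro p hp y hy z hz i j d hi hj ey hmod
    obtain ⟨g1, g2, g3, g4⟩ := S.idx_parts hp
    have hlt : ∀ c' i' j', c' < 4 → i' < 2 ^ S.k → j' < 2 ^ S.k → S.idx c' i' j' 0 < 4 * 4 ^ S.k := by
      intro c' i' j' h1 h2 h3'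
      rw [Spec.idx, Spec.four_pow]
      have : i' + 2 ^ S.k * (j' + 2 ^ S.k * 0) < 2 ^ S.k * 2 ^ S.k := by nlinarith
      nlinarith
    have hfe : S.idx (p % 4) (S.ia p) (S.ib p) 0 = S.idx d i j 0 := by
      rw [← hmod]
      conv_rhs => rw [← g4, Spec.idx_succ, Nat.add_mul_mod_self_left,
        Nat.mod_eq_of_lt (hlt _ _ _ (Nat.mod_lt _ (by norm_num)) g1 g2)]
    have h0 : 0 < S.sc.length := by omega
    obtain ⟨-, a1, a2, a3, -⟩ := S.idx_spec (Nat.mod_lt p (by norm_num)) g1 g2 h0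
    obtain ⟨-, b1, b2, b3, -⟩ := S.idx_spec d.2 hi hj h0
    rw [hfe] at a1 a2 a3
    have ei : S.ia p = i := a2.symm.trans b2
    have ej : S.ib p = j := a3.symm.trans b3
    have ed : (⟨p % 4, Nat.mod_lt _ (by norm_num)⟩ : Fin 4) = d := Fin.ext (a1.symm.trans b1)
    refine QuotientGroup.eq.mpr ?_
    show (els S ce X W zs p)⁻¹ * y ∈ Z
    rw [els, ei, ej, ed, ey]
    have hc' := Z.mul_mem (Z.inv_mem (H.zs_mem _ g3)) hz
    have := hf.base.normal.conj_mem _ hc' (elt ce X W S.k i j d)⁻¹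
    simpa [mul_assoc] using this
  refine phi_ker_cent hf (h3.cent a) (no_transvection hf H.squares h3.order h3.cent
    (c := ⟨els S ce X W zs c, H.els_mem (lt_of_lt_of_le hc hN)⟩) fun y => ?_)
  obtain ⟨z, hz, i, hi, j, hj, d, ey⟩ := H.cover y y.2
  have hfN : S.idx d i j 0 < 4 * 4 ^ S.k := by
    rw [Spec.idx, Spec.four_pow]
    have : i + 2 ^ S.k * (j + 2 ^ S.k * 0) < 2 ^ S.k * 2 ^ S.k := by nlinarith
    nlinarith [d.2]
  obtain ⟨⟨⟨hp1, hp2⟩, -⟩, -⟩ := hall _ hfN
  have hfn := lt_of_lt_of_le hfN hN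
  have e1 := hzs _ hfn y y.2 z hz i j d hi hj ey (Nat.mod_eq_of_lt hfN)
  have e2 := hzs _ hp1 y y.2 z hz i j d hi hj ey hp2
  have himg : phi Z F a (cl y) = cl (Z := Z) (⟨els S ce X W zs (mv.getD (S.idx d i j 0) (0, false)).1, H.els_mem hp1⟩ : F) *
      cl ⟨yc (mv.getD (S.idx d i j 0) (0, false)).2, hyc _⟩ := by
    rw [← e1, cl, phi_mk, cl, cl, ← QuotientGroup.mk_mul]
    exact congrArg QuotientGroup.mk (Subtype.ext (hconj _ hfN _ rfl))
  rw [himg, e2]
  rcases (mv.getD (S.idx d i j 0) (0, false)).2 with _ | _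
  · exact Or.inl (by rw [show cl (Z := Z) (⟨yc false, hyc _⟩ : F) = 1 from rfl, mul_one])
  · exact Or.inr rfl

/-- Data through a class of three give a pair. -/
theorem pair_pivot (h3 : Three hf S ν) (h : S.GoodPivot) : ∀ a : A,
    a • vecJ hf S ν X b₀ b₁ S.x = vecJ hf S ν X b₀ b₁ S.x →
    a • vecJ hf S ν X b₀ b₁ S.y = vecJ hf S ν X b₀ b₁ S.y → a = 1 := by
  letI := hf.base.field.toField
  obtain ⟨hfirst, cols, htab, key, hkey, hmem⟩ := h
  intro a hx hy
  obtain ⟨f₁, hf₁⟩ : ∃ f, f ∈ S.cert.cls cols key := List.exists_mem_of_length_pos (by omega)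
  obtain ⟨T, hT⟩ := H.exists_move (hmem f₁ hf₁).1 hx hy
  obtain ⟨π, hπ⟩ := H.exists_perm a
  have hB1 : ∀ u w, formW S.k 0 0 (decMs ν S.forms 0) (T u) (T w) = formW S.k 0 0 (decMs ν S.forms 0) u w := by
    obtain ⟨r, hr, hB⟩ := H.sign_cases h3 hfirst hT
    rcases hr with rfl | rfl
    · exact fun u w => by rw [hB, one_mul]
    obtain ⟨s, hs, hneg⟩ := h3.neg
    obtain ⟨π', hπ'⟩ := H.exists_perm_neg (h3.cent a) hs hneg
    have hζ := H.zneg_smul hs hneg
    have hinv := H.neg_colour hT hfirst hx hy (r := -1) (ζ := zs s) (fun x => hζ x) (by rw [neg_mul_neg, one_mul]) hB hπ'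
    have hzC : Commute (zs s) a := ((comm_eq_one_iff _ _).mp (hf.central_left (h3.cent a) (H.zs_mem s hs))).symm
    have hz2 : zs s ^ 2 = 1 := by
      haveI := hf.base.faith
      refine eq_of_smul_eq_smul fun x : V => ?_
      rw [pow_two, mul_smul, hζ, hζ, neg_neg, one_smul]
    obtain ⟨f₀, hf₀, hfix⟩ := H.exists_pivot h3 hzC hz2 hπ' htab hinv hkey
    obtain ⟨-, ss, cs, E, c, mv, hs', ht⟩ := hmem f₀ hf₀
    have hM := H.maps_of_signed hζ hπ' hx hy
      (colour := fun g => if g = f₀.1 then S.q ^ 4 else S.colour g)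
      (by rw [table_set]; exact congrArg (fun l : List ℕ => l.set f₀.1 (S.q ^ 4)) htab)
      (recoloured hinv hfix _) hs'
    exact H.kept_of_mem h3 (H.mem_of_trans h3 hM ht) hT
  have hinv := H.colour_of_kept hfirst hT hx hy hB1 hπ
  obtain ⟨f₀, hf₀, hfix⟩ := H.exists_pivot h3 (Commute.one_left a) (one_pow 2)
    (fun f => by rw [one_mul]; exact hπ f) htab hinv hkey
  exact H.fix_of_plain hπ hx hy (colour := fun g => if g = f₀.1 then S.q ^ 4 else S.colour g)
    (by rw [table_set]; exact congrArg (fun l : List ℕ => l.set f₀.1 (S.q ^ 4)) htab)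
    (recoloured hinv hfix _) (hmem f₀ hf₀).1

/-- In a two-pair datum a bad element carries the signed table. -/
theorem bad_maps (h3 : Three hf S ν) (hfirst : S.firstRowB = true) {cols : List ℕ} (htab : S.Table cols)
    (hp : S.Plain cols) {ss : List (ℕ × ℕ)} {cs E : List (List ℕ)} (hs' : S.signedB cols ss cs E = true) {a : A}
    (hne : a ≠ 1) (hx : a • vecJ hf S ν X b₀ b₁ S.x = vecJ hf S ν X b₀ b₁ S.x)
    (hy : a • vecJ hf S ν X b₀ b₁ S.y = vecJ hf S ν X b₀ b₁ S.y) : H.Maps a E := by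
  letI := hf.base.field.toField
  obtain ⟨T, hT⟩ := H.exists_move hp hx hy
  obtain ⟨π, hπ⟩ := H.exists_perm a
  obtain ⟨r, hr, hB⟩ := H.sign_cases h3 hfirst hT
  rcases hr with rfl | rfl
  · exact absurd (H.fix_of_plain hπ hx hy htab
      (H.colour_of_kept hfirst hT hx hy (fun u w => by rw [hB, one_mul]) hπ) hp) hne
  obtain ⟨s, hs, hneg⟩ := h3.neg
  obtain ⟨π', hπ'⟩ := H.exists_perm_neg (h3.cent a) hs hneg
  have hζ := H.zneg_smul hs hneg
  exact H.maps_of_signed hζ hπ' hx hy htab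
    (H.neg_colour hT hfirst hx hy (r := -1) (ζ := zs s) (fun x => hζ x) (by rw [neg_mul_neg, one_mul]) hB hπ') hs'

/-- Two pairs cannot both fail. -/
theorem pair_two (h3 : Three hf S ν) {x y rx ry : List ℕ} (h : S.GoodTwo x y rx ry) :
    ∃ v w : V, ∀ a : A, a • v = v → a • w = w → a = 1 := by
  letI := hf.base.field.toField
  obtain ⟨hf1, hf2, cols, cols', ht, ht', hp, hp', ss, cs, E, ss', cs', E', hs, hs', hord⟩ := h
  by_contra hno
  push Not at hno
  obtain ⟨a, ha1, ha2, hane⟩ := hno (vecJ hf S ν X b₀ b₁ S.x) (vecJ hf S ν X b₀ b₁ S.y)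
  obtain ⟨b, hb1, hb2, hbne⟩ := hno (vecJ hf S ν X b₀ b₁ x) (vecJ hf S ν X b₀ b₁ y)
  have h3' : Three hf (S.withPair x y rx ry) ν :=
    { exact' := h3.exact', cj_id := h3.cj_id, sq := h3.sq, tsc_one := h3.tsc_one, order := h3.order, cent := h3.cent,
      neg := h3.neg }
  have hA : H.Maps a E := H.bad_maps h3 hf1 ht hp hs hane ha1 ha2
  have hBm : H.Maps b E' := (H.withPair x y rx ry).bad_maps h3' hf2 ht' hp' hs' hbne hb1 hb2
  simp only [Spec.orderB, Bool.and_eq_true, beq_iff_eq, bne_iff_ne, List.all_eq_true, decide_eq_true_eq] at hord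
  obtain ⟨⟨⟨⟨⟨s1, s2⟩, s3⟩, h6⟩, h2⟩, hlen⟩ := hord
  have m1 := H.maps_comp hA hBm s1
  have m2 := H.maps_comp m1 m1 s2
  have m4 := H.maps_comp m2 m2 s3
  have m6 := H.maps_comp m4 m2 s3
  rw [h6] at m6
  have hcube : (a * b * (a * b)) ^ 3 = 1 := by
    have := H.fix_of_targets (List.forall₂_same.mp m6)
    rw [pow_succ, pow_two]
    exact this
  have hg1 : a * b * (a * b) ≠ 1 := by
    intro e
    apply h2
    rw [e] at m2
    have heq : List.Forall₂ Eq (Spec.targets S.tsc S.k) (S.compT (S.compT E E') (S.compT E E')) := by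
      refine List.forall₂_iff_get.mpr ⟨m2.length_eq, fun i h₁ h₂ => ?_⟩
      have hte := (List.forall₂_iff_get.mp m2).2 i h₁ h₂
      rw [one_smul] at hte
      simp only [List.get_eq_getElem] at hte ⊢
      obtain ⟨hl, hlt⟩ := hlen _ (List.getElem_mem h₂)
      have hmem := List.getElem_mem h₁
      refine decT_inj H.ok S.k _ _ (targets_length _ _ _ hmem) hl (fun z hz => ?_)
        (fun z hz => H.size ▸ hlt z hz) (coordJ_injective H.gens H.two _ le_rfl hte)
      rw [← H.size]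
      have hm' : (Spec.targets S.tsc S.k)[i] ∈ Spec.targets [1] S.k := h3.tsc_one ▸ hmem
      exact targets_lt (H.size ▸ H.ok.one_lt) _ _ hm' z hz
    exact (List.forall₂_eq_eq_eq ▸ heq).symm
  have hdvd : orderOf (a * b * (a * b)) = 3 := by
    haveI : Fact (Nat.Prime 3) := ⟨Nat.prime_three⟩
    exact orderOf_eq_prime hcube hg1
  exact h3.order (hdvd ▸ orderOf_dvd_natCard _)

/-- Complete data give a pair. -/
theorem pair (h3 : S.q = 3 → Three hf S ν) (h : S.Good) : ∃ v w : V, ∀ a : A, a • v = v → a • w = w → a = 1 := by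
  rcases h with h | ⟨hq, h | h | ⟨x, y, rx, ry, h⟩⟩
  · exact ⟨_, _, H.pair_phi h⟩
  · exact ⟨_, _, H.pair_real (h3 hq) h⟩
  · exact ⟨_, _, H.pair_pivot (h3 hq) h⟩
  · exact H.pair_two (h3 hq) h

end Fits

end CfsgLib.BaseTwo
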