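import Mathlib

/-!
A search deciding that only the identity preserves a labelling of a small elementary abelian group.
-/

set_option autoImplicit false

namespace CfsgLib.BaseTwo

/-- Addition of digit strings. -/
def addc (s : ℕ) : ℕ → ℕ → ℕ → ℕ
  | 0, _, _ => 0
  | n + 1, a, b => (a % s + b % s) % s + s * addc s n (a / s) (b / s)

/-- The combination of listed strings with the digits of an index as coefficients. -/
def combc (s n : ℕ) : List ℕ → ℕ → ℕ
  | [], _ => 0
  | w :: ws, idx => (addc s n w)^[idx % s] (combc s n ws (idx / s))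

/-- The unit strings. -/
def unitc (s n : ℕ) : List ℕ := (List.range n).map (s ^ ·)

/-- The labels agree on all combinations. -/
def okc (s n : ℕ) (lab : List ℕ) (imgs : List ℕ) : Bool :=
  (List.range (s ^ imgs.length)).all fun idx =>
    lab.getD (combc s n ((unitc s n).take imgs.length) idx) 0 == lab.getD (combc s n imgs idx) 0

/-- Extensions of a partial list of images must end at the units. -/
def searchc (s n : ℕ) (lab : List ℕ) : ℕ → List ℕ → Bool
  | 0, imgs => imgs == unitc s n
  | k + 1, imgs => (List.range (s ^ n)).all fun v =>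
      !okc s n lab (imgs ++ [v]) || searchc s n lab k (imgs ++ [v])

/-- A certified rigid labelling. -/
def rigidc (s n : ℕ) (lab : List ℕ) : Bool :=
  searchc s n lab n [] && ((List.range (s ^ n)).all fun i => combc s n (unitc s n) i == i) &&
    ((List.range n).all fun i => decide (s ^ i < s ^ n))

variable {s n : ℕ}

theorem addc_lt (hs : 0 < s) : ∀ n a b, addc s n a b < s ^ n
  | 0, a, b => by simp [addc]
  | n + 1, a, b => by
    have h1 := addc_lt hs n (a / s) (b / s)
    have h2 : (a % s + b % s) % s < s := Nat.mod_lt _ hs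
    rw [addc, pow_succ']
    nlinarith

theorem iterate_lt (hs : 0 < s) {x : ℕ} (hx : x < s ^ n) (w : ℕ) : ∀ k, (addc s n w)^[k] x < s ^ n
  | 0 => hx
  | k + 1 => by rw [Function.iterate_succ', Function.comp_apply]; exact addc_lt hs n _ _

theorem combc_lt (hs : 0 < s) : ∀ (ws : List ℕ) (idx : ℕ), combc s n ws idx < s ^ n
  | [], _ => pow_pos hs n
  | w :: ws, idx => iterate_lt hs (combc_lt hs ws _) w _

theorem combc_map (hs : 0 < s) {f : ℕ → ℕ} (hf0 : f 0 = 0)
    (hf : ∀ a b, a < s ^ n → b < s ^ n → f (addc s n a b) = addc s n (f a) (f b)) :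
    ∀ ws : List ℕ, (∀ w ∈ ws, w < s ^ n) → ∀ idx, combc s n (ws.map f) idx = f (combc s n ws idx)
  | [], _, _ => hf0.symm
  | w :: ws, hws, idx => by
    rw [List.map_cons, combc, combc, combc_map hs hf0 hf ws (fun x hx => hws x (List.mem_cons_of_mem w hx))]
    induction idx % s with
    | zero => rfl
    | succ k ih =>
      rw [Function.iterate_succ', Function.comp_apply, ih, Function.iterate_succ', Function.comp_apply,
        hf _ _ (hws w List.mem_cons_self) (iterate_lt hs (combc_lt hs ws _) w k)]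

/-- An additive map keeping the labels of a certified labelling is the identity. -/
theorem rigidc_sound (hs : 0 < s) {lab : List ℕ} (hr : rigidc s n lab = true) {f : ℕ → ℕ} (hf0 : f 0 = 0)
    (hlt : ∀ a, a < s ^ n → f a < s ^ n)
    (hf : ∀ a b, a < s ^ n → b < s ^ n → f (addc s n a b) = addc s n (f a) (f b))
    (hlab : ∀ a, a < s ^ n → lab.getD (f a) 0 = lab.getD a 0) : ∀ a, a < s ^ n → f a = a := by
  simp only [rigidc, Bool.and_eq_true, List.all_eq_true, List.mem_range, beq_iff_eq, decide_eq_true_eq] at hr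
  obtain ⟨⟨hsearch, hid⟩, hunit⟩ := hr
  have hU : ∀ w ∈ unitc s n, w < s ^ n := fun w hw => by
    obtain ⟨i, hi, rfl⟩ := List.mem_map.mp hw
    exact hunit i (List.mem_range.mp hi)
  have hlen : (unitc s n).length = n := by simp [unitc]
  have key : ∀ k j, j + k = n → searchc s n lab k (((unitc s n).take j).map f) = true →
      (unitc s n).map f = unitc s n := by
    intro k
    induction k with
    | zero =>
      intro j hj h
      rw [searchc, beq_iff_eq, List.take_of_length_le (by omega)] at h
      exact h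
    | succ k ih =>
      intro j hj h
      rw [searchc, List.all_eq_true] at h
      have hjn : j < (unitc s n).length := by omega
      have hnext : ((unitc s n).take j).map f ++ [f ((unitc s n)[j])] = ((unitc s n).take (j + 1)).map f := by
        rw [← List.take_concat_get' (unitc s n) j hjn, List.map_append]; rfl
      have hlt' : f ((unitc s n)[j]) < s ^ n := hlt _ (hU _ (List.getElem_mem hjn))
      have h1 := h _ (List.mem_range.mpr hlt')
      rw [hnext] at h1
      have hok : okc s n lab (((unitc s n).take (j + 1)).map f) = true := by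
        have hl : (((unitc s n).take (j + 1)).map f).length = j + 1 := by
          rw [List.length_map, List.length_take]; omega
        simp only [okc, List.all_eq_true, List.mem_range, beq_iff_eq, hl]
        intro idx _
        rw [combc_map hs hf0 hf _ (fun w hw => hU w (List.mem_of_mem_take hw))]
        exact (hlab _ (combc_lt hs _ _)).symm
      rw [hok] at h1
      exact ih (j + 1) (by omega) (by simpa using h1)
  have hmap := key n 0 (zero_add n) (by simpa using hsearch)
  intro a ha
  rw [← hid a ha, ← combc_map hs hf0 hf _ hU, hmap]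

/-- The labellings. -/
def labelData : List (ℕ × ℕ × List ℕ) := [
  (2, 2, [1, 1, 2, 3]),
  (2, 3, [1, 0, 3, 3, 1, 3, 1, 2]),
  (2, 4, [1, 3, 2, 3, 1, 3, 1, 1, 3, 1, 2, 1, 2, 2, 3, 3]),
  (2, 5, [1, 2, 3, 2, 2, 3, 3, 2, 1, 2, 1, 1, 1, 2, 1, 2, 3, 2, 3, 2, 2, 3, 2, 3, 2, 3, 3, 2, 3, 1, 2, 3]),
  (3, 2, [1, 0, 2, 1, 2, 1, 1, 2, 2]),
  (3, 3, [1, 1, 1, 2, 2, 1, 2, 1, 2, 1, 1, 2, 2, 2, 1, 1, 1, 2, 2, 2, 1, 1, 2, 1, 1, 1, 1]),
  (5, 2, [1, 1, 2, 2, 2, 1, 1, 2, 2, 2, 1, 2, 2, 2, 2, 1, 2, 2, 1, 2, 2, 2, 2, 2, 1]),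
  (7, 2, [1, 2, 2, 1, 2, 1, 1, 2, 2, 2, 2, 2, 2, 1, 1, 1, 2, 2, 2, 2, 2, 1, 2, 1, 2, 2, 2, 2, 2, 1, 1, 1, 2, 1, 2, 1, 2, 1, 2, 1, 1, 2, 2, 1, 2, 1, 1, 2, 1])]

theorem labelData_rigid : labelData.all (fun t => rigidc t.1 t.2.1 t.2.2) = true := by decide +kernel

theorem labelData_shape : labelData.all (fun t => decide (t.2.2.length = t.1 ^ t.2.1) &&
    t.2.2.all (fun x => decide (x ≤ if t.1 = 2 then 3 else 2)) &&
    (t.2.2.drop 1).all (fun x => decide (0 < x)) || decide (4 < t.1 ^ t.2.1) &&
    decide (t.2.2.length = t.1 ^ t.2.1) && t.2.2.all (fun x => decide (x ≤ if t.1 = 2 then 3 else 2)) &&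
    decide (t.2.2.getD 1 1 = 0) && (t.2.2.drop 2).all (fun x => decide (0 < x))) = true := by decide +kernel

end CfsgLib.BaseTwo
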