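import Cfsg.Agent.Lib.BaseThree.Colour

/-!
Linear groups of order prime to three on small sections have pairs with trivial common stabilizer.
-/

set_option autoImplicit false

namespace CfsgLib.BaseTwo

open Subgroup CfsgLib.OddBase

universe u

/-- Two elements with trivial common stabilizer. -/
def Two (H N : Type u) [Group H] [Group N] [MulDistribMulAction H N] : Prop :=
  ∃ v w : N, ∀ h : H, h • v = v → h • w = w → ∀ n : N, h • n = n

/-- A subgroup with at most four cosets is everything when all nontrivial divisors of the order are large. -/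
theorem eq_top_of_small {M X : Type*} [Group M] [Finite M] [Finite X] {s t : ℕ} (hs : s.Prime) (hs5 : 5 ≤ s)
    (hM : Nat.card M = s ^ t) (S : Subgroup M) (f : M → X) (hf : ∀ a b : M, f a = f b → a⁻¹ * b ∈ S)
    (hX : Nat.card X ≤ 4) : S = ⊤ := by
  have hle : S.index ≤ 4 := by
    rw [Subgroup.index_eq_card]
    refine (Nat.card_le_card_of_injective (fun q : M ⧸ S => f q.out) fun p q e => ?_).trans hX
    rw [← Quotient.out_eq p, ← Quotient.out_eq q]
    exact QuotientGroup.eq.mpr (hf _ _ e)
  obtain ⟨i, -, hi⟩ := (Nat.dvd_prime_pow hs).mp (hM ▸ S.index_dvd_card)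
  rcases Nat.eq_zero_or_pos i with rfl | hpos
  · exact Subgroup.index_eq_one.mp (by rw [hi, pow_zero])
  · have := Nat.le_self_pow hpos.ne' s
    omega

section
variable {H N : Type u} [Group H] [Finite H] [CommGroup N] [Finite N] [MulDistribMulAction H N]

/-- The elements centralized by an element of the group. -/
def fixedBy' (h : H) : Subgroup N where
  carrier := {n | h • n = n}
  one_mem' := smul_one h
  mul_mem' := fun {a b} ha hb => by
    show h • (a * b) = a * b
    rw [smul_mul', show h • a = a from ha, show h • b = b from hb]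
  inv_mem' := fun {a} ha => by
    show h • a⁻¹ = a⁻¹
    rw [smul_inv', show h • a = a from ha]

omit [Finite H] [Finite N] in
theorem fix_of_closure {h : H} {S : Set N} (hS : closure S = ⊤) (hh : ∀ x ∈ S, h • x = x) (n : N) : h • n = n :=
  ((closure_le (fixedBy' h)).mpr hh) (hS.ge (Subgroup.mem_top n))

set_option maxHeartbeats 400000 in
/-- Sections of fewer than sixty four elements. -/
theorem small_two (hsol : Group.IsSolvable H) (h3 : ¬ 3 ∣ Nat.card H) {r : ℕ} (hr : r.Prime) (hr3 : r ≠ 3)
    (hexp : ∀ n : N, n ^ r = 1) (hN : Nat.card N < 64)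
    (hirr : ∀ U : Subgroup N, (∀ h : H, ∀ n ∈ U, h • n ∈ U) → U = ⊥ ∨ U = ⊤) : Two H N := by
  classical
  by_cases hker : ∀ (h : H) (n : N), h • n = n
  · exact ⟨1, 1, fun h _ _ => hker h⟩
  push Not at hker
  haveI : Fact r.Prime := ⟨hr⟩
  have hNp : IsPGroup r N := fun n => ⟨1, by rw [pow_one]; exact hexp n⟩
  obtain ⟨d, hd⟩ := IsPGroup.iff_card.mp hNp
  by_cases hd2 : d ≤ 2
  · -- two generators
    by_cases hd0 : ∀ n : N, n = 1
    · exact ⟨1, 1, fun h _ _ n => by rw [hd0 (h • n), hd0 n]⟩
    push Not at hd0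
    obtain ⟨v, hv⟩ := hd0
    by_cases htop : zpowers v = ⊤
    · exact ⟨v, v, fun h hh _ => fix_of_closure (S := {v}) (by rw [← zpowers_eq_closure]; exact htop)
        (fun x hx => by rw [Set.mem_singleton_iff.mp hx]; exact hh)⟩
    obtain ⟨w, hw⟩ : ∃ w, w ∉ zpowers v := by
      by_contra h
      push Not at h
      exact htop (eq_top_iff.mpr fun x _ => h x)
    refine ⟨v, w, fun h h1 h2 => fix_of_closure (S := {v, w}) ?_ (fun x hx => by
      rcases hx with rfl | hx
      · exact h1
      · rw [Set.mem_singleton_iff.mp hx]; exact h2)⟩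
    have hlt : zpowers v < closure {v, w} := lt_of_le_of_ne
      (zpowers_le.mpr (subset_closure (Set.mem_insert _ _)))
      fun e => hw (e ▸ subset_closure (Set.mem_insert_of_mem _ rfl))
    obtain ⟨i, -, hi⟩ := (Nat.dvd_prime_pow hr).mp (hd ▸ (closure {v, w}).card_subgroup_dvd_card)
    have h1 : r < r ^ i := by
      rw [← hi]
      calc r = Nat.card (zpowers v) := by rw [Nat.card_zpowers]; exact (orderOf_eq_prime (hexp v) hv).symm
        _ < _ := by
          refine lt_of_le_of_ne (Nat.card_le_card_of_injective _ (Subgroup.inclusion_injective hlt.le)) fun e => ?_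
          exact hlt.ne (Subgroup.eq_of_le_of_card_ge hlt.le e.ge)
    have h2 : 2 ≤ i := by
      by_contra hlt'
      have := Nat.pow_le_pow_right hr.pos (show i ≤ 1 by omega)
      rw [pow_one] at this
      omega
    refine Subgroup.eq_top_of_le_card _ ?_
    rw [hd, hi]
    exact Nat.pow_le_pow_right hr.pos (by omega)
  -- at least three dimensions over two elements
  have hr2 : r = 2 := by
    have h1 : r ^ 3 ≤ r ^ d := Nat.pow_le_pow_right hr.pos (by omega)
    by_contra h2
    have h5 : 5 ≤ r := by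
      have := hr.two_le
      rcases Nat.lt_or_ge r 5 with h | h
      · interval_cases r <;> first | omega | exact absurd hr (by norm_num)
      · exact h
    have := Nat.pow_le_pow_left h5 3
    omega
  subst hr2
  have hd5 : d ≤ 5 := by
    by_contra h
    have := Nat.pow_le_pow_right (show 0 < 2 by norm_num) (show 6 ≤ d by omega)
    omega
  have hinv : ∀ n : N, n⁻¹ = n := fun n => inv_eq_of_mul_eq_one_right (by rw [← sq]; exact hexp n)
  -- a minimal normal subgroup above the kernel
  let K : Subgroup H :=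
    { carrier := {h | ∀ n : N, h • n = n}
      one_mem' := fun n => one_smul H n
      mul_mem' := fun {a b} ha hb n => by rw [mul_smul, hb n, ha n]
      inv_mem' := fun {a} ha n => by rw [inv_smul_eq_iff, ha n] }
  haveI hKn : K.Normal := ⟨fun k hk g n => by rw [mul_smul, mul_smul, hk, smul_inv_smul]⟩
  haveI := hsol
  haveI : Group.IsSolvable (H ⧸ K) := Group.isSolvable_of_surjective (QuotientGroup.mk'_surjective K)
  haveI : Nontrivial (H ⧸ K) := by
    obtain ⟨h, n, hn⟩ := hker
    exact ⟨⟨QuotientGroup.mk h, 1, fun e => hn ((QuotientGroup.eq_one_iff h).mp e n)⟩⟩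
  obtain ⟨M, hMn, -, hM, hMab, hMmin⟩ := exists_minimal_abelian (G := H ⧸ K) (N := ⊤) top_ne_bot
  haveI := hMn
  letI : MulAction M N :=
    { smul := fun m n => ((m : H ⧸ K).out : H) • n
      one_smul := fun n => (QuotientGroup.eq_one_iff _).mp (QuotientGroup.out_eq' (1 : H ⧸ K)) n
      mul_smul := fun a b n => by
        show (((a : H ⧸ K) * b).out : H) • n = ((a : H ⧸ K).out : H) • ((b : H ⧸ K).out : H) • n
        have h1 : (((a : H ⧸ K).out : H) * (b : H ⧸ K).out)⁻¹ * ((a : H ⧸ K) * b).out ∈ K := by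
          rw [← QuotientGroup.eq, QuotientGroup.mk_mul]
          simp only [QuotientGroup.out_eq']
        have h2 := h1 n
        rw [mul_smul, inv_smul_eq_iff, mul_smul] at h2
        exact h2 }
  have hout : ∀ (m : M) (g : H), (QuotientGroup.mk g : H ⧸ K) = m → ∀ n : N, g • n = m • n := fun m g e n => by
    have h1 : ((m : H ⧸ K).out : H)⁻¹ * g ∈ K := by
      rw [← QuotientGroup.eq, QuotientGroup.out_eq', e]
    have h2 := h1 n
    rw [mul_smul, inv_smul_eq_iff] at h2
    exact h2
  have hfaith : ∀ m : M, (∀ n : N, m • n = n) → m = 1 := fun m hm => Subtype.ext (by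
    show (m : H ⧸ K) = 1
    rw [← QuotientGroup.out_eq' (m : H ⧸ K)]
    exact (QuotientGroup.eq_one_iff _).mpr fun n => hm n)
  have hnofix : ∀ v : N, (∀ m : M, m • v = v) → v = 1 := by
    let U : Subgroup N := ⨅ m : M, fixedBy' ((m : H ⧸ K).out : H)
    have hU : ∀ x, x ∈ U ↔ ∀ m : M, m • x = x := fun x => by rw [Subgroup.mem_iInf]; exact Iff.rfl
    rcases hirr U (fun h x hx => (hU _).mpr fun m => by
      let m' : M := ⟨(QuotientGroup.mk h : H ⧸ K)⁻¹ * (m : H ⧸ K) * QuotientGroup.mk h, by
        have := hMn.conj_mem _ m.2 (QuotientGroup.mk h : H ⧸ K)⁻¹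
        rwa [inv_inv] at this⟩
      have e := hout m (h * (m' : H ⧸ K).out * h⁻¹) (by
        rw [QuotientGroup.mk_mul, QuotientGroup.mk_mul, QuotientGroup.mk_inv, QuotientGroup.out_eq']
        simp only [m']
        group) (h • x)
      rw [← e, mul_smul, mul_smul, inv_smul_smul]
      exact congrArg (h • ·) ((hU x).mp hx m')) with h | h
    · exact fun v hv => Subgroup.mem_bot.mp (h.le ((hU v).mpr hv))
    · obtain ⟨m, hm, hm1⟩ := M.bot_or_exists_ne_one.resolve_left hM
      exact absurd (congrArg Subtype.val (hfaith ⟨m, hm⟩ fun n => (hU n).mp (h.ge trivial) ⟨m, hm⟩)) hm1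
  -- the prime of the minimal normal subgroup
  obtain ⟨s, hs, hsdvd⟩ := Nat.exists_prime_and_dvd (n := Nat.card M) (by
    have := (Subgroup.one_lt_card_iff_ne_bot M).mpr hM
    omega)
  haveI : Fact s.Prime := ⟨hs⟩
  have hsexp : ∀ m : M, m ^ s = 1 := by
    let L : Subgroup (H ⧸ K) :=
      { carrier := {x | x ∈ M ∧ x ^ s = 1}
        one_mem' := ⟨one_mem _, one_pow _⟩
        mul_mem' := fun {a b} ha hb => ⟨mul_mem ha.1 hb.1, by
          rw [(show Commute a b from hMab a ha.1 b hb.1).mul_pow, ha.2, hb.2, one_mul]⟩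
        inv_mem' := fun {a} ha => ⟨inv_mem ha.1, by rw [inv_pow, ha.2, inv_one]⟩ }
    have hLn : L.Normal := ⟨fun x hx g => ⟨hMn.conj_mem x hx.1 g, by rw [conj_pow, hx.2]; group⟩⟩
    rcases hMmin L hLn (fun x hx => hx.1) with h | h
    · obtain ⟨x, hx⟩ := exists_prime_orderOf_dvd_card' (G := M) s hsdvd
      have h0 : (x : H ⧸ K) ∈ L := ⟨x.2, by rw [← hx, ← Subgroup.orderOf_coe, pow_orderOf_eq_one]⟩
      rw [h, Subgroup.mem_bot] at h0
      rw [show x = 1 from Subtype.ext h0, orderOf_one] at hx
      exact absurd hx.symm hs.ne_one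
    · exact fun m => Subtype.ext (h.ge m.2).2
  have hMp : IsPGroup s M := fun m => ⟨1, by rw [pow_one]; exact hsexp m⟩
  obtain ⟨t, ht⟩ := IsPGroup.iff_card.mp hMp
  haveI : Fintype N := Fintype.ofFinite _
  have hfixed : ∀ v : N, v ∈ MulAction.fixedPoints M N ↔ v = 1 := fun v =>
    ⟨fun h => hnofix v h, fun h m => by rw [h]; exact smul_one ((m : H ⧸ K).out : H)⟩
  have hmod : Nat.card N ≡ 1 [MOD s] := by
    have := hMp.card_modEq_card_fixedPoints N
    rwa [show MulAction.fixedPoints M N = {1} from Set.ext hfixed, Nat.card_coe_set_eq, Set.ncard_singleton] at this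
  rw [hd] at hmod
  have hs5 : 5 ≤ s := by
    have hne2 : s ≠ 2 := fun e => by
      rw [e] at hmod
      have h0 : 2 ^ d % 2 = 0 := Nat.pow_mod _ _ _ ▸ by
        rw [Nat.mod_self, Nat.zero_pow (by omega)]
      unfold Nat.ModEq at hmod
      omega
    have hne3 : s ≠ 3 := fun e => h3 (e ▸ hsdvd.trans ((M.card_subgroup_dvd_card).trans
      ⟨Nat.card K, K.card_eq_card_quotient_mul_card_subgroup⟩))
    rcases Nat.lt_or_ge s 5 with h | h
    · have := hs.two_le
      interval_cases s <;> first | omega | exact absurd hs (by norm_num)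
    · exact h
  have hNc : Nat.card N = 2 ^ d := hd
  -- every orbit spans
  have hspan : ∀ v : N, v ≠ 1 → closure (Set.range fun m : M => m • v) = ⊤ := by
    intro v hv
    set U := closure (Set.range fun m : M => m • v) with hU
    by_contra hne
    have hvU : ∀ m : M, m • v ∈ U := fun m => subset_closure ⟨m, rfl⟩
    have hstab : ∀ (m : M), ∀ x ∈ U, m • x ∈ U := fun m x hx => by
      induction hx using Subgroup.closure_induction with
      | mem y hy => obtain ⟨m', rfl⟩ := hy; dsimp only; rw [← mul_smul]; exact hvU _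
      | one => rw [show m • (1 : N) = 1 from smul_one ((m : H ⧸ K).out : H)]; exact one_mem U
      | mul x y _ _ h1 h2 =>
        rw [show m • (x * y) = m • x * m • y from smul_mul' ((m : H ⧸ K).out : H) x y]
        exact mul_mem h1 h2
      | inv x _ h1 =>
        rw [show m • x⁻¹ = (m • x)⁻¹ from smul_inv' ((m : H ⧸ K).out : H) x]
        exact inv_mem h1
    by_cases hUc : Nat.card U ≤ 4
    · refine hv (hnofix v fun m => ?_)
      have := eq_top_of_small hs hs5 ht (MulAction.stabilizer M v) (fun m => (⟨m • v, hvU m⟩ : U))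
        (fun a b e => by
          rw [MulAction.mem_stabilizer_iff, mul_smul, inv_smul_eq_iff]
          exact (congrArg Subtype.val e).symm) hUc
      exact MulAction.mem_stabilizer_iff.mp (this.ge (Subgroup.mem_top m))
    obtain ⟨x, hx⟩ : ∃ x, x ∉ U := by
      by_contra h
      push Not at h
      exact hne (eq_top_iff.mpr fun x _ => h x)
    have hQ : Nat.card (N ⧸ U) ≤ 4 := by
      have := U.card_eq_card_quotient_mul_card_subgroup
      rw [hNc] at this
      obtain ⟨i, -, hi⟩ := (Nat.dvd_prime_pow Nat.prime_two).mp (Dvd.intro_left _ this.symm)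
      have h3' : 3 ≤ i := by
        by_contra hlt
        have := Nat.pow_le_pow_right (show 0 < 2 by norm_num) (show i ≤ 2 by omega)
        omega
      have h8 := Nat.pow_le_pow_right (show 0 < 2 by norm_num) h3'
      have h32 := Nat.pow_le_pow_right (show 0 < 2 by norm_num) hd5
      have := Nat.mul_le_mul_left (Nat.card (N ⧸ U)) (hi ▸ h8 : 2 ^ 3 ≤ Nat.card U)
      omega
    let S : Subgroup M :=
      { carrier := {m | x⁻¹ * m • x ∈ U}
        one_mem' := by
          show x⁻¹ * (1 : M) • x ∈ U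
          rw [one_smul, inv_mul_cancel]; exact one_mem U
        mul_mem' := fun {a b} (ha : x⁻¹ * a • x ∈ U) (hb : x⁻¹ * b • x ∈ U) => by
          show x⁻¹ * (a * b) • x ∈ U
          have e : a • (x⁻¹ * b • x) = (a • x)⁻¹ * (a * b) • x := by
            rw [show a • (x⁻¹ * b • x) = a • x⁻¹ * a • b • x from smul_mul' ((a : H ⧸ K).out : H) _ _,
              show a • x⁻¹ = (a • x)⁻¹ from smul_inv' ((a : H ⧸ K).out : H) x, mul_smul]
          have := mul_mem ha (e ▸ hstab a _ hb)
          rwa [mul_assoc, mul_inv_cancel_left] at this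
        inv_mem' := fun {a} (ha : x⁻¹ * a • x ∈ U) => by
          show x⁻¹ * a⁻¹ • x ∈ U
          have h1 := inv_mem (hstab a⁻¹ _ ha)
          rw [show a⁻¹ • (x⁻¹ * a • x) = a⁻¹ • x⁻¹ * a⁻¹ • a • x from smul_mul' _ _ _, inv_smul_smul,
            show a⁻¹ • x⁻¹ = (a⁻¹ • x)⁻¹ from smul_inv' _ _, mul_inv_rev, inv_inv] at h1
          exact h1 }
    have hS : S = ⊤ := eq_top_of_small hs hs5 ht S (fun m => (QuotientGroup.mk (m • x) : N ⧸ U)) (fun a b e => by
      have h1 := hstab a⁻¹ _ (QuotientGroup.eq.mp e)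
      rw [show a⁻¹ • ((a • x)⁻¹ * b • x) = a⁻¹ • (a • x)⁻¹ * a⁻¹ • b • x from smul_mul' _ _ _,
        show a⁻¹ • (a • x)⁻¹ = (a⁻¹ • a • x)⁻¹ from smul_inv' _ _, inv_smul_smul, ← mul_smul] at h1
      exact h1) hQ
    haveI : Fintype M := Fintype.ofFinite _
    have hy : ∏ m : M, m • x = 1 := hnofix _ fun g => by
      rw [show g • (∏ m : M, m • x) = ((g : H ⧸ K).out : H) • ∏ m : M, m • x from rfl, Finset.smul_prod']
      exact Fintype.prod_equiv (Equiv.mulLeft g) _ _ fun m => (mul_smul g m x).symm
    have hodd : Nat.card M % 2 = 1 := by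
      rw [ht]
      exact Nat.odd_iff.mp ((hs.odd_of_ne_two (by omega)).pow)
    have hxU : ∏ m : M, (x⁻¹ * m • x) ∈ U := prod_mem fun m _ => hS.ge (Subgroup.mem_top m)
    rw [Finset.prod_mul_distrib, hy, mul_one, Finset.prod_const, Finset.card_univ, ← Nat.card_eq_fintype_card,
      pow_eq_pow_mod _ (show (x⁻¹) ^ 2 = 1 from hexp _), hodd, pow_one] at hxU
    exact hx (inv_mem_iff.mp hxU)
  -- the minimal normal subgroup is cyclic
  obtain ⟨v, hv⟩ : ∃ v : N, v ≠ 1 := by
    obtain ⟨h, n, hn⟩ := hker
    exact ⟨n, fun e => hn (by rw [e, smul_one])⟩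
  have hsemi : ∀ m : M, m • v = v → m = 1 := fun m hm => hfaith m fun n =>
    fix_of_closure (h := ((m : H ⧸ K).out : H)) (hspan v hv) (by
      rintro _ ⟨m', rfl⟩
      show m • m' • v = m' • v
      rw [← mul_smul, show m * m' = m' * m from Subtype.ext (hMab m m.2 m' m'.2), mul_smul, hm]) n
  have hcardM : Nat.card M = s := by
    have h1 : Nat.card M < Nat.card N := by
      rw [Nat.card_eq_fintype_card (α := N), ← Finset.card_univ]
      haveI : Fintype M := Fintype.ofFinite _
      rw [Nat.card_eq_fintype_card, ← Finset.card_univ]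
      refine lt_of_le_of_lt (Finset.card_le_card_of_injOn (s := Finset.univ) (t := Finset.univ.erase (1 : N))
        (fun m : M => m • v) (fun m _ => ?_) fun a _ b _ e => ?_)
        (Finset.card_erase_lt_of_mem (Finset.mem_univ _))
      · refine Finset.mem_erase.mpr ⟨fun e => hv ?_, Finset.mem_univ _⟩
        exact smul_left_cancel m (e.trans (smul_one ((m : H ⧸ K).out : H)).symm)
      · have e' : a • v = b • v := e
        have := hsemi (a⁻¹ * b) (by rw [mul_smul, ← e', inv_smul_smul])
        exact inv_mul_eq_one.mp this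
    rw [hNc] at h1
    rw [ht] at h1 ⊢
    have ht1 : 1 ≤ t := by
      rcases Nat.eq_zero_or_pos t with rfl | h
      · have := (Subgroup.one_lt_card_iff_ne_bot M).mpr hM
        rw [ht, pow_zero] at this
        omega
      · exact h
    rcases Nat.lt_or_ge t 2 with h | h
    · rw [show t = 1 by omega, pow_one]
    · exfalso
      have h32 := Nat.pow_le_pow_right (show 0 < 2 by norm_num) hd5
      have hsq := (Nat.pow_le_pow_right hs.pos h).trans h1.le
      have h5 : s = 5 := by
        by_contra hne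
        have := Nat.pow_le_pow_left (show 6 ≤ s by omega) 2
        omega
      subst h5
      have hd' : d = 3 ∨ d = 4 ∨ d = 5 := by omega
      rcases hd' with rfl | rfl | rfl
      · omega
      · omega
      · exact absurd hmod (by decide)
  obtain ⟨m, hm⟩ := (isCyclic_of_prime_card hcardM).exists_generator
  refine ⟨v, m • v, fun h h1 h2 => ?_⟩
  let g := ((m : H ⧸ K).out : H)
  let m' : M := ⟨QuotientGroup.mk h * (m : H ⧸ K) * (QuotientGroup.mk h : H ⧸ K)⁻¹, hMn.conj_mem _ m.2 _⟩
  have hg : ∀ n : N, (h * g * h⁻¹) • n = m' • n := hout m' _ (by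
    rw [QuotientGroup.mk_mul, QuotientGroup.mk_mul, QuotientGroup.mk_inv]
    simp only [g, QuotientGroup.out_eq', m'])
  have hmm : m' = m := by
    have e : m' • v = m • v := by
      rw [← hg, mul_smul, mul_smul, show h⁻¹ • v = v by rw [inv_smul_eq_iff, h1]]
      exact h2
    have := hsemi (m⁻¹ * m') (by rw [mul_smul, e, inv_smul_smul])
    exact (inv_mul_eq_one.mp this).symm
  rw [hmm] at hg
  refine fix_of_closure (hspan v hv) ?_
  rintro _ ⟨k, rfl⟩
  show h • k • v = k • v
  obtain ⟨i, rfl⟩ := Subgroup.mem_zpowers_iff.mp (hm k)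
  have hstep : ∀ n : N, h • n = n → h • m • n = m • n ∧ h • m⁻¹ • n = m⁻¹ • n := fun n hn => by
    have e1 : ∀ x : N, h • m • x = m • h • x := fun x => by
      have := hg (h • x)
      rw [mul_smul, mul_smul, inv_smul_smul] at this
      exact this
    refine ⟨by rw [e1, hn], ?_⟩
    rw [eq_inv_smul_iff, ← e1, smul_inv_smul, hn]
  clear h2
  induction i using Int.induction_on with
  | zero => rw [zpow_zero, one_smul, h1]
  | succ j ih => rw [zpow_add, zpow_one, ← zpow_one m, zpow_one m, show m ^ (j : ℤ) * m = m * m ^ (j : ℤ) from (Commute.self_zpow m _).eq.symm, mul_smul]; exact (hstep _ ih).1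
  | pred j ih => rw [zpow_sub, zpow_one, show m ^ (-(j : ℤ)) * m⁻¹ = m⁻¹ * m ^ (-(j : ℤ)) from ((Commute.self_zpow m _).inv_left).eq.symm, mul_smul]; exact (hstep _ ih).2

end

end CfsgLib.BaseTwo
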