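import Cfsg.Agent.Lib.OddBase.Main

/-!
No element acts as a transvection on the section when three does not divide the order.
-/

set_option autoImplicit false

namespace CfsgLib.BaseTwo

open Subgroup CfsgLib.OddBase
open scoped commutatorElement

universe u

variable {A V : Type u} [Group A] [Finite A] [AddCommGroup V] [Finite V] [DistribMulAction A V]
  {Z F L : Subgroup A}

/-- The class of an element in the section. -/
def cl [Z.Normal] (y : F) : F ⧸ Z.subgroupOf F := QuotientGroup.mk y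

theorem transvection_rule [Z.Normal] [F.Normal] (hf : Frame A V Z F L) (hsq : ∀ y ∈ F, y ^ 2 ∈ Z) {a : A}
    (haC : a ∈ centralizer (Z : Set A)) {c : F}
    (hmove : ∀ y : F, phi Z F a (cl y) = cl y ∨ phi Z F a (cl y) = cl y * cl c) (hne : phi Z F a ≠ 1) :
    cl (Z := Z) c ≠ 1 ∧ ∀ y : F, (⁅(c : A), (y : A)⁆ = 1 → phi Z F a (cl y) = cl y) ∧
      (⁅(c : A), (y : A)⁆ ≠ 1 → phi Z F a (cl y) = cl y * cl c) := by
  letI := sectionComm hf
  have hc1 : cl (Z := Z) c ≠ 1 := fun e => hne (MulEquiv.ext fun x => QuotientGroup.induction_on x fun y => by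
    rcases hmove y with h | h
    · exact h
    · rw [e, mul_one] at h; exact h)
  have hcc : cl (Z := Z) c * cl c = 1 := by
    rw [← pow_two, cl, ← QuotientGroup.mk_pow, QuotientGroup.eq_one_iff]
    exact hsq c c.2
  -- fixed elements commute with the centre
  have hA : ∀ x y : F, phi Z F a (cl x) = cl x → phi Z F a (cl y) = cl y * cl c → ⁅(c : A), (x : A)⁆ = 1 := by
    intro x y hx hy
    have e1 : ∃ z ∈ Z, a * (x : A) * a⁻¹ = x * z := by
      have h := QuotientGroup.eq.mp hx.symm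
      exact ⟨(x : A)⁻¹ * (a * x * a⁻¹), h, by group⟩
    have e2 : ∃ z ∈ Z, a * (y : A) * a⁻¹ = y * c * z := by
      have h := QuotientGroup.eq.mp hy.symm
      exact ⟨((y : A) * c)⁻¹ * (a * y * a⁻¹), h, by group⟩
    obtain ⟨z, hz, ez⟩ := e1
    obtain ⟨w, hw, ew⟩ := e2
    have hk := hf.comm x x.2 y y.2
    have h0 : a * ⁅(x : A), (y : A)⁆ * a⁻¹ = ⁅(x : A), (y : A)⁆ := central_conj haC hk
    have h1 : ⁅a * (x : A) * a⁻¹, a * (y : A) * a⁻¹⁆ = ⁅(x : A), (y : A)⁆ := by
      rw [← h0]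
      simp [commutatorElement_def, mul_assoc]
    have hcz : ∀ {p : A}, p ∈ F → ∀ {q : A}, q ∈ Z → p * q = q * p := fun {p} hp {q} hq =>
      (comm_eq_one_iff _ q).mp (hf.central_left (hf.cent hp) hq)
    have h2 : ⁅(x : A) * z, (y : A) * c * w⁆ = ⁅(x : A), (y : A)⁆ * ⁅(x : A), (c : A)⁆ := by
      rw [comm_mul_left, comm_mul_right z, comm_mul_right (x : A)]
      have a1 : ⁅z, (y : A) * c⁆ = 1 := (comm_eq_one_iff _ _).mpr (hcz (F.mul_mem y.2 c.2) hz).symm
      have a2 : ⁅z, w⁆ = 1 := (comm_eq_one_iff _ _).mpr (hf.base.comm z hz w hw)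
      have a3 : ⁅(x : A), w⁆ = 1 := (comm_eq_one_iff _ _).mpr (hcz x.2 hw)
      have a4 : (y : A) * ⁅(x : A), (c : A)⁆ * (y : A)⁻¹ = ⁅(x : A), (c : A)⁆ := by
        rw [hcz y.2 (hf.comm x x.2 c c.2)]; group
      rw [a1, a2, a3, comm_mul_right, a4]
      group
    rw [ez, ew, h2] at h1
    have h3 : ⁅(x : A), (c : A)⁆ = 1 := mul_left_cancel (a := ⁅(x : A), (y : A)⁆) (by rw [mul_one]; exact h1)
    exact (comm_eq_one_iff _ _).mpr ((comm_eq_one_iff _ _).mp h3).symm
  obtain ⟨y₀, hy₀, hy₀'⟩ : ∃ y₀ : F, phi Z F a (cl y₀) = cl y₀ * cl c ∧ phi Z F a (cl y₀) ≠ cl y₀ := by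
    by_contra h
    push Not at h
    exact hne (MulEquiv.ext fun x => QuotientGroup.induction_on x fun y => by
      rcases hmove y with e | e
      · exact e
      · exact h y e)
  refine ⟨hc1, fun y => ?_⟩
  -- a moved element does not commute with the centre
  have hB : ∀ y : F, phi Z F a (cl y) = cl y * cl c → ⁅(c : A), (y : A)⁆ ≠ 1 := by
    intro y hy hcy
    apply hc1
    refine (QuotientGroup.eq_one_iff c).mpr (hf.centre_F c.2 fun x hx => ?_)
    rcases hmove ⟨x, hx⟩ with e | e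
    · exact hA ⟨x, hx⟩ y e hy
    · have hfix : phi Z F a (cl (y * ⟨x, hx⟩)) = cl (y * ⟨x, hx⟩) := by
        rw [cl, QuotientGroup.mk_mul, map_mul]
        show phi Z F a (cl y) * phi Z F a (cl ⟨x, hx⟩) = cl y * cl ⟨x, hx⟩
        rw [hy, e, mul_mul_mul_comm, hcc, mul_one]
      have h := hA _ y hfix hy
      rw [show ((y * ⟨x, hx⟩ : F) : A) = (y : A) * x from rfl, comm_mul_right, hcy, one_mul] at h
      have h' : ⁅(c : A), x⁆ = 1 := by
        have h2 := congrArg (fun z => (y : A)⁻¹ * z * y) h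
        simpa [mul_assoc] using h2
      exact h'
  refine ⟨fun hcy => ?_, fun hcy => ?_⟩
  · rcases hmove y with e | e
    · exact e
    · exact absurd hcy (hB y e)
  · rcases hmove y with e | e
    · exact absurd (hA y y₀ e hy₀) hcy
    · exact e

/-- Transvections of the section are trivial. -/
theorem no_transvection [Z.Normal] [F.Normal] (hf : Frame A V Z F L) (hsq : ∀ y ∈ F, y ^ 2 ∈ Z)
    (h3 : ¬ 3 ∣ Nat.card A) (hC : ∀ g : A, g ∈ centralizer (Z : Set A)) {a : A} {c : F}
    (hmove : ∀ y : F, phi Z F a (cl y) = cl y ∨ phi Z F a (cl y) = cl y * cl c) : phi Z F a = 1 := by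
  letI := sectionComm hf
  by_contra hne
  obtain ⟨hc1, hrule⟩ := transvection_rule hf hsq (hC a) hmove hne
  have hcc : ∀ d : F, cl (Z := Z) d * cl d = 1 := fun d => by
    rw [← pow_two, cl, ← QuotientGroup.mk_pow, QuotientGroup.eq_one_iff]
    exact hsq d d.2
  -- the rule for conjugates
  have hconj : ∀ g : A, ∃ d : F, cl (Z := Z) d ≠ 1 ∧ ∀ y : F,
      (⁅(d : A), (y : A)⁆ = 1 → phi Z F (g * a * g⁻¹) (cl y) = cl y) ∧
      (⁅(d : A), (y : A)⁆ ≠ 1 → phi Z F (g * a * g⁻¹) (cl y) = cl y * cl d) := by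
    intro g
    refine ⟨⟨g * c * g⁻¹, hf.normal.conj_mem _ c.2 g⟩, ?_, fun y => ?_⟩
    · intro e
      apply hc1
      have e' := congrArg (phi Z F g⁻¹) e
      rw [map_one, cl, phi_mk] at e'
      rw [← e']
      exact congrArg QuotientGroup.mk (Subtype.ext (show (c : A) = g⁻¹ * (g * c * g⁻¹) * g⁻¹⁻¹ by group))
    · let y' : F := ⟨g⁻¹ * y * g, by simpa using hf.normal.conj_mem _ y.2 g⁻¹⟩
      have ey : phi Z F g (cl y') = cl y := by
        rw [cl, phi_mk]
        exact congrArg QuotientGroup.mk (Subtype.ext (show g * (g⁻¹ * (y : A) * g) * g⁻¹ = y by group))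
      have ec : phi Z F g (cl c) = cl ⟨g * c * g⁻¹, hf.normal.conj_mem _ c.2 g⟩ := by
        rw [cl, phi_mk]; rfl
      have eg : phi Z F (g * a * g⁻¹) (cl y) = phi Z F g (phi Z F a (cl y')) := by
        rw [← ey, map_mul, map_mul, MulAut.mul_apply, MulAut.mul_apply, map_inv, MulAut.inv_apply_self]
      have ek : ⁅g * (c : A) * g⁻¹, (y : A)⁆ = g * ⁅(c : A), (y' : A)⁆ * g⁻¹ := by
        simp [commutatorElement_def, y', mul_assoc]
      constructor
      · intro h
        have h' : ⁅(c : A), (y' : A)⁆ = 1 := by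
          rw [show (⟨g * c * g⁻¹, hf.normal.conj_mem _ c.2 g⟩ : F).1 = g * c * g⁻¹ from rfl, ek] at h
          simpa using h
        rw [eg, (hrule y').1 h', ey]
      · intro h
        have h' : ⁅(c : A), (y' : A)⁆ ≠ 1 := fun e => h (by
          rw [show (⟨g * c * g⁻¹, hf.normal.conj_mem _ c.2 g⟩ : F).1 = g * c * g⁻¹ from rfl, ek, e]; group)
        rw [eg, (hrule y').2 h', map_mul, ey, ec]
  -- conjugates commute
  let S : Set (MulAut (F ⧸ Z.subgroupOf F)) := Set.range fun g : A => phi Z F (g * a * g⁻¹)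
  have hcomm : ∀ s ∈ S, ∀ t ∈ S, s * t = t * s := by
    rintro _ ⟨g, rfl⟩ _ ⟨g', rfl⟩
    obtain ⟨d, hd, hr⟩ := hconj g
    obtain ⟨d', hd', hr'⟩ := hconj g'
    set s := phi Z F (g * a * g⁻¹) with hs
    set t := phi Z F (g' * a * g'⁻¹) with ht
    have sd : s (cl d) = cl d := (hr d).1 (by simp)
    have td : t (cl d') = cl d' := (hr' d').1 (by simp)
    by_cases hdd : ⁅(d : A), (d' : A)⁆ = 1
    · have sd' : s (cl d') = cl d' := (hr d').1 hdd
      have td' : t (cl d) = cl d := (hr' d).1 ((comm_eq_one_iff _ _).mpr ((comm_eq_one_iff _ _).mp hdd).symm)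
      refine MulEquiv.ext fun x => QuotientGroup.induction_on x fun y => ?_
      show s (t (cl y)) = t (s (cl y))
      by_cases h1 : ⁅(d : A), (y : A)⁆ = 1 <;> by_cases h2 : ⁅(d' : A), (y : A)⁆ = 1
      · rw [(hr y).1 h1, (hr' y).1 h2, (hr y).1 h1]
      · rw [(hr y).1 h1, (hr' y).2 h2, map_mul, (hr y).1 h1, sd']
      · rw [(hr y).2 h1, (hr' y).1 h2, (hr y).2 h1, map_mul, (hr' y).1 h2, td']
      · rw [(hr y).2 h1, (hr' y).2 h2, map_mul, map_mul, (hr y).2 h1, sd', (hr' y).2 h2, td', mul_right_comm]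
    · exfalso
      have hdd' : ⁅(d' : A), (d : A)⁆ ≠ 1 := fun e =>
        hdd ((comm_eq_one_iff _ _).mpr ((comm_eq_one_iff _ _).mp e).symm)
      let τ := s * t
      have t1 : τ (cl d') = cl d' * cl d := by
        show s (t (cl d')) = _
        rw [td, (hr d').2 hdd]
      have t2 : τ (cl d' * cl d) = cl d := by
        show s (t (cl d' * cl d)) = _
        rw [map_mul, td, (hr' d).2 hdd', mul_left_comm, hcc, mul_one, sd]
      have t3 : τ (cl d) = cl d' := by
        show s (t (cl d)) = _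
        rw [(hr' d).2 hdd', map_mul, sd, (hr d').2 hdd, mul_left_comm, hcc, mul_one]
      have per3 : Function.minimalPeriod τ (cl d') ∣ 3 := Function.IsPeriodicPt.minimalPeriod_dvd (by
        show τ (τ (τ (cl d'))) = cl d'
        rw [t1, t2, t3])
      have hord : orderOf τ ∣ Nat.card A := by
        have e : τ = phi Z F (g * a * g⁻¹ * (g' * a * g'⁻¹)) := (map_mul _ _ _).symm
        rw [e]
        exact (orderOf_map_dvd _ _).trans (orderOf_dvd_natCard _)
      have pero : Function.minimalPeriod τ (cl d') ∣ Nat.card A := by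
        refine (Function.IsPeriodicPt.minimalPeriod_dvd ?_).trans hord
        have hiter : ∀ (n : ℕ) x, (⇑τ)^[n] x = (τ ^ n) x := by
          intro n
          induction n with
          | zero => intro x; rfl
          | succ n ih => intro x; rw [Function.iterate_succ', Function.comp_apply, ih, pow_succ']; rfl
        show (⇑τ)^[orderOf τ] (cl d') = cl d'
        rw [hiter, pow_orderOf_eq_one, MulAut.one_apply]
      rcases (Nat.dvd_prime Nat.prime_three).mp per3 with e | e
      · have := Function.minimalPeriod_eq_one_iff_isFixedPt.mp e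
        apply hd
        exact mul_eq_left.mp (t1.symm.trans this)
      · exact h3 (e ▸ pero)
  haveI : Fact (Nat.Prime 2) := ⟨Nat.prime_two⟩
  have hW : IsPGroup 2 (F ⧸ Z.subgroupOf F) := fun x => ⟨1, QuotientGroup.induction_on x fun y => by
    rw [pow_one, ← QuotientGroup.mk_pow, QuotientGroup.eq_one_iff]; exact hsq y y.2⟩
  have hinv : ∀ s ∈ S, s * s = 1 := by
    rintro _ ⟨g, rfl⟩
    obtain ⟨d, hd, hr⟩ := hconj g
    refine MulEquiv.ext fun x => QuotientGroup.induction_on x fun y => ?_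
    show phi Z F (g * a * g⁻¹) (phi Z F (g * a * g⁻¹) (cl y)) = cl y
    by_cases h1 : ⁅(d : A), (y : A)⁆ = 1
    · rw [(hr y).1 h1, (hr y).1 h1]
    · rw [(hr y).2 h1, map_mul, (hr y).2 h1, (hr d).1 (by simp), mul_assoc, hcc, mul_one]
  have hcl : ∀ s ∈ Subgroup.closure S, ∀ t ∈ Subgroup.closure S, s * t = t * s := fun s hs t ht => by
    have := Subgroup.isMulCommutative_closure hcomm
    exact congrArg Subtype.val (mul_comm' (⟨s, hs⟩ : Subgroup.closure S) ⟨t, ht⟩)
  have h2el : ∀ s ∈ Subgroup.closure S, s * s = 1 := fun s hs => by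
    induction hs using Subgroup.closure_induction with
    | mem x hx => exact hinv x hx
    | one => exact mul_one 1
    | mul x y hx hy h1 h2 => rw [show x * y * (x * y) = x * (y * x) * y by group, hcl y hy x hx]; rw [show x * (x * y) * y = (x * x) * (y * y) by group, h1, h2, mul_one]
    | inv x _ h1 => rw [← mul_inv_rev, h1, inv_one]
  have hT : Subgroup.closure S = ⊥ := no_normal_pGroup hW (phi_cr hf)
    ((Subgroup.closure_le _).mpr (by rintro _ ⟨g, rfl⟩; exact ⟨_, rfl⟩))
    (by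
      rintro _ ⟨g, rfl⟩ t ht
      induction ht using Subgroup.closure_induction with
      | mem x hx =>
        obtain ⟨g', rfl⟩ := hx
        exact Subgroup.subset_closure ⟨g * g', by simp only [map_mul, map_inv, mul_inv_rev]; group⟩
      | one => simp
      | mul x y _ _ h1 h2 =>
        have := mul_mem h1 h2
        simpa [mul_assoc] using this
      | inv x _ h1 =>
        have := inv_mem h1
        simpa [mul_assoc] using this)
    (fun t => ⟨1, Subtype.ext (show ((t : MulAut (F ⧸ Z.subgroupOf F))) ^ 2 = 1 by rw [pow_two]; exact h2el _ t.2)⟩)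
  apply hne
  have h1 : phi Z F (1 * a * 1⁻¹) ∈ Subgroup.closure S := Subgroup.subset_closure ⟨1, rfl⟩
  rw [hT, Subgroup.mem_bot] at h1
  simpa using h1

end CfsgLib.BaseTwo
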