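import Cfsg.Agent.Lib.BaseTwo.Fixed
import Cfsg.Agent.Lib.BaseTwo.Transvection

/-!
Complete certificate data give two vectors with trivial common stabilizer.
-/

set_option autoImplicit false

namespace CfsgLib.BaseTwo

open Subgroup CfsgLib.OddBase CfsgLib.BaseThree

universe u

variable {A V : Type u} [Group A] [Finite A] [AddCommGroup V] [Finite V] [DistribMulAction A V]
  {Z F L₀ : Subgroup A} {hf : Frame A V Z F L₀} {S : Spec} {ν : @Num (Sc V Z) hf.base.field.toField}
  {ce : Fin 4 → A} {X W zs : ℕ → A} {b₀ b₁ : V}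

theorem table_set (colour : ℕ → ℕ) (n f key : ℕ) :
    (List.range n).map (fun g => if g = f then key else colour g) = ((List.range n).map colour).set f key := by
  refine List.ext_getElem (by simp) fun i h1 h2 => ?_
  simp only [List.getElem_map, List.getElem_range, List.getElem_set]
  by_cases h : i = f
  · simp [h]
  · simp [h, Ne.symm h]

theorem exists_fixed_of_three {α : Type*} {o : ℕ} (p : Equiv.Perm α) (hp : p ^ o = 1) (ho : ¬ 3 ∣ o) (s : Finset α)
    (hs : s.card = 3) (hps : ∀ x ∈ s, p x ∈ s) : ∃ x ∈ s, p x = x := by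
  classical
  by_contra hno
  push Not at hno
  obtain ⟨x, hx⟩ := Finset.card_pos.mp (by omega : 0 < s.card)
  have h3 : Function.IsPeriodicPt p 3 x := by
    show p (p (p x)) = x
    have a1 := hps x hx
    have a2 := hps _ a1
    have a3 := hps _ a2
    by_contra h
    have n1 : p x ≠ x := hno x hx
    have n2 : p (p x) ≠ p x := hno _ a1
    have n3 : p (p (p x)) ≠ p (p x) := hno _ a2
    by_cases h2 : p (p x) = x
    · -- a transposition leaves the third point fixed
      obtain ⟨z, hz, hzx⟩ : ∃ z ∈ s, z ≠ x ∧ z ≠ p x := by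
        by_contra hc
        push Not at hc
        have : s ⊆ {x, p x} := fun z hz => by
          by_cases hzx : z = x
          · simp [hzx]
          · simp [hc z hz hzx]
        have := (Finset.card_le_card this).trans Finset.card_le_two
        omega
      have hzs : s = {x, p x, z} := by
        refine (Finset.eq_of_subset_of_card_le (Finset.insert_subset hx (Finset.insert_subset a1
          (Finset.singleton_subset_iff.mpr hz))) ?_).symm
        rw [hs, Finset.card_insert_of_notMem (by simp [n1.symm, hzx.1.symm]),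
          Finset.card_pair (fun e => hzx.2 e.symm)]
      have := hps z hz
      rw [hzs] at this
      simp only [Finset.mem_insert, Finset.mem_singleton] at this
      rcases this with e | e | e
      · exact hzx.2 (p.injective (e.trans h2.symm))
      · exact hzx.1 (p.injective e)
      · exact hno z hz e
    · have hzs : s = {x, p x, p (p x)} := by
        refine (Finset.eq_of_subset_of_card_le (Finset.insert_subset hx (Finset.insert_subset a1
          (Finset.singleton_subset_iff.mpr a2))) ?_).symm
        rw [hs, Finset.card_insert_of_notMem (by simp [n1.symm, Ne.symm h2]), Finset.card_pair n2.symm]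
      rw [hzs] at a3
      simp only [Finset.mem_insert, Finset.mem_singleton] at a3
      rcases a3 with e | e | e
      · exact h e
      · exact h2 (p.injective e)
      · exact n3 e
  have hiter : ∀ (n : ℕ) x, (⇑p)^[n] x = (p ^ n) x := fun n x => by rw [← Equiv.Perm.coe_pow]
  have ho' : Function.IsPeriodicPt p o x := by
    show (⇑p)^[o] x = x
    rw [hiter, hp, Equiv.Perm.one_apply]
  have hone := (h3.gcd ho')
  rw [((Nat.prime_three.coprime_iff_not_dvd).mpr ho).gcd_eq_one] at hone
  exact hno x hx hone

theorem coprime_three_of_mul {m : ℕ} (h : ¬ 3 ∣ m) : ¬ 3 ∣ 2 * m := fun e => by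
  rcases Nat.prime_three.dvd_mul.mp e with e | e
  · norm_num at e
  · exact h e

/-- The extra facts used over the field of three elements. -/
structure Three (hf : Frame A V Z F L₀) (S : Spec) (ν : @Num (Sc V Z) hf.base.field.toField) : Prop where
  exact' : S.exactB = true
  cj_id : ∀ z, S.cj z = z
  sq : ∀ r : Sc V Z, r ≠ 0 → r * r = 1
  tsc_one : S.tsc = [1]
  order : ¬ 3 ∣ Nat.card A
  cent : ∀ g : A, g ∈ centralizer (Z : Set A)
  neg : letI := hf.base.field.toField; ∃ s, s < S.sc.length ∧ ν.dec (S.sc.getD s 0) = -1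

theorem targets_length (t : List ℕ) : ∀ k, ∀ v ∈ Spec.targets t k, v.length = 2 ^ (k + 1)
  | 0, v, hv => by
    simp only [Spec.targets, List.mem_append, List.mem_map] at hv
    rcases hv with ⟨s, -, rfl⟩ | ⟨s, -, rfl⟩ <;> rfl
  | k + 1, v, hv => by
    simp only [Spec.targets, List.mem_append, List.mem_map] at hv
    rcases hv with ⟨w, hw, rfl⟩ | ⟨w, hw, rfl⟩ <;> simp [targets_length t k w hw, pow_succ] <;> omega

theorem targets_lt {q : ℕ} (hq : 1 < q) : ∀ k, ∀ v ∈ Spec.targets [1] k, ∀ z ∈ v, z < q
  | 0, v, hv => by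
    simp [Spec.targets] at hv
    rcases hv with rfl | rfl <;> simp <;> omega
  | k + 1, v, hv => by
    simp only [Spec.targets, List.mem_append, List.mem_map] at hv
    intro z hz
    rcases hv with ⟨w, hw, rfl⟩ | ⟨w, hw, rfl⟩ <;> simp only [List.mem_append, List.mem_replicate] at hz <;>
      rcases hz with h | h <;> first | exact targets_lt hq k w hw z h | (rw [h.2]; omega)

namespace Fits

variable (H : Fits hf S ν ce X W zs b₀ b₁)

include H

theorem withPair (x y rx ry : List ℕ) : Fits hf (S.withPair x y rx ry) ν ce X W zs b₀ b₁ :=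
  { ops := H.ops, size := H.size, ok := H.ok, gens := H.gens, two := H.two, family := H.family, squares := H.squares,
    fourth := H.fourth, index := H.index, cover := H.cover, zs_mem := H.zs_mem, zs_dec := H.zs_dec, zs_inj := H.zs_inj,
    zs_fourth := H.zs_fourth, roots := H.roots, span := H.span, conj_ok := H.conj_ok, auto := H.auto }

/-- A table of images of the spanning vectors. -/
def Maps (_H : Fits hf S ν ce X W zs b₀ b₁) (g : A) (E : List (List ℕ)) : Prop :=
  List.Forall₂ (fun t e => g • vecJ hf S ν X b₀ b₁ t = vecJ hf S ν X b₀ b₁ e) (Spec.targets S.tsc S.k) E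

theorem apply_comb {g : A} : ∀ {L E : List (List ℕ)},
    List.Forall₂ (fun t e => g • vecJ hf S ν X b₀ b₁ t = vecJ hf S ν X b₀ b₁ e) L E → ∀ c : List ℕ,
      g • vecJ hf S ν X b₀ b₁ (S.cert.comb c L) = vecJ hf S ν X b₀ b₁ (S.cert.comb c E) := by
  intro L E h
  have hz : vecJ hf S ν X b₀ b₁ S.cert.zero = 0 := H.vec_zero _
  induction h with
  | nil => intro c; cases c <;> simp [CertData.comb, hz]
  | @cons t e L E he _ ih =>
    intro c
    rcases c with _ | ⟨c, cs⟩
    · simp [CertData.comb, hz]
    show g • vecJ hf S ν X b₀ b₁ (S.o.vadd S.dim ((S.o.vadd S.dim t)^[c] S.cert.zero) (S.cert.comb cs L)) =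
      vecJ hf S ν X b₀ b₁ (S.o.vadd S.dim ((S.o.vadd S.dim e)^[c] S.cert.zero) (S.cert.comb cs E))
    rw [H.vec_add, H.vec_add, smul_add, ih cs]
    congr 1
    induction c with
    | zero => simp [hz]
    | succ c ih' => rw [Function.iterate_succ', Function.comp_apply, Function.iterate_succ', Function.comp_apply,
        H.vec_add, H.vec_add, smul_add, he, ih']

theorem maps_apply {g : A} {E : List (List ℕ)} (hM : H.Maps g E) {v : List ℕ}
    (hv : S.cert.comb v (Spec.targets S.tsc S.k) = v) :
    g • vecJ hf S ν X b₀ b₁ v = vecJ hf S ν X b₀ b₁ (S.cert.comb v E) := by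
  have := H.apply_comb hM v
  rwa [hv] at this

theorem maps_comp {g h : A} {E E' : List (List ℕ)} (h1 : H.Maps g E) (h2 : H.Maps h E') (hs : S.stableB E' = true) :
    H.Maps (g * h) (S.compT E E') := by
  simp only [Spec.stableB, List.all_eq_true, beq_iff_eq] at hs
  suffices key : ∀ L B : List (List ℕ),
      List.Forall₂ (fun t e => h • vecJ hf S ν X b₀ b₁ t = vecJ hf S ν X b₀ b₁ e) L B →
      (∀ e ∈ B, S.cert.comb e (Spec.targets S.tsc S.k) = e) →
      List.Forall₂ (fun t e => (g * h) • vecJ hf S ν X b₀ b₁ t = vecJ hf S ν X b₀ b₁ e) L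
        (B.map fun v => S.cert.comb v E) from key _ _ h2 hs
  intro L B hB
  induction hB with
  | nil => exact fun _ => List.Forall₂.nil
  | cons he _ ih =>
    intro hs'
    refine List.Forall₂.cons ?_ (ih fun e he' => hs' e (List.mem_cons_of_mem _ he'))
    rw [mul_smul, he, H.maps_apply h1 (hs' _ List.mem_cons_self)]

theorem fix_of_targets {g : A} (h : ∀ t ∈ Spec.targets S.tsc S.k, g • vecJ hf S ν X b₀ b₁ t = vecJ hf S ν X b₀ b₁ t) :
    g = 1 := by
  letI := hf.base.field.toField
  refine H.eq_one fun v => ?_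
  have hle : AddSubgroup.closure (vecJ hf S ν X b₀ b₁ '' {t | t ∈ Spec.targets S.tsc S.k}) ≤
      (AddMonoidHom.id V).eqLocus (DistribMulAction.toAddMonoidHom V g) :=
    (AddSubgroup.closure_le _).mpr (by rintro _ ⟨t, ht, rfl⟩; exact (h t ht).symm)
  exact (hle (H.targets_span v)).symm

/-- Data from the weighted sum give a pair. -/
theorem pair_phi (h : S.GoodPhi) : ∀ a : A, a • vecJ hf S ν X b₀ b₁ S.x = vecJ hf S ν X b₀ b₁ S.x →
    a • vecJ hf S ν X b₀ b₁ S.y = vecJ hf S ν X b₀ b₁ S.y → a = 1 := by
  obtain ⟨hphi, cols, htab, hp⟩ := h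
  intro a hx hy
  obtain ⟨π, hπ⟩ := H.exists_perm a
  obtain ⟨T, hT⟩ := H.exists_move hp hx hy
  exact H.fix_of_plain hπ hx hy htab (fun f => H.colour_eq (scalarAut hf.base a) (H.phi_move hT hphi hx hy hπ f)) hp

end Fits

end CfsgLib.BaseTwo
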