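import Cfsg.Agent.Lib.BaseTwo.Leaf
import Cfsg.Agent.Lib.BaseTwo.Cert

/-!
The computable part of a certificate for a tensor product of planes over a coded field.
-/

set_option autoImplicit false

namespace CfsgLib.BaseTwo

/-- A family of monomials and forms with two chosen vectors and their functionals. -/
structure Spec where
  o : Ops
  q : ℕ
  cj : ℕ → ℕ
  k : ℕ
  mats : List (List ℕ)
  forms : List (List ℕ)
  sc : List ℕ
  tsc : List ℕ
  x : List ℕ
  y : List ℕ
  rx : List ℕ
  ry : List ℕ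

namespace Spec

variable (S : Spec)

def n : ℕ := 4 * 4 ^ S.k * S.sc.length

def ia (f : ℕ) : ℕ := f / 4 % 2 ^ S.k

def ib (f : ℕ) : ℕ := f / (4 * 2 ^ S.k) % 2 ^ S.k

def isc (f : ℕ) : ℕ := f / (4 * 4 ^ S.k)

/-- One monomial. -/
def op (f : ℕ) (v : List ℕ) : List ℕ :=
  (S.o.opR S.k (S.ia f) (S.ib f) (S.mats.getD (f % 4) []) v).map (S.o.mul (S.sc.getD (S.isc f) 0))

/-- The code of four values. -/
def code (a b c d : ℕ) : ℕ := a + S.q * (b + S.q * (c + S.q * d))

/-- The colour of four values, blind to the conjugation. -/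
def code' (a b c d : ℕ) : ℕ := min (S.code a b c d) (S.code (S.cj a) (S.cj b) (S.cj c) (S.cj d))

/-- The colour of a monomial. -/
def colour (f : ℕ) : ℕ :=
  S.code' (S.o.dot S.rx (S.op f S.x)) (S.o.dot S.rx (S.op f S.y)) (S.o.dot S.ry (S.op f S.x)) (S.o.dot S.ry (S.op f S.y))

/-- The certificate data. -/
def cert : CertData := ⟨S.n, S.op, S.o.vadd (2 ^ (S.k + 1)), List.replicate (2 ^ (S.k + 1)) 0⟩

/-- The spanning vectors. -/
def targets (t : List ℕ) : ℕ → List (List ℕ)
  | 0 => t.map (fun s => [s, 0]) ++ t.map fun s => [0, s]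
  | k + 1 => (targets t k).map (· ++ List.replicate (2 ^ (k + 1)) 0) ++
      (targets t k).map (List.replicate (2 ^ (k + 1)) 0 ++ ·)

/-- One chain of steps reaching all spanning vectors. -/
def plainB (cols : List ℕ) (ss : List (ℕ × ℕ)) (cs : List (List ℕ)) : Bool :=
  S.cert.reaches (S.cert.grow cols [S.x, S.y] ss) (targets S.tsc S.k) cs

/-- The weight of a form at the first vector. -/
def weight (g : ℕ) : ℕ :=
  (S.o.mul (S.o.dot (S.o.rowR S.k (S.ia g) (S.ib g) (S.forms.getD (g % 4) []) S.x) S.x))^[S.q - 2] 1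

/-- The functional of the weighted sum of all forms. -/
def phiRow (v : List ℕ) : List ℕ :=
  ((List.range (4 * 4 ^ S.k)).map fun g =>
    (S.o.rowR S.k (S.ia g) (S.ib g) (S.forms.getD (g % 4) []) v).map (S.o.mul (S.weight g))).foldr
      (S.o.vadd (2 ^ (S.k + 1))) (List.replicate (2 ^ (S.k + 1)) 0)

/-- A partial weighted sum added to a given row. -/
def phiFold (v : List ℕ) (lo len : ℕ) (acc : List ℕ) : List ℕ :=
  ((List.range' lo len).map fun g =>
    (S.o.rowR S.k (S.ia g) (S.ib g) (S.forms.getD (g % 4) []) v).map (S.o.mul (S.weight g))).foldr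
      (S.o.vadd (2 ^ (S.k + 1))) acc

theorem phiFold_append {v : List ℕ} {lo a b : ℕ} {acc m r : List ℕ} (h1 : S.phiFold v (lo + a) b acc = m)
    (h2 : S.phiFold v lo a m = r) : S.phiFold v lo (a + b) acc = r := by
  subst h1 h2
  simp only [phiFold]
  rw [← List.range'_append_1, List.map_append, List.foldr_append]

/-- The rows are the weighted sum of all forms. -/
def phiB : Bool := S.phiRow S.x == S.rx && S.phiRow S.y == S.ry

theorem phiB_of_fold {n : ℕ} (hn : n = 4 * 4 ^ S.k)
    (hx : S.phiFold S.x 0 n (List.replicate (2 ^ (S.k + 1)) 0) = S.rx)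
    (hy : S.phiFold S.y 0 n (List.replicate (2 ^ (S.k + 1)) 0) = S.ry) : S.phiB = true := by
  simp only [phiFold, ← List.range_eq_range', hn] at hx hy
  simp only [phiB, phiRow, hx, hy, beq_self_eq_true, Bool.and_self]

/-- The rows are the first form, the only invariant one. -/
def firstRowB : Bool :=
  S.o.rowR S.k 0 0 (S.forms.getD 0 []) S.x == S.rx && S.o.rowR S.k 0 0 (S.forms.getD 0 []) S.y == S.ry &&
    S.o.firstB (S.mats.getD 1 []) (S.mats.getD 2 []) S.forms

/-- The colours on an interval. -/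
def tableB (lo len : ℕ) (part : List ℕ) : Bool := (List.range' lo len).map S.colour == part

theorem table_append {lo a b : ℕ} {p q : List ℕ} (h1 : S.tableB lo a p = true) (h2 : S.tableB (lo + a) b q = true) :
    S.tableB lo (a + b) (p ++ q) = true := by
  simp only [tableB, beq_iff_eq] at *
  rw [← List.range'_append_1, List.map_append, h1, h2]

theorem table_eq {n : ℕ} {cols : List ℕ} (h : S.tableB 0 n cols = true) (hn : n = S.n) :
    (List.range S.cert.n).map S.colour = cols := by
  simp only [tableB, beq_iff_eq] at h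
  rw [← h, hn, List.range_eq_range']
  rfl

end Spec

/-- Numbers modulo a prime. -/
def opsMod (p : ℕ) : Ops := ⟨fun a b => (a + b) % p, fun a b => a * b % p, fun a => (p - a % p) % p⟩

/-- Pairs modulo three, the second part a square root of minus one. -/
def opsNine : Ops :=
  ⟨fun a b => (a % 3 + b % 3) % 3 + 3 * ((a / 3 % 3 + b / 3 % 3) % 3),
   fun a b => (a % 3 * (b % 3) + 2 * (a / 3 % 3) * (b / 3 % 3)) % 3 + 3 * ((a % 3 * (b / 3 % 3) + a / 3 % 3 * (b % 3)) % 3),
   fun a => (3 - a % 3) % 3 + 3 * ((3 - a / 3 % 3) % 3)⟩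

/-- The conjugation of the pairs. -/
def cjNine (a : ℕ) : ℕ := a % 3 + 3 * ((3 - a / 3 % 3) % 3)

universe u

variable {K : Type u} [Field K] {ν : Num K}

theorem decT_map_mul (c : ℕ) : ∀ k (r : List ℕ), r.length = 2 ^ (k + 1) →
    decT ν k (r.map (ν.ops.mul c)) = smulT (ν.dec c) k (decT ν k r)
  | 0, r, h => by
    have hg : ∀ i, i < r.length → (r.map (ν.ops.mul c)).getD i 0 = ν.mul c (r.getD i 0) := fun i hi => by
      rw [List.getD_eq_getElem _ _ (by simpa using hi), List.getElem_map, List.getD_eq_getElem _ _ hi]; rfl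
    show (ν.dec _, ν.dec _) = (ν.dec c * ν.dec _, ν.dec c * ν.dec _)
    rw [hg 0 (by simp [h]), hg 1 (by simp [h]), ν.dec_mul, ν.dec_mul]
  | k + 1, r, h => by
    have h' : r.length = 2 ^ (k + 1) + 2 ^ (k + 1) := by rw [h, pow_succ]; omega
    show (decT ν k ((r.map _).take _), decT ν k ((r.map _).drop _)) = (smulT _ k _, smulT _ k _)
    rw [← List.map_take, ← List.map_drop, decT_map_mul c k _ (by rw [List.length_take]; omega),
      decT_map_mul c k _ (by rw [List.length_drop]; omega)]
    rfl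

theorem dot_map_mul (c : ℕ) : ∀ r v : List ℕ,
    ν.dec (ν.ops.dot (r.map (ν.ops.mul c)) v) = ν.dec c * ν.dec (ν.ops.dot r v)
  | [], v => by simp [Ops.dot, ν.dec_zero]
  | a :: r, [] => by simp [Ops.dot, ν.dec_zero]
  | a :: r, b :: v => by
    have := dot_map_mul c r v
    simp only [Num.ops] at this
    simp only [List.map_cons, Ops.dot, Num.ops, ν.dec_add, ν.dec_mul, this]
    ring

theorem vadd_length (o : Ops) : ∀ n (r s : List ℕ), (o.vadd n r s).length = n
  | 0, r, s => rfl
  | n + 1, r, s => by simp [Ops.vadd, vadd_length o n]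

theorem dot_vadd : ∀ n (r s v : List ℕ), r.length = n → s.length = n →
    ν.dec (ν.ops.dot (ν.ops.vadd n r s) v) = ν.dec (ν.ops.dot r v) + ν.dec (ν.ops.dot s v)
  | 0, r, s, v, hr, hs => by
    rw [List.length_eq_zero_iff.mp hr, List.length_eq_zero_iff.mp hs]
    simp [Ops.vadd, Ops.dot, ν.dec_zero]
  | n + 1, a :: r, b :: s, [], hr, hs => by simp [Ops.vadd, Ops.dot, ν.dec_zero]
  | n + 1, a :: r, b :: s, d :: v, hr, hs => by
    have := dot_vadd n r s v (by simpa using hr) (by simpa using hs)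
    simp only [Num.ops] at this
    simp only [Ops.vadd, List.getD_cons_zero, List.tail_cons, Ops.dot, Num.ops, ν.dec_add, ν.dec_mul, this]
    ring

theorem dot_zero_row : ∀ (n : ℕ) (v : List ℕ), ν.dec (ν.ops.dot (List.replicate n 0) v) = 0
  | 0, v => by simp [Ops.dot, ν.dec_zero]
  | n + 1, [] => by simp [List.replicate_succ, Ops.dot, ν.dec_zero]
  | n + 1, d :: v => by
    have := dot_zero_row n v
    simp only [Num.ops] at this
    simp [List.replicate_succ, Ops.dot, Num.ops, ν.dec_add, ν.dec_mul, ν.dec_zero, this]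

theorem dec_iterate_mul (b : ℕ) : ∀ m : ℕ, ν.dec ((ν.ops.mul b)^[m] 1) = ν.dec b ^ m
  | 0 => by simp [ν.dec_one]
  | m + 1 => by
    rw [Function.iterate_succ', Function.comp_apply, show ν.ops.mul b _ = ν.mul b _ from rfl, ν.dec_mul,
      dec_iterate_mul b m, pow_succ']

end CfsgLib.BaseTwo
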