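import Cfsg.Agent.Lib.BaseTwo.Frames
import Cfsg.Agent.Lib.BaseThree.Gens

/-!
Symplectic generators of a section of exponent two.
-/

set_option autoImplicit false

namespace CfsgLib.BaseTwo

open Subgroup CfsgLib.OddBase CfsgLib.BaseThree
open scoped commutatorElement

universe u

variable {A V : Type u} [Group A] [Finite A] [AddCommGroup V] [Finite V] [DistribMulAction A V]
  {Z F L : Subgroup A}

/-- The monomials of two generators. -/
def leafE (i j : A) : Fin 4 → A := ![1, i, j, i * j]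

/-- Generators of a subgroup: involution pairs and one last pair. -/
structure Pairs (R Z : Subgroup A) (k : ℕ) (X W : ℕ → A) (i j : A) : Prop where
  mem_X : ∀ t, t < k → X t ∈ R
  mem_W : ∀ t, t < k → W t ∈ R
  mem_i : i ∈ R
  mem_j : j ∈ R
  sq_X : ∀ t, t < k → X t ^ 2 = 1
  sq_W : ∀ t, t < k → W t ^ 2 = 1
  ne_XW : ∀ t, t < k → ⁅W t, X t⁆ ≠ 1
  comm_XX : ∀ s t, s < k → t < k → X s * X t = X t * X s
  comm_WW : ∀ s t, s < k → t < k → W s * W t = W t * W s
  comm_XW : ∀ s t, s < k → t < k → s ≠ t → X s * W t = W t * X s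
  comm_i : ∀ t, t < k → i * X t = X t * i ∧ i * W t = W t * i
  comm_j : ∀ t, t < k → j * X t = X t * j ∧ j * W t = W t * j
  ne : ⁅i, j⁆ ≠ 1
  cover : ∀ r ∈ R, ∃ z ∈ Z, ∃ a, a < 2 ^ k ∧ ∃ b, b < 2 ^ k ∧ ∃ c : Fin 4, r = z * elt (leafE i j) X W k a b c

/-- The facts used to split off pairs. -/
structure Sect (hf : Frame A V Z F L) (m : A) : Prop where
  mem : m ∈ Z
  ne : m ≠ 1
  squares : ∀ y ∈ F, y ^ 2 ∈ Z
  only : ∀ z ∈ Z, z ^ 2 = 1 → z = 1 ∨ z = m

theorem elt_congr (ce : Fin 4 → A) {X W X' W' : ℕ → A} : ∀ (j a b : ℕ) (c : Fin 4),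
    (∀ t, t < j → X t = X' t ∧ W t = W' t) → elt ce X W j a b c = elt ce X' W' j a b c
  | 0, _, _, _, _ => rfl
  | j + 1, a, b, c, h => by
    simp only [elt]
    rw [elt_congr ce j _ _ c fun t ht => h t (by omega), (h j (by omega)).1, (h j (by omega)).2]

variable {hf : Frame A V Z F L} {m : A}

theorem Sect.comm_values (hs : Sect hf m) {x y : A} (hx : x ∈ F) (hy : y ∈ F) : ⁅x, y⁆ = 1 ∨ ⁅x, y⁆ = m := by
  refine hs.only _ (hf.comm x hx y hy) ?_
  rw [← comm_pow_right hf hx hy 2]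
  exact hf.central_left (hf.cent hx) (hs.squares y hy)

theorem mul_sq (hf : Frame A V Z F L) {x y : A} (hx : x ∈ F) (hy : y ∈ F) : (x * y) ^ 2 = x ^ 2 * y ^ 2 * ⁅y, x⁆ := by
  rw [mul_pow_formula hf hx hy 2]
  norm_num

theorem Sect.bilin (hf : Frame A V Z F L) {r r' y : A} (hr : r ∈ F) (hr' : r' ∈ F) (hy : y ∈ F) :
    ⁅r * r', y⁆ = ⁅r, y⁆ * ⁅r', y⁆ := by
  rw [comm_mul_left, central_conj (hf.cent hr) (hf.comm r' hr' y hy)]
  exact hf.base.comm _ (hf.comm r' hr' y hy) _ (hf.comm r hr y hy)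

/-- A commutation map onto the pairs of signs. -/
theorem split_pair (hs : Sect hf m) {R : Subgroup A} (hR : R ≤ F) (hZR : Z ≤ R) {x y : A} (hx : x ∈ R) (hy : y ∈ R)
    (hxy : ⁅x, y⁆ ≠ 1) :
    ∃ R' : Subgroup A, R' ≤ R ∧ Z ≤ R' ∧ (∀ r ∈ R', r * x = x * r ∧ r * y = y * r) ∧
      ((∀ r ∈ R, (∀ w ∈ R, ⁅r, w⁆ = 1) → r ∈ Z) → ∀ r ∈ R', (∀ w ∈ R', ⁅r, w⁆ = 1) → r ∈ Z) ∧
      Z.relIndex R = 4 * Z.relIndex R' ∧
      ∀ r ∈ R, ∃ r' ∈ R', r = r' ∨ r = x * r' ∨ r = y * r' ∨ r = y * (x * r') := by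
  classical
  have hxF := hR hx
  have hyF := hR hy
  have hxy' : ⁅x, y⁆ = m := (hs.comm_values hxF hyF).resolve_left hxy
  have hyx : ⁅y, x⁆ = m := (hs.comm_values hyF hxF).resolve_left fun e =>
    hxy ((comm_eq_one_iff x y).mpr ((comm_eq_one_iff y x).mp e).symm)
  have hmm : m * m = 1 := by
    have h : ⁅x, y⁆ ^ 2 = 1 := by
      rw [← comm_pow_right hf hxF hyF 2]; exact hf.central_left (hf.cent hxF) (hs.squares y hyF)
    rw [← pow_two, ← hxy', h]
  let ψ : R →* Z × Z :=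
    { toFun := fun r => (⟨⁅(r : A), y⁆, hf.comm r (hR r.2) y hyF⟩, ⟨⁅(r : A), x⁆, hf.comm r (hR r.2) x hxF⟩)
      map_one' := by ext <;> simp
      map_mul' := fun r r' => by
        ext
        · exact Sect.bilin hf (hR r.2) (hR r'.2) hyF
        · exact Sect.bilin hf (hR r.2) (hR r'.2) hxF }
  let R' : Subgroup A := ψ.ker.map R.subtype
  have hmem : ∀ r, r ∈ R' ↔ r ∈ R ∧ ⁅r, y⁆ = 1 ∧ ⁅r, x⁆ = 1 := fun r => by
    constructor
    · rintro ⟨s, hs', rfl⟩
      have h : ψ s = 1 := hs'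
      exact ⟨s.2, congrArg (fun p : Z × Z => (p.1 : A)) h, congrArg (fun p : Z × Z => (p.2 : A)) h⟩
    · rintro ⟨hr, h1, h2⟩
      exact ⟨⟨r, hr⟩, Prod.ext (Subtype.ext h1) (Subtype.ext h2), rfl⟩
  have hZR' : Z ≤ R' := fun z hz => (hmem z).mpr ⟨hZR hz,
    (comm_eq_one_iff z y).mpr ((comm_eq_one_iff y z).mp (hf.central_left (hf.cent hyF) hz)).symm,
    (comm_eq_one_iff z x).mpr ((comm_eq_one_iff x z).mp (hf.central_left (hf.cent hxF) hz)).symm⟩
  have hle : R' ≤ R := fun r hr => ((hmem r).mp hr).1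
  have hcov : ∀ r ∈ R, ∃ r' ∈ R', r = r' ∨ r = x * r' ∨ r = y * r' ∨ r = y * (x * r') := by
    intro r hr
    have hmk : ∀ d ∈ R, ⁅d, y⁆ = ⁅r, y⁆ → ⁅d, x⁆ = ⁅r, x⁆ → d⁻¹ * r ∈ R' := fun d hd h1 h2 => by
      have e : ψ ⟨d, hd⟩ = ψ ⟨r, hr⟩ := Prod.ext (Subtype.ext h1) (Subtype.ext h2)
      have : ψ (⟨d, hd⟩⁻¹ * ⟨r, hr⟩) = 1 := by rw [map_mul, map_inv, e, inv_mul_cancel]
      exact ⟨⟨d, hd⟩⁻¹ * ⟨r, hr⟩, this, rfl⟩
    rcases hs.comm_values (hR hr) hyF with h1 | h1 <;> rcases hs.comm_values (hR hr) hxF with h2 | h2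
    · exact ⟨r, (hmem r).mpr ⟨hr, h1, h2⟩, Or.inl rfl⟩
    · exact ⟨y⁻¹ * r, hmk y hy (by rw [h1]; simp) (by rw [h2, hyx]), Or.inr (Or.inr (Or.inl (by group)))⟩
    · exact ⟨x⁻¹ * r, hmk x hx (by rw [h1, hxy']) (by rw [h2]; simp), Or.inr (Or.inl (by group))⟩
    · refine ⟨(y * x)⁻¹ * r, hmk (y * x) (R.mul_mem hy hx) ?_ ?_, Or.inr (Or.inr (Or.inr (by group)))⟩
      · rw [Sect.bilin hf hyF hxF hyF, h1, hxy']; simp
      · rw [Sect.bilin hf hyF hxF hxF, h2, hyx]; simp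
  refine ⟨R', hle, hZR', fun r hr => ⟨(comm_eq_one_iff r x).mp ((hmem r).mp hr).2.2,
    (comm_eq_one_iff r y).mp ((hmem r).mp hr).2.1⟩, fun hc r hr hcc => hc r (hle hr) fun w hw => ?_, ?_, hcov⟩
  · have hrF := hR (hle hr)
    have hrx := ((hmem r).mp hr).2.2
    have hry := ((hmem r).mp hr).2.1
    have key : ∀ {p q : A}, p ∈ F → q ∈ F → ⁅r, p⁆ = 1 → ⁅r, q⁆ = 1 → ⁅r, p * q⁆ = 1 := fun hp hq h1 h2 => by
      rw [comm_mul_right, h1, h2]; group
    obtain ⟨w', hw', rfl | rfl | rfl | rfl⟩ := hcov w hw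
    · exact hcc w hw'
    · exact key hxF (hR (hle hw')) hrx (hcc w' hw')
    · exact key hyF (hR (hle hw')) hry (hcc w' hw')
    · exact key hyF (F.mul_mem hxF (hR (hle hw'))) hry (key hxF (hR (hle hw')) hrx (hcc w' hw'))
  · have hker : (R'.subgroupOf R) = ψ.ker := by
      ext s
      refine ⟨fun h => ?_, fun h => ⟨s, h, rfl⟩⟩
      obtain ⟨t, ht, e⟩ := h
      exact Subtype.ext (show (t : A) = (s : A) from e) ▸ ht
    have hidx : R'.relIndex R = 4 := by
      show (R'.subgroupOf R).index = 4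
      rw [hker, Subgroup.index_ker]
      let f : Bool × Bool → ψ.range := fun p =>
        ⟨(⟨bif p.1 then m else 1, by cases p.1 <;> [exact one_mem Z; exact hs.mem]⟩,
          ⟨bif p.2 then m else 1, by cases p.2 <;> [exact one_mem Z; exact hs.mem]⟩), by
        rcases p with ⟨b, b'⟩
        cases b <;> cases b'
        · exact ⟨1, by ext <;> simp⟩
        · exact ⟨⟨y, hy⟩, by
            ext
            · show ⁅y, y⁆ = _; simp
            · show ⁅y, x⁆ = _; rw [hyx]; rfl⟩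
        · exact ⟨⟨x, hx⟩, by
            ext
            · show ⁅x, y⁆ = _; rw [hxy']; rfl
            · show ⁅x, x⁆ = _; simp⟩
        · exact ⟨⟨y * x, R.mul_mem hy hx⟩, by
            ext
            · show ⁅y * x, y⁆ = _; rw [Sect.bilin hf hyF hxF hyF, hxy']; simp
            · show ⁅y * x, x⁆ = _; rw [Sect.bilin hf hyF hxF hxF, hyx]; simp⟩⟩
      have hf' : Function.Bijective f := by
        refine ⟨fun p q e => ?_, fun w => ?_⟩
        · have e1 := congrArg (fun t : ψ.range => ((t : Z × Z).1 : A)) e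
          have e2 := congrArg (fun t : ψ.range => ((t : Z × Z).2 : A)) e
          rcases p with ⟨b, b'⟩
          rcases q with ⟨c, c'⟩
          cases b <;> cases b' <;> cases c <;> cases c' <;> simp [f, hs.ne, Ne.symm hs.ne] at e1 e2 ⊢
        · obtain ⟨_, r, rfl⟩ := w
          rcases hs.comm_values (hR r.2) hyF with h1 | h1 <;> rcases hs.comm_values (hR r.2) hxF with h2 | h2
          · exact ⟨(false, false), Subtype.ext (Prod.ext (Subtype.ext h1.symm) (Subtype.ext h2.symm))⟩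
          · exact ⟨(false, true), Subtype.ext (Prod.ext (Subtype.ext h1.symm) (Subtype.ext h2.symm))⟩
          · exact ⟨(true, false), Subtype.ext (Prod.ext (Subtype.ext h1.symm) (Subtype.ext h2.symm))⟩
          · exact ⟨(true, true), Subtype.ext (Prod.ext (Subtype.ext h1.symm) (Subtype.ext h2.symm))⟩
      rw [← Nat.card_eq_of_bijective f hf', Nat.card_prod, Nat.card_eq_fintype_card, Fintype.card_bool]
    rw [← Subgroup.relIndex_mul_relIndex Z R' R hZR' hle, hidx, mul_comm]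

/-- Pairs exist as long as two non-commuting involutions exist in every large non-degenerate subgroup. -/
theorem exists_pairs (hs : Sect hf m)
    (hinv : ∀ R : Subgroup A, R ≤ F → Z ≤ R → (∀ r ∈ R, (∀ w ∈ R, ⁅r, w⁆ = 1) → r ∈ Z) → 4 < Z.relIndex R →
      ∃ x ∈ R, ∃ y ∈ R, x ^ 2 = 1 ∧ y ^ 2 = 1 ∧ ⁅x, y⁆ ≠ 1) :
    ∀ k (R : Subgroup A), R ≤ F → Z ≤ R → (∀ r ∈ R, (∀ w ∈ R, ⁅r, w⁆ = 1) → r ∈ Z) →
      Z.relIndex R = 4 ^ (k + 1) →
      ∃ X W : ℕ → A, ∃ R₀ : Subgroup A, R₀ ≤ R ∧ Z ≤ R₀ ∧ Z.relIndex R₀ = 4 ∧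
        (∀ r ∈ R₀, (∀ w ∈ R₀, ⁅r, w⁆ = 1) → r ∈ Z) ∧
        ∀ i ∈ R₀, ∀ j ∈ R₀, ⁅i, j⁆ ≠ 1 → Pairs R Z k X W i j
  | 0, R, hR, hZR, hc, hi => by
    refine ⟨fun _ => 1, fun _ => 1, R, le_rfl, hZR, hi, hc, fun i hiR j hjR hij => ?_⟩
    obtain ⟨R', hle, hZR', -, -, hidx, hcov⟩ := split_pair hs hR hZR hiR hjR hij
    have h1 : Z.relIndex R' = 1 := by rw [hi] at hidx; omega
    have hR'Z : R' ≤ Z := Subgroup.relIndex_eq_one.mp h1
    have hcen : ∀ z ∈ Z, ∀ p ∈ F, p * z = z * p := fun z hz p hp =>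
      (comm_eq_one_iff p z).mp (hf.central_left (hf.cent hp) hz)
    refine ⟨fun t ht => absurd ht (by omega), fun t ht => absurd ht (by omega), hiR, hjR,
      fun t ht => absurd ht (by omega), fun t ht => absurd ht (by omega), fun t ht => absurd ht (by omega),
      fun t s ht => absurd ht (by omega), fun t s ht => absurd ht (by omega), fun t s ht => absurd ht (by omega),
      fun t ht => absurd ht (by omega), fun t ht => absurd ht (by omega), hij, fun r hr => ?_⟩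
    obtain ⟨r', hr', e⟩ := hcov r hr
    have hz := hR'Z hr'
    have hcr := hcen r' hz
    have hiF := hR hiR
    have hjF := hR hjR
    rcases e with e | e | e | e
    · exact ⟨r', hz, 0, Nat.one_pos, 0, Nat.one_pos, 0, by simp [elt, leafE, e]⟩
    · exact ⟨r', hz, 0, Nat.one_pos, 0, Nat.one_pos, 1, by simp [elt, leafE, e, hcr i hiF]⟩
    · exact ⟨r', hz, 0, Nat.one_pos, 0, Nat.one_pos, 2, by simp [elt, leafE, e, hcr j hjF]⟩
    · have hm1 : ⁅j, i⁆ ∈ Z := hf.comm j hjF i hiF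
      have hji : j * i = ⁅j, i⁆ * (i * j) := by simp [commutatorElement_def, mul_assoc]
      refine ⟨⁅j, i⁆ * r', Z.mul_mem hm1 hz, 0, Nat.one_pos, 0, Nat.one_pos, 3, ?_⟩
      show r = ⁅j, i⁆ * r' * (i * j)
      rw [e, ← mul_assoc j i r', hji, mul_assoc ⁅j, i⁆ r', mul_assoc ⁅j, i⁆ (i * j), hcr (i * j) (F.mul_mem hiF hjF)]
  | k + 1, R, hR, hZR, hc, hi => by
    obtain ⟨x, hxR, y, hyR, hx2, hy2, hxy⟩ := hinv R hR hZR hc (by
      rw [hi, pow_succ]
      have : 1 < 4 ^ (k + 1) := Nat.one_lt_pow (Nat.succ_ne_zero k) (by norm_num)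
      omega)
    obtain ⟨R', hle, hZR', hcomm, hcen', hidx, hcov⟩ := split_pair hs hR hZR hxR hyR hxy
    obtain ⟨X, W, R₀, h0R, hZ0, h0i, h0c, hP⟩ := exists_pairs hs hinv k R' (hle.trans hR) hZR' (hcen' hc) (by
      rw [hi, pow_succ] at hidx
      omega)
    let X' : ℕ → A := fun t => if t = k then x else X t
    let W' : ℕ → A := fun t => if t = k then y else W t
    refine ⟨X', W', R₀, h0R.trans hle, hZ0, h0i, h0c, fun i hiR j hjR hij => ?_⟩
    have P := hP i hiR j hjR hij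
    have hX' : ∀ t, t < k → X' t = X t ∧ W' t = W t := fun t ht => by simp [X', W', ht.ne]
    have hXk : X' k = x := by simp [X']
    have hWk : W' k = y := by simp [W']
    have hyx : ⁅y, x⁆ ≠ 1 := fun e => hxy ((comm_eq_one_iff x y).mpr ((comm_eq_one_iff y x).mp e).symm)
    have hcase : ∀ t, t < k + 1 → t = k ∨ t < k := fun t ht => by omega
    refine ⟨fun t ht => ?_, fun t ht => ?_, hle P.mem_i, hle P.mem_j, fun t ht => ?_, fun t ht => ?_, fun t ht => ?_,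
      fun s t hs' ht => ?_, fun s t hs' ht => ?_, fun s t hs' ht hne => ?_, fun t ht => ?_, fun t ht => ?_, hij,
      fun r hr => ?_⟩
    · rcases hcase t ht with rfl | h
      · rw [hXk]; exact hxR
      · rw [(hX' t h).1]; exact hle (P.mem_X t h)
    · rcases hcase t ht with rfl | h
      · rw [hWk]; exact hyR
      · rw [(hX' t h).2]; exact hle (P.mem_W t h)
    · rcases hcase t ht with rfl | h
      · rw [hXk, hx2]
      · rw [(hX' t h).1]; exact P.sq_X t h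
    · rcases hcase t ht with rfl | h
      · rw [hWk, hy2]
      · rw [(hX' t h).2]; exact P.sq_W t h
    · rcases hcase t ht with rfl | h
      · rw [hWk, hXk]; exact hyx
      · rw [(hX' t h).1, (hX' t h).2]; exact P.ne_XW t h
    · rcases hcase s hs' with rfl | h1 <;> rcases hcase t ht with rfl | h2
      · rfl
      · rw [hXk, (hX' t h2).1]; exact (hcomm _ (P.mem_X t h2)).1.symm
      · rw [hXk, (hX' s h1).1]; exact (hcomm _ (P.mem_X s h1)).1
      · rw [(hX' s h1).1, (hX' t h2).1]; exact P.comm_XX s t h1 h2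
    · rcases hcase s hs' with rfl | h1 <;> rcases hcase t ht with rfl | h2
      · rfl
      · rw [hWk, (hX' t h2).2]; exact (hcomm _ (P.mem_W t h2)).2.symm
      · rw [hWk, (hX' s h1).2]; exact (hcomm _ (P.mem_W s h1)).2
      · rw [(hX' s h1).2, (hX' t h2).2]; exact P.comm_WW s t h1 h2
    · rcases hcase s hs' with rfl | h1 <;> rcases hcase t ht with rfl | h2
      · exact absurd rfl hne
      · rw [hXk, (hX' t h2).2]; exact (hcomm _ (P.mem_W t h2)).1.symm
      · rw [hWk, (hX' s h1).1]; exact (hcomm _ (P.mem_X s h1)).2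
      · rw [(hX' s h1).1, (hX' t h2).2]; exact P.comm_XW s t h1 h2 hne
    · rcases hcase t ht with rfl | h
      · rw [hXk, hWk]; exact hcomm i P.mem_i
      · rw [(hX' t h).1, (hX' t h).2]; exact P.comm_i t h
    · rcases hcase t ht with rfl | h
      · rw [hXk, hWk]; exact hcomm j P.mem_j
      · rw [(hX' t h).1, (hX' t h).2]; exact P.comm_j t h
    · obtain ⟨r', hr', e⟩ := hcov r hr
      obtain ⟨z, hz, a, ha, b, hb, c, he⟩ := P.cover r' hr'
      have hel : ∀ α β : ℕ, α ≤ 1 → β ≤ 1 → elt (leafE i j) X' W' (k + 1) (a + 2 ^ k * α) (b + 2 ^ k * β) c =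
          (if β = 1 then y else 1) * ((if α = 1 then x else 1) * elt (leafE i j) X W k a b c) := fun α β hα hβ => by
        have hp : 0 < 2 ^ k := pow_pos two_pos k
        simp only [elt]
        rw [Nat.add_mul_div_left _ _ hp, Nat.add_mul_div_left _ _ hp, Nat.div_eq_of_lt ha, Nat.div_eq_of_lt hb,
          zero_add, zero_add, Nat.add_mul_mod_self_left, Nat.add_mul_mod_self_left, Nat.mod_eq_of_lt ha,
          Nat.mod_eq_of_lt hb, hXk, hWk, elt_congr _ k a b c (fun t ht => hX' t ht)]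
      have hzc : ∀ p ∈ F, ∀ w : A, p * (z * w) = z * (p * w) := fun p hp w => by
        rw [← mul_assoc, ← mul_assoc, (comm_eq_one_iff p z).mp (hf.central_left (hf.cent hp) hz)]
      have hlt : ∀ n α, n < 2 ^ k → α ≤ 1 → n + 2 ^ k * α < 2 ^ (k + 1) := fun n α hn hα => by
        rw [pow_succ]; nlinarith
      rcases e with e | e | e | e
      · exact ⟨z, hz, _, hlt a 0 ha (by norm_num), _, hlt b 0 hb (by norm_num), c, by
          rw [hel 0 0 (by norm_num) (by norm_num), e, he]; simp⟩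
      · exact ⟨z, hz, _, hlt a 1 ha le_rfl, _, hlt b 0 hb (by norm_num), c, by
          rw [hel 1 0 le_rfl (by norm_num), e, he, hzc x (hR hxR)]; simp⟩
      · exact ⟨z, hz, _, hlt a 0 ha (by norm_num), _, hlt b 1 hb le_rfl, c, by
          rw [hel 0 1 (by norm_num) le_rfl, e, he, hzc y (hR hyR)]; simp⟩
      · exact ⟨z, hz, _, hlt a 1 ha le_rfl, _, hlt b 1 hb le_rfl, c, by
          rw [hel 1 1 le_rfl le_rfl, e, he, hzc x (hR hxR), hzc y (hR hyR)]; simp⟩

end CfsgLib.BaseTwo
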