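import Mathlib

/-!
Coordinate trees for tensor products of planes: operators, forms and their codes by lists of numbers.
-/

set_option autoImplicit false

namespace CfsgLib.BaseTwo

universe u

/-- Numbers coding a finite field. -/
structure Num (K : Type u) [Field K] where
  q : ℕ
  add : ℕ → ℕ → ℕ
  mul : ℕ → ℕ → ℕ
  neg : ℕ → ℕ
  dec : ℕ → K
  dec_add : ∀ a b, dec (add a b) = dec a + dec b
  dec_mul : ∀ a b, dec (mul a b) = dec a * dec b
  dec_neg : ∀ a, dec (neg a) = -dec a
  dec_zero : dec 0 = 0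
  dec_one : dec 1 = 1

/-- The bare operations, for computing. -/
structure Ops where
  add : ℕ → ℕ → ℕ
  mul : ℕ → ℕ → ℕ
  neg : ℕ → ℕ

variable {K : Type u} [Field K]

def Num.ops (ν : Num K) : Ops := ⟨ν.add, ν.mul, ν.neg⟩

namespace Ops

variable (o : Ops)

/-- The image of a list under a tensor monomial. -/
def opR : ℕ → ℕ → ℕ → List ℕ → List ℕ → List ℕ
  | 0, _, _, M, v =>
    [o.add (o.mul (M.getD 0 0) (v.getD 0 0)) (o.mul (M.getD 1 0) (v.getD 1 0)),
     o.add (o.mul (M.getD 2 0) (v.getD 0 0)) (o.mul (M.getD 3 0) (v.getD 1 0))]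
  | k + 1, a, b, M, v =>
    let n := 2 ^ (k + 1)
    let l := opR k (a % 2 ^ k) (b % 2 ^ k) M (if a / 2 ^ k = 1 then v.drop n else v.take n)
    let r := opR k (a % 2 ^ k) (b % 2 ^ k) M (if a / 2 ^ k = 1 then v.take n else v.drop n)
    l ++ (if b / 2 ^ k = 1 then r.map o.neg else r)

/-- The linear functional given by a vector under a tensor form. -/
def rowR : ℕ → ℕ → ℕ → List ℕ → List ℕ → List ℕ
  | 0, _, _, M, v =>
    [o.add (o.mul (v.getD 0 0) (M.getD 0 0)) (o.mul (v.getD 1 0) (M.getD 2 0)),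
     o.add (o.mul (v.getD 0 0) (M.getD 1 0)) (o.mul (v.getD 1 0) (M.getD 3 0))]
  | k + 1, a, b, M, v =>
    let n := 2 ^ (k + 1)
    let l := rowR k (a % 2 ^ k) (b % 2 ^ k) M (v.take n)
    let r := rowR k (a % 2 ^ k) (b % 2 ^ k) M (v.drop n)
    let r' := if b / 2 ^ k = 1 then r.map o.neg else r
    if a / 2 ^ k = 1 then r' ++ l else l ++ r'

/-- The dot product. -/
def dot : List ℕ → List ℕ → ℕ
  | r :: rs, v :: vs => o.add (o.mul r v) (dot rs vs)
  | _, _ => 0

/-- Addition of lists of a given length. -/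
def vadd : ℕ → List ℕ → List ℕ → List ℕ
  | 0, _, _ => []
  | n + 1, v, w => o.add (v.getD 0 0) (w.getD 0 0) :: vadd n v.tail w.tail

theorem opR_length : ∀ k a b M v, (o.opR k a b M v).length = 2 ^ (k + 1)
  | 0, a, b, M, v => rfl
  | k + 1, a, b, M, v => by
    simp only [opR, List.length_append]
    split_ifs <;> simp [opR_length k, pow_succ'] <;> ring

theorem rowR_length : ∀ k a b M v, (o.rowR k a b M v).length = 2 ^ (k + 1)
  | 0, a, b, M, v => rfl
  | k + 1, a, b, M, v => by
    simp only [rowR]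
    split_ifs <;> simp [rowR_length k, pow_succ'] <;> ring

theorem vadd_take : ∀ (n m : ℕ) (v w : List ℕ),
    (o.vadd (n + m) v w).take n = o.vadd n (v.take n) (w.take n) ∧
      (o.vadd (n + m) v w).drop n = o.vadd m (v.drop n) (w.drop n)
  | 0, m, v, w => by simp [vadd]
  | n + 1, m, v, w => by
    obtain ⟨h1, h2⟩ := vadd_take n m v.tail w.tail
    have e : n + 1 + m = (n + m) + 1 := by omega
    rw [e, vadd]
    refine ⟨?_, ?_⟩
    · rw [List.take_succ_cons, h1, vadd]
      cases v <;> cases w <;> simp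
    · rw [List.drop_succ_cons, h2]
      simp [List.drop_tail]

end Ops

/-- Trees of height `k` over planes. -/
def Tree (K : Type u) : ℕ → Type u
  | 0 => K × K
  | k + 1 => Tree K k × Tree K k

instance instTreeGroup {K : Type u} [AddCommGroup K] : ∀ k, AddCommGroup (Tree K k)
  | 0 => inferInstanceAs (AddCommGroup (K × K))
  | k + 1 => @Prod.instAddCommGroup _ _ (instTreeGroup k) (instTreeGroup k)

/-- Scalar multiples of a tree. -/
def smulT (r : K) : ∀ k, Tree K k → Tree K k
  | 0, v => ((r * v.1, r * v.2) : K × K)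
  | k + 1, v => (smulT r k v.1, smulT r k v.2)

/-- A tensor monomial on trees. -/
def opW : ∀ k, ℕ → ℕ → (ℕ → K) → Tree K k → Tree K k
  | 0, _, _, m, v => ((m 0 * v.1 + m 1 * v.2, m 2 * v.1 + m 3 * v.2) : K × K)
  | k + 1, a, b, m, v =>
    let l := opW k (a % 2 ^ k) (b % 2 ^ k) m (if a / 2 ^ k = 1 then v.2 else v.1)
    let r := opW k (a % 2 ^ k) (b % 2 ^ k) m (if a / 2 ^ k = 1 then v.1 else v.2)
    (l, if b / 2 ^ k = 1 then -r else r)

/-- A tensor form on trees. -/
def formW : ∀ k, ℕ → ℕ → (ℕ → K) → Tree K k → Tree K k → K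
  | 0, _, _, m, v, w => v.1 * (m 0 * w.1 + m 1 * w.2) + v.2 * (m 2 * w.1 + m 3 * w.2)
  | k + 1, a, b, m, v, w =>
    let x := formW k (a % 2 ^ k) (b % 2 ^ k) m v.1 (if a / 2 ^ k = 1 then w.2 else w.1)
    let y := formW k (a % 2 ^ k) (b % 2 ^ k) m v.2 (if a / 2 ^ k = 1 then w.1 else w.2)
    x + if b / 2 ^ k = 1 then -y else y

/-- The tree of a list. -/
def decT (ν : Num K) : ∀ k, List ℕ → Tree K k
  | 0, v => ((ν.dec (v.getD 0 0), ν.dec (v.getD 1 0)) : K × K)
  | k + 1, v => (decT ν k (v.take (2 ^ (k + 1))), decT ν k (v.drop (2 ^ (k + 1))))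

/-- The decoded entries of a matrix. -/
def decM (ν : Num K) (M : List ℕ) : ℕ → K := fun i => ν.dec (M.getD i 0)

variable (ν : Num K)

theorem decT_take : ∀ k (v : List ℕ), decT ν k (v.take (2 ^ (k + 1))) = decT ν k v
  | 0, v => by
    rcases v with _ | ⟨a, _ | ⟨b, v⟩⟩ <;> simp [decT] <;> rfl
  | k + 1, v => by
    have h1 : (v.take (2 ^ (k + 2))).take (2 ^ (k + 1)) = v.take (2 ^ (k + 1)) := by
      rw [List.take_take]; congr 1; simp [pow_succ]
    have h2 : decT ν k ((v.take (2 ^ (k + 2))).drop (2 ^ (k + 1))) = decT ν k (v.drop (2 ^ (k + 1))) := by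
      rw [List.drop_take, show 2 ^ (k + 2) - 2 ^ (k + 1) = 2 ^ (k + 1) by simp [pow_succ]; omega, decT_take k]
    show (decT ν k _, decT ν k _) = (decT ν k _, decT ν k _)
    rw [h1, h2]

theorem map_neg_getD : ∀ (r : List ℕ) (i : ℕ), i < r.length → (r.map ν.ops.neg).getD i 0 = ν.neg (r.getD i 0)
  | r, i, h => by
    rw [List.getD_eq_getElem _ _ (by simpa using h), List.getElem_map, List.getD_eq_getElem _ _ h]
    rfl

theorem decT_neg : ∀ k (r : List ℕ), r.length = 2 ^ (k + 1) → decT ν k (r.map ν.ops.neg) = -decT ν k r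
  | 0, r, h => by
    show (ν.dec _, ν.dec _) = (-ν.dec _, -ν.dec _)
    rw [map_neg_getD ν r 0 (by simp [h]), map_neg_getD ν r 1 (by simp [h]), ν.dec_neg, ν.dec_neg]
  | k + 1, r, h => by
    have h' : r.length = 2 ^ (k + 1) + 2 ^ (k + 1) := by rw [h, pow_succ]; omega
    show (decT ν k ((r.map ν.ops.neg).take _), decT ν k ((r.map ν.ops.neg).drop _)) = (-decT ν k _, -decT ν k _)
    rw [← List.map_take, ← List.map_drop, decT_neg k _ (by rw [List.length_take]; omega),
      decT_neg k _ (by rw [List.length_drop]; omega)]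

theorem decT_append {k : ℕ} {l r : List ℕ} (hl : l.length = 2 ^ (k + 1)) :
    decT ν (k + 1) (l ++ r) = (decT ν k l, decT ν k r) := by
  show (decT ν k _, decT ν k _) = _
  rw [List.take_left' hl, List.drop_left' hl]

theorem decT_opR : ∀ k a b M v, decT ν k (ν.ops.opR k a b M v) = opW k a b (decM ν M) (decT ν k v)
  | 0, a, b, M, v => by
    simp only [Ops.opR, decT, opW, Num.ops, List.getD_cons_zero, List.getD_cons_succ, ν.dec_add, ν.dec_mul, decM]
    rfl
  | k + 1, a, b, M, v => by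
    simp only [Ops.opR]
    rw [decT_append ν (Ops.opR_length _ _ _ _ _ _)]
    by_cases hb : b / 2 ^ k = 1
    · rw [if_pos hb, decT_neg ν k _ (Ops.opR_length _ _ _ _ _ _), decT_opR k, decT_opR k]
      simp only [opW, if_pos hb, decT]
      split_ifs <;> rfl
    · rw [if_neg hb, decT_opR k, decT_opR k]
      simp only [opW, if_neg hb, decT]
      split_ifs <;> rfl

theorem decT_vadd : ∀ k v w, decT ν k (ν.ops.vadd (2 ^ (k + 1)) v w) = decT ν k v + decT ν k w
  | 0, v, w => by
    show (ν.dec _, ν.dec _) = (ν.dec _ + ν.dec _, ν.dec _ + ν.dec _)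
    have e : 2 ^ (0 + 1) = 1 + 1 := rfl
    simp only [e, Ops.vadd, List.getD_cons_zero, List.getD_cons_succ, Num.ops, ν.dec_add]
    cases v <;> cases w <;> simp
  | k + 1, v, w => by
    show (decT ν k _, decT ν k _) = (decT ν k _ + decT ν k _, decT ν k _ + decT ν k _)
    have e : 2 ^ (k + 1 + 1) = 2 ^ (k + 1) + 2 ^ (k + 1) := by rw [pow_succ]; omega
    rw [e, (Ops.vadd_take _ _ _ v w).1, (Ops.vadd_take _ _ _ v w).2, decT_vadd k, decT_vadd k]

theorem decT_zero : ∀ k n, decT ν k (List.replicate n 0) = 0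
  | 0, n => by
    show (ν.dec _, ν.dec _) = ((0, 0) : K × K)
    simp [List.getD_eq_getElem?_getD, List.getElem?_replicate]
    constructor <;> split_ifs <;> simp [ν.dec_zero]
  | k + 1, n => by
    show (decT ν k _, decT ν k _) = (0, 0)
    rw [List.take_replicate, List.drop_replicate, decT_zero k, decT_zero k]

theorem dot_append : ∀ (l r v : List ℕ), ν.dec (ν.ops.dot (l ++ r) v) =
    ν.dec (ν.ops.dot l (v.take l.length)) + ν.dec (ν.ops.dot r (v.drop l.length))
  | [], r, v => by simp [Ops.dot, ν.dec_zero]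
  | x :: l, r, [] => by
    cases r <;> simp [Ops.dot, ν.dec_zero]
  | x :: l, r, y :: v => by
    simp only [List.cons_append, List.length_cons, List.take_succ_cons, List.drop_succ_cons, Ops.dot, Num.ops]
    have := dot_append l r v
    simp only [Num.ops] at this
    rw [ν.dec_add, ν.dec_add, this, add_assoc]

theorem dot_neg : ∀ (r v : List ℕ), ν.dec (ν.ops.dot (r.map ν.ops.neg) v) = -ν.dec (ν.ops.dot r v)
  | [], v => by simp [Ops.dot, ν.dec_zero]
  | x :: r, [] => by simp [Ops.dot, ν.dec_zero]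
  | x :: r, y :: v => by
    have := dot_neg r v
    simp only [Num.ops] at this
    simp only [List.map_cons, Ops.dot, Num.ops, ν.dec_add, ν.dec_mul, ν.dec_neg, this]
    ring

theorem dot_rowR : ∀ k a b M v w,
    ν.dec (ν.ops.dot (ν.ops.rowR k a b M v) w) = formW k a b (decM ν M) (decT ν k v) (decT ν k w)
  | 0, a, b, M, v, w => by
    rcases w with _ | ⟨w₀, _ | ⟨w₁, w⟩⟩ <;>
      simp [Ops.rowR, Ops.dot, Num.ops, formW, decT, decM, ν.dec_add, ν.dec_mul, ν.dec_zero] <;> ring
  | k + 1, a, b, M, v, w => by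
    simp only [Ops.rowR]
    have hr := Ops.rowR_length ν.ops k (a % 2 ^ k) (b % 2 ^ k) M
    by_cases ha : a / 2 ^ k = 1 <;> by_cases hb : b / 2 ^ k = 1 <;>
      simp only [if_pos, if_neg, ha, hb, not_false_iff, dot_append, dot_neg, List.length_map, hr, dot_rowR k,
        formW, decT, decT_take] <;> ring

end CfsgLib.BaseTwo
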