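import Cfsg.Agent.Lib.BaseTwo.Tree

/-!
The forms semi-invariant under all tensor monomials.
-/

set_option autoImplicit false

namespace CfsgLib.BaseTwo

universe u

variable {K : Type u} [Field K]

theorem formW_add_left : ∀ k a b (m : ℕ → K) (v v' w : Tree K k),
    formW k a b m (v + v') w = formW k a b m v w + formW k a b m v' w
  | 0, a, b, m, v, v', w => by
    show (v.1 + v'.1) * _ + (v.2 + v'.2) * _ = _
    simp only [formW]; ring
  | k + 1, a, b, m, v, v', w => by
    simp only [formW]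
    rw [show (v + v').1 = v.1 + v'.1 from rfl, show (v + v').2 = v.2 + v'.2 from rfl, formW_add_left k, formW_add_left k]
    split_ifs <;> ring

theorem formW_add_right : ∀ k a b (m : ℕ → K) (v w w' : Tree K k),
    formW k a b m v (w + w') = formW k a b m v w + formW k a b m v w'
  | 0, a, b, m, v, w, w' => by
    show v.1 * (m 0 * (w.1 + w'.1) + m 1 * (w.2 + w'.2)) + v.2 * (m 2 * (w.1 + w'.1) + m 3 * (w.2 + w'.2)) = _
    simp only [formW]; ring
  | k + 1, a, b, m, v, w, w' => by
    simp only [formW]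
    rw [show (w + w').1 = w.1 + w'.1 from rfl, show (w + w').2 = w.2 + w'.2 from rfl]
    split_ifs <;> rw [formW_add_right k, formW_add_right k] <;> ring

theorem formW_smul : ∀ k a b (m : ℕ → K) (r s : K) (v w : Tree K k),
    formW k a b m (smulT r k v) (smulT s k w) = r * s * formW k a b m v w
  | 0, a, b, m, r, s, v, w => by
    simp only [formW, smulT]; ring
  | k + 1, a, b, m, r, s, v, w => by
    simp only [formW, smulT]
    split_ifs <;> rw [formW_smul k, formW_smul k] <;> ring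

theorem formW_neg_left (k a b : ℕ) (m : ℕ → K) (v w : Tree K k) : formW k a b m (-v) w = -formW k a b m v w := by
  have h0 : formW k a b m 0 w = 0 := by
    have := formW_add_left k a b m 0 0 w
    rwa [add_zero, left_eq_add] at this
  have := formW_add_left k a b m v (-v) w
  rw [add_neg_cancel, h0] at this
  linear_combination -this

theorem formW_neg_right (k a b : ℕ) (m : ℕ → K) (v w : Tree K k) : formW k a b m v (-w) = -formW k a b m v w := by
  have h0 : formW k a b m v 0 = 0 := by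
    have := formW_add_right k a b m v 0 0
    rwa [add_zero, left_eq_add] at this
  have := formW_add_right k a b m v w (-w)
  rw [add_neg_cancel, h0] at this
  linear_combination -this

theorem formW_zero_left (k a b : ℕ) (m : ℕ → K) (w : Tree K k) : formW k a b m 0 w = 0 := by
  have := formW_add_left k a b m 0 0 w
  rwa [add_zero, left_eq_add] at this

theorem formW_zero_right (k a b : ℕ) (m : ℕ → K) (v : Tree K k) : formW k a b m v 0 = 0 := by
  have := formW_add_right k a b m v 0 0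
  rwa [add_zero, left_eq_add] at this

/-- Every form is semi-invariant under every monomial. -/
theorem formW_semi {g m : ℕ → K} {χ : K}
    (hleaf : ∀ v w : Tree K 0, formW 0 0 0 m (opW 0 0 0 g v) (opW 0 0 0 g w) = χ * formW 0 0 0 m v w) :
    ∀ k a b a' b', ∃ ε : K, (ε = 1 ∨ ε = -1) ∧ ∀ v w : Tree K k,
      formW k a b m (opW k a' b' g v) (opW k a' b' g w) = ε * χ * formW k a b m v w
  | 0, a, b, a', b' => ⟨1, Or.inl rfl, fun v w => by rw [one_mul]; exact hleaf v w⟩
  | k + 1, a, b, a', b' => by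
    obtain ⟨ε, hε, h⟩ := formW_semi hleaf k (a % 2 ^ k) (b % 2 ^ k) (a' % 2 ^ k) (b' % 2 ^ k)
    refine ⟨(if a' / 2 ^ k = 1 ∧ b / 2 ^ k = 1 then -1 else 1) * (if b' / 2 ^ k = 1 ∧ a / 2 ^ k = 1 then -1 else 1) * ε,
      ?_, fun v w => ?_⟩
    · rcases hε with rfl | rfl <;> split_ifs <;> simp
    · by_cases h1 : a / 2 ^ k = 1 <;> by_cases h2 : b / 2 ^ k = 1 <;> by_cases h3 : a' / 2 ^ k = 1 <;>
        by_cases h4 : b' / 2 ^ k = 1 <;>
        simp only [formW, opW, h1, h2, h3, h4, if_true, if_false, formW_neg_left, formW_neg_right, h, and_self,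
          and_true, and_false, true_and, false_and] <;> ring

/-- A bilinear form on trees. -/
structure Bilin (k : ℕ) (D : Tree K k → Tree K k → K) : Prop where
  addl : ∀ v v' w, D (v + v') w = D v w + D v' w
  addr : ∀ v w w', D v (w + w') = D v w + D v w'
  smul : ∀ r s v w, D (smulT r k v) (smulT s k w) = r * s * D v w

theorem formW_bilin (k a b : ℕ) (m : ℕ → K) : Bilin k (formW k a b m) :=
  ⟨formW_add_left k a b m, formW_add_right k a b m, formW_smul k a b m⟩

namespace Bilin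

variable {k : ℕ} {D : Tree K k → Tree K k → K}

theorem zero_left (h : Bilin k D) (w : Tree K k) : D 0 w = 0 := by
  have := h.addl 0 0 w
  rwa [add_zero, left_eq_add] at this

theorem zero_right (h : Bilin k D) (v : Tree K k) : D v 0 = 0 := by
  have := h.addr v 0 0
  rwa [add_zero, left_eq_add] at this

theorem neg_left (h : Bilin k D) (v w : Tree K k) : D (-v) w = -D v w := by
  have := h.addl v (-v) w
  rw [add_neg_cancel, h.zero_left] at this
  linear_combination -this

theorem neg_right (h : Bilin k D) (v w : Tree K k) : D v (-w) = -D v w := by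
  have := h.addr v w (-w)
  rw [add_neg_cancel, h.zero_right] at this
  linear_combination -this

end Bilin

/-- The identity matrix. -/
def oneM : ℕ → K := fun i => if i = 0 ∨ i = 3 then 1 else 0

theorem opW_one : ∀ k (v : Tree K k), opW k 0 0 oneM v = v
  | 0, v => by simp [opW, oneM]; rfl
  | k + 1, v => by simp [opW, Nat.zero_div, Nat.zero_mod, opW_one k]; rfl

/-- Semi-invariance under the generators. -/
def SemiInv (g₁ g₂ : ℕ → K) (k : ℕ) (D : Tree K k → Tree K k → K) : Prop :=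
  (∃ χ, ∀ v w, D (opW k 0 0 g₁ v) (opW k 0 0 g₁ w) = χ * D v w) ∧
  (∃ χ, ∀ v w, D (opW k 0 0 g₂ v) (opW k 0 0 g₂ w) = χ * D v w) ∧
  ∀ t < k, (∃ χ, ∀ v w, D (opW k (2 ^ t) 0 oneM v) (opW k (2 ^ t) 0 oneM w) = χ * D v w) ∧
    ∃ χ, ∀ v w, D (opW k 0 (2 ^ t) oneM v) (opW k 0 (2 ^ t) oneM w) = χ * D v w

theorem smulT_zero (s : K) : ∀ k, smulT s k (0 : Tree K k) = 0
  | 0 => by show (s * 0, s * 0) = ((0, 0) : K × K); rw [mul_zero]
  | k + 1 => by show (smulT s k 0, smulT s k 0) = ((0, 0) : Tree K k × Tree K k); rw [smulT_zero s k]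

theorem opW_zero : ∀ k a b (g : ℕ → K), opW k a b g (0 : Tree K k) = 0
  | 0, a, b, g => by show (g 0 * 0 + g 1 * 0, g 2 * 0 + g 3 * 0) = ((0, 0) : K × K); simp
  | k + 1, a, b, g => by
    show (_, _) = ((0, 0) : Tree K k × Tree K k)
    have h1 : (0 : Tree K (k + 1)).1 = 0 ∧ (0 : Tree K (k + 1)).2 = 0 := ⟨rfl, rfl⟩
    split_ifs <;> simp [h1.1, h1.2, opW_zero k]

/-- The leaf: semi-invariant forms on the plane are multiples of the listed ones. -/
def LeafUnique (g₁ g₂ : ℕ → K) (ms : Fin 4 → ℕ → K) : Prop :=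
  ∀ D : Tree K 0 → Tree K 0 → K, Bilin 0 D → SemiInv g₁ g₂ 0 D → ∃ (c : Fin 4) (r : K), ∀ v w, D v w = r * formW 0 0 0 (ms c) v w

/-- Semi-invariant forms are multiples of tensor forms. -/
theorem exists_form {g₁ g₂ : ℕ → K} {ms : Fin 4 → ℕ → K} (h2 : (2 : K) ≠ 0) (hu : LeafUnique g₁ g₂ ms) :
    ∀ (k : ℕ) (D : Tree K k → Tree K k → K), Bilin k D → SemiInv g₁ g₂ k D →
      ∃ a, a < 2 ^ k ∧ ∃ b, b < 2 ^ k ∧ ∃ (c : Fin 4) (r : K), ∀ v w, D v w = r * formW k a b (ms c) v w
  | 0, D, hb, hs => by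
    obtain ⟨c, r, h⟩ := hu D hb hs
    exact ⟨0, Nat.one_pos, 0, Nat.one_pos, c, r, h⟩
  | k + 1, D, hb, hs => by
    let p := 2 ^ k
    have hp : 0 < p := pow_pos two_pos k
    let L : Tree K k → Tree K (k + 1) := fun x => (x, 0)
    let R : Tree K k → Tree K (k + 1) := fun x => (0, x)
    have hdec : ∀ v : Tree K (k + 1), v = L v.1 + R v.2 := fun v => by
      show v = (v.1 + 0, 0 + v.2); rw [add_zero, zero_add]; rfl
    have hsum : ∀ v w : Tree K (k + 1), D v w =
        D (L v.1) (L w.1) + D (L v.1) (R w.2) + (D (R v.2) (L w.1) + D (R v.2) (R w.2)) := fun v w => by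
      conv_lhs => rw [hdec v, hdec w, hb.addl, hb.addr, hb.addr]
    have hLadd : ∀ x y, L (x + y) = L x + L y := fun x y => by show _ = ((_, 0 + 0) : Tree K k × Tree K k); rw [add_zero]
    have hRadd : ∀ x y, R (x + y) = R x + R y := fun x y => by show _ = ((0 + 0, _) : Tree K k × Tree K k); rw [add_zero]
    have hz0 : ∀ s : K, smulT s k (0 : Tree K k) = 0 := fun s => smulT_zero s k
    have hLs : ∀ s x, smulT s (k + 1) (L x) = L (smulT s k x) := fun s x => by
      show (smulT s k x, smulT s k 0) = _; rw [hz0]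
    have hRs : ∀ s x, smulT s (k + 1) (R x) = R (smulT s k x) := fun s x => by
      show (smulT s k 0, smulT s k x) = _; rw [hz0]
    have hop0 : ∀ a b (g : ℕ → K), opW k a b g 0 = 0 := fun a b g => opW_zero k a b g
    obtain ⟨⟨χ₁, hχ₁⟩, ⟨χ₂, hχ₂⟩, hlev⟩ := hs
    obtain ⟨⟨χX, hX⟩, ⟨χZ, hZ⟩⟩ := hlev k (Nat.lt_succ_self k)
    -- the two top generators
    have eX : ∀ v : Tree K (k + 1), opW (k + 1) (2 ^ k) 0 oneM v = ((v.2, v.1) : Tree K k × Tree K k) := fun v => by
      simp [opW, Nat.div_self hp, Nat.mod_self, opW_one]; rfl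
    have eZ : ∀ v : Tree K (k + 1), opW (k + 1) 0 (2 ^ k) oneM v = ((v.1, -v.2) : Tree K k × Tree K k) := fun v => by
      simp [opW, Nat.div_self hp, Nat.mod_self, opW_one]; rfl
    have hblock : ∀ P : (Tree K k → Tree K (k + 1)) × (Tree K k → Tree K (k + 1)),
        (P.1 = L ∨ P.1 = R) → (P.2 = L ∨ P.2 = R) →
        Bilin k (fun x y => D (P.1 x) (P.2 y)) ∧ SemiInv g₁ g₂ k (fun x y => D (P.1 x) (P.2 y)) := by
      intro P h1 h2'
      have hlow : ∀ (E : Tree K k → Tree K (k + 1)), (E = L ∨ E = R) →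
          (∀ x y, E (x + y) = E x + E y) ∧ (∀ s x, smulT s (k + 1) (E x) = E (smulT s k x)) ∧
          ∀ a b (g : ℕ → K) x, a < p → b < p → opW (k + 1) a b g (E x) = E (opW k a b g x) := by
        rintro E (rfl | rfl)
        · refine ⟨hLadd, hLs, fun a b g x ha hb' => ?_⟩
          have ha0 : a < 2 ^ k := ha
          have hb0 : b < 2 ^ k := hb'
          simp [opW, Nat.div_eq_of_lt ha0, Nat.div_eq_of_lt hb0, Nat.mod_eq_of_lt ha0, Nat.mod_eq_of_lt hb0, L, hop0]
          try rfl
        · refine ⟨hRadd, hRs, fun a b g x ha hb' => ?_⟩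
          have ha0 : a < 2 ^ k := ha
          have hb0 : b < 2 ^ k := hb'
          simp [opW, Nat.div_eq_of_lt ha0, Nat.div_eq_of_lt hb0, Nat.mod_eq_of_lt ha0, Nat.mod_eq_of_lt hb0, R, hop0]
          try rfl
      obtain ⟨ha1, hs1, ho1⟩ := hlow P.1 h1
      obtain ⟨ha2, hs2, ho2⟩ := hlow P.2 h2'
      refine ⟨⟨fun v v' w => by rw [ha1, hb.addl], fun v w w' => by rw [ha2, hb.addr],
        fun r s v w => by rw [← hs1, ← hs2, hb.smul]⟩, ⟨χ₁, fun v w => ?_⟩, ⟨χ₂, fun v w => ?_⟩, fun t ht => ?_⟩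
      · dsimp only
        rw [← ho1 0 0 _ _ hp hp, ← ho2 0 0 _ _ hp hp, hχ₁]
      · dsimp only
        rw [← ho1 0 0 _ _ hp hp, ← ho2 0 0 _ _ hp hp, hχ₂]
      · have htp : 2 ^ t < p := Nat.pow_lt_pow_right (by norm_num) ht
        obtain ⟨⟨χa, ha⟩, χb, hb'⟩ := hlev t (Nat.lt_succ_of_lt ht)
        exact ⟨⟨χa, fun v w => by dsimp only; rw [← ho1 _ _ _ _ htp hp, ← ho2 _ _ _ _ htp hp, ha]⟩,
          χb, fun v w => by dsimp only; rw [← ho1 _ _ _ _ hp htp, ← ho2 _ _ _ _ hp htp, hb']⟩
    have zLR : ∀ x y, -D (L x) (R y) = χZ * D (L x) (R y) ∧ -D (R x) (L y) = χZ * D (R x) (L y) ∧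
        D (L x) (L y) = χZ * D (L x) (L y) ∧ D (R x) (R y) = χZ * D (R x) (R y) := fun x y => by
      have n1 : ∀ z, ((0, -z) : Tree K k × Tree K k) = -(R z) := fun z => by
        show _ = ((-0, -z) : Tree K k × Tree K k); rw [neg_zero]
      have e1 : ∀ z, opW (k + 1) 0 (2 ^ k) oneM (L z) = L z := fun z => by rw [eZ]; simp [L]; rfl
      have e2 : ∀ z, opW (k + 1) 0 (2 ^ k) oneM (R z) = -(R z) := fun z => by rw [eZ]; exact n1 z
      have a1 := hZ (L x) (R y); have a2 := hZ (R x) (L y); have a3 := hZ (L x) (L y); have a4 := hZ (R x) (R y)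
      rw [e1, e2, hb.neg_right] at a1; rw [e1, e2, hb.neg_left] at a2; rw [e1, e1] at a3
      rw [e2, e2, hb.neg_left, hb.neg_right, neg_neg] at a4
      exact ⟨a1, a2, a3, a4⟩
    have xLR : ∀ x y, D (R x) (R y) = χX * D (L x) (L y) ∧ D (R x) (L y) = χX * D (L x) (R y) := fun x y => by
      have e1 : ∀ z, opW (k + 1) (2 ^ k) 0 oneM (L z) = R z := fun z => eX _
      have e2 : ∀ z, opW (k + 1) (2 ^ k) 0 oneM (R z) = L z := fun z => eX _
      have a1 := hX (L x) (L y); have a2 := hX (L x) (R y)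
      rw [e1, e1] at a1; rw [e1, e2] at a2
      exact ⟨a1, a2⟩
    by_cases hall : ∀ x y, D (L x) (L y) = 0 ∧ D (L x) (R y) = 0
    · refine ⟨0, pow_pos two_pos _, 0, pow_pos two_pos _, 0, 0, fun v w => ?_⟩
      rw [hsum, (hall _ _).1, (hall _ _).2, (xLR _ _).2, (hall _ _).2, (xLR _ _).1, (hall _ _).1]
      ring
    push Not at hall
    obtain ⟨x₀, y₀, hxy⟩ := hall
    have hχX : χX = 1 ∨ χX = -1 := by
      have a1 := hX (R x₀) (R y₀); have a2 := hX (R x₀) (L y₀)
      have e1 : ∀ z, opW (k + 1) (2 ^ k) 0 oneM (L z) = R z := fun z => eX _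
      have e2 : ∀ z, opW (k + 1) (2 ^ k) 0 oneM (R z) = L z := fun z => eX _
      rw [e2, e2, (xLR _ _).1, ← mul_assoc] at a1
      rw [e2, e1, (xLR _ _).2, ← mul_assoc] at a2
      refine mul_self_eq_one_iff.mp ?_
      by_cases h0 : D (L x₀) (L y₀) = 0
      · exact mul_right_cancel₀ (hxy h0) (by rw [one_mul]; exact a2.symm)
      · exact mul_right_cancel₀ h0 (by rw [one_mul]; exact a1.symm)
    by_cases hZ1 : χZ = 1
    · -- no swap
      have hc : ∀ x y, D (L x) (R y) = 0 := fun x y => by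
        have := (zLR x y).1
        rw [hZ1, one_mul] at this
        exact (mul_eq_zero.mp (show (2 : K) * D (L x) (R y) = 0 by linear_combination -this)).resolve_left h2
      obtain ⟨hbl, hsl⟩ := hblock (L, L) (Or.inl rfl) (Or.inl rfl)
      obtain ⟨a, ha, b, hb', c, r, hr⟩ := exists_form h2 hu k _ hbl hsl
      have ha' : a % 2 ^ k = a ∧ a / 2 ^ k = 0 := ⟨Nat.mod_eq_of_lt ha, Nat.div_eq_of_lt ha⟩
      rcases hχX with hχ | hχ
      · refine ⟨a, by rw [pow_succ]; omega, b, by rw [pow_succ]; omega, c, r, fun v w => ?_⟩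
        rw [hsum, hc, (xLR _ _).2, hc, (xLR _ _).1, hr, hr, hχ]
        simp only [formW, ha', Nat.mod_eq_of_lt hb', Nat.div_eq_of_lt hb', zero_ne_one, if_false]
        ring
      · refine ⟨a, by rw [pow_succ]; omega, 2 ^ k + b, by rw [pow_succ]; omega, c, r, fun v w => ?_⟩
        rw [hsum, hc, (xLR _ _).2, hc, (xLR _ _).1, hr, hr, hχ]
        have e1 : (2 ^ k + b) % 2 ^ k = b := by rw [Nat.add_mod_left, Nat.mod_eq_of_lt hb']
        have e2 : (2 ^ k + b) / 2 ^ k = 1 := by rw [Nat.add_div_left _ hp, Nat.div_eq_of_lt hb']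
        simp only [formW, ha', e1, e2, zero_ne_one, if_false, if_true]
        ring
    · -- the halves are swapped
      have hc : ∀ x y, D (L x) (L y) = 0 := fun x y => by
        have h3 := (zLR x y).2.2.1
        by_contra hne
        exact hZ1 (mul_right_cancel₀ hne (by rw [one_mul]; exact h3.symm))
      obtain ⟨hbl, hsl⟩ := hblock (L, R) (Or.inl rfl) (Or.inr rfl)
      obtain ⟨a, ha, b, hb', c, r, hr⟩ := exists_form h2 hu k _ hbl hsl
      have e1 : (2 ^ k + a) % 2 ^ k = a := by rw [Nat.add_mod_left, Nat.mod_eq_of_lt ha]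
      have e2 : (2 ^ k + a) / 2 ^ k = 1 := by rw [Nat.add_div_left _ hp, Nat.div_eq_of_lt ha]
      rcases hχX with hχ | hχ
      · refine ⟨2 ^ k + a, by rw [pow_succ]; omega, b, by rw [pow_succ]; omega, c, r, fun v w => ?_⟩
        rw [hsum, hc, (xLR _ _).1, hc, (xLR _ _).2, hr, hr, hχ]
        simp only [formW, e1, e2, Nat.mod_eq_of_lt hb', Nat.div_eq_of_lt hb', zero_ne_one, if_false, if_true]
        ring
      · refine ⟨2 ^ k + a, by rw [pow_succ]; omega, 2 ^ k + b, by rw [pow_succ]; omega, c, r, fun v w => ?_⟩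
        rw [hsum, hc, (xLR _ _).1, hc, (xLR _ _).2, hr, hr, hχ]
        have e3 : (2 ^ k + b) % 2 ^ k = b := by rw [Nat.add_mod_left, Nat.mod_eq_of_lt hb']
        have e4 : (2 ^ k + b) / 2 ^ k = 1 := by rw [Nat.add_div_left _ hp, Nat.div_eq_of_lt hb']
        simp only [formW, e1, e2, e3, e4, if_true]
        ring

/-- Distinct indices give non-proportional forms. -/
theorem form_injective {ms : Fin 4 → ℕ → K} (h2 : (2 : K) ≠ 0)
    (hne : ∀ c, ∃ v w, formW 0 0 0 (ms c) v w ≠ 0)
    (hinj : ∀ c c' r, (∀ v w, formW 0 0 0 (ms c) v w = r * formW 0 0 0 (ms c') v w) → c = c') :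
    ∀ k a b c a' b' c' r, a < 2 ^ k → b < 2 ^ k → a' < 2 ^ k → b' < 2 ^ k →
      (∀ v w, formW k a b (ms c) v w = r * formW k a' b' (ms c') v w) → a = a' ∧ b = b' ∧ c = c' := by
  have hnz : ∀ k a b c, ∃ v w, formW k a b (ms c) v w ≠ 0 := by
    intro k
    induction k with
    | zero => exact fun _ _ c => hne c
    | succ k ih =>
      intro a b c
      obtain ⟨v, w, h⟩ := ih (a % 2 ^ k) (b % 2 ^ k) c
      refine ⟨(v, 0), if a / 2 ^ k = 1 then (0, w) else (w, 0), ?_⟩
      by_cases h1 : a / 2 ^ k = 1 <;> simp only [formW, h1, if_true, if_false, formW_zero_left] <;> split_ifs <;> simpa using h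
  intro k
  induction k with
  | zero =>
    intro a b c a' b' c' r ha hb ha' hb' h
    rw [pow_zero] at ha hb ha' hb'
    exact ⟨by omega, by omega, hinj c c' r h⟩
  | succ k ih =>
    intro a b c a' b' c' r ha hb ha' hb' h
    have hq : ∀ x, x < 2 ^ (k + 1) → x % 2 ^ k < 2 ^ k ∧ (x / 2 ^ k = 0 ∨ x / 2 ^ k = 1) ∧ x % 2 ^ k + 2 ^ k * (x / 2 ^ k) = x :=
      fun x hx => ⟨Nat.mod_lt _ (pow_pos two_pos k), by
        have : x / 2 ^ k < 2 := Nat.div_lt_iff_lt_mul (pow_pos two_pos k) |>.mpr (by rw [pow_succ] at hx; omega)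
        generalize x / 2 ^ k = d at this ⊢
        omega, Nat.mod_add_div x (2 ^ k)⟩
    obtain ⟨v₀, w₀, hv₀⟩ := hnz k (a % 2 ^ k) (b % 2 ^ k) c
    have hbitA : (a / 2 ^ k = 1) ↔ (a' / 2 ^ k = 1) := by
      by_contra hcon
      rcases not_iff.mp hcon |> fun e => em (a / 2 ^ k = 1) with h1 | h1
      · have h1' : ¬ a' / 2 ^ k = 1 := fun e => hcon ⟨fun _ => e, fun _ => h1⟩
        have := h (v₀, 0) (0, w₀)
        simp only [formW, h1, h1', if_true, if_false, formW_zero_left, formW_zero_right] at this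
        exact hv₀ (by split_ifs at this <;> simpa using this)
      · have h1' : a' / 2 ^ k = 1 := by_contra fun e => hcon ⟨fun x => absurd x h1, fun x => absurd x e⟩
        have := h (v₀, 0) (w₀, 0)
        simp only [formW, h1, h1', if_true, if_false, formW_zero_left, formW_zero_right] at this
        exact hv₀ (by split_ifs at this <;> simpa using this)
    have hlow : ∀ v w, formW k (a % 2 ^ k) (b % 2 ^ k) (ms c) v w = r * formW k (a' % 2 ^ k) (b' % 2 ^ k) (ms c') v w := by
      intro v w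
      by_cases h1 : a / 2 ^ k = 1
      · have := h (v, 0) (0, w)
        simp only [formW, h1, hbitA.mp h1, if_true, formW_zero_left, formW_zero_right] at this
        split_ifs at this <;> simpa using this
      · have := h (v, 0) (w, 0)
        simp only [formW, h1, mt hbitA.mpr h1, if_false, formW_zero_left, formW_zero_right] at this
        split_ifs at this <;> simpa using this
    obtain ⟨ea, eb, ec⟩ := ih _ _ c _ _ c' r (hq a ha).1 (hq b hb).1 (hq a' ha').1 (hq b' hb').1 hlow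
    have hA : a / 2 ^ k = a' / 2 ^ k := by
      rcases (hq a ha).2.1 with e | e <;> rcases (hq a' ha').2.1 with e' | e' <;> simp [e, e'] at hbitA ⊢
    have hr : r = 1 := by
      have := hlow v₀ w₀
      rw [← ea, ← eb, ← ec] at this
      exact (mul_left_eq_self₀.mp this.symm).resolve_right hv₀
    have hB : b / 2 ^ k = b' / 2 ^ k := by
      by_cases h1 : a / 2 ^ k = 1
      · have := h (0, v₀) (w₀, 0)
        simp only [formW, h1, hA ▸ h1, if_true, formW_zero_left, formW_zero_right, ← ea, ← eb, ← ec, hr, one_mul] at this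
        rcases (hq b hb).2.1 with e | e <;> rcases (hq b' hb').2.1 with e' | e' <;> simp [e, e'] at this ⊢ <;>
          exact hv₀ ((mul_eq_zero.mp (show (2 : K) * formW k (a % 2 ^ k) (b % 2 ^ k) (ms c) v₀ w₀ = 0 by
            first | linear_combination this | linear_combination -this)).resolve_left h2)
      · have := h (0, v₀) (0, w₀)
        simp only [formW, h1, hA ▸ h1, if_false, formW_zero_left, formW_zero_right, ← ea, ← eb, ← ec, hr, one_mul] at this
        rcases (hq b hb).2.1 with e | e <;> rcases (hq b' hb').2.1 with e' | e' <;> simp [e, e'] at this ⊢ <;>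
          exact hv₀ ((mul_eq_zero.mp (show (2 : K) * formW k (a % 2 ^ k) (b % 2 ^ k) (ms c) v₀ w₀ = 0 by
            first | linear_combination this | linear_combination -this)).resolve_left h2)
    refine ⟨?_, ?_, ec⟩
    · rw [← (hq a ha).2.2, ← (hq a' ha').2.2, ea, hA]
    · rw [← (hq b hb).2.2, ← (hq b' hb').2.2, eb, hB]

end CfsgLib.BaseTwo
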