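import Cfsg.Agent.Lib.BaseTwo.Moves

/-!
How the two functionals change under an element fixing the chosen vectors.
-/

set_option autoImplicit false

namespace CfsgLib.BaseTwo

open Subgroup CfsgLib.OddBase CfsgLib.BaseThree

universe u

section Invariant

variable {K : Type u} [Field K]

/-- Monomials keep the first form exactly. -/
theorem first_exact {m g : ℕ → K}
    (h : ∀ v w : Tree K 0, formW 0 0 0 m (opW 0 0 0 g v) (opW 0 0 0 g w) = formW 0 0 0 m v w) :
    ∀ k a b (v w : Tree K k), formW k 0 0 m (opW k a b g v) (opW k a b g w) = formW k 0 0 m v w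
  | 0, a, b, v, w => h v w
  | k + 1, a, b, v, w => by
    by_cases h1 : a / 2 ^ k = 1 <;> by_cases h2 : b / 2 ^ k = 1 <;>
      simp [formW, opW, h1, h2, Nat.zero_div, Nat.zero_mod, formW_neg_left, formW_neg_right, first_exact h k] <;> ring

/-- Only the first form is invariant under all generators. -/
theorem first_only {ms : Fin 4 → ℕ → K} {g₁ g₂ : ℕ → K} (h2 : (2 : K) ≠ 0)
    (hleaf : ∀ c, (∀ v w : Tree K 0, formW 0 0 0 (ms c) (opW 0 0 0 g₁ v) (opW 0 0 0 g₁ w) = formW 0 0 0 (ms c) v w) →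
      (∀ v w : Tree K 0, formW 0 0 0 (ms c) (opW 0 0 0 g₂ v) (opW 0 0 0 g₂ w) = formW 0 0 0 (ms c) v w) → c = 0)
    (hnz : ∀ k a b c, a < 2 ^ k → b < 2 ^ k → ∃ v w, formW k a b (ms c) v w ≠ 0) :
    ∀ k a b c, a < 2 ^ k → b < 2 ^ k →
      (∀ g, g = g₁ ∨ g = g₂ → ∀ v w, formW k a b (ms c) (opW k 0 0 g v) (opW k 0 0 g w) = formW k a b (ms c) v w) →
      (∀ t < k, ∀ v w, formW k a b (ms c) (opW k (2 ^ t) 0 oneM v) (opW k (2 ^ t) 0 oneM w) = formW k a b (ms c) v w ∧
        formW k a b (ms c) (opW k 0 (2 ^ t) oneM v) (opW k 0 (2 ^ t) oneM w) = formW k a b (ms c) v w) →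
      a = 0 ∧ b = 0 ∧ c = 0
  | 0, a, b, c, ha, hb, hg, _ => by
    rw [pow_zero] at ha hb
    exact ⟨by omega, by omega, hleaf c (hg g₁ (Or.inl rfl)) (hg g₂ (Or.inr rfl))⟩
  | k + 1, a, b, c, ha, hb, hg, hl => by
    have hp : 0 < 2 ^ k := pow_pos two_pos k
    have hq : ∀ x, x < 2 ^ (k + 1) → x / 2 ^ k ≠ 1 → x < 2 ^ k := fun x hx hne => by
      by_contra hcon
      exact hne (Nat.div_eq_of_lt_le (by omega) (by rw [pow_succ] at hx; omega))
    obtain ⟨x, y, hxy⟩ := hnz k (a % 2 ^ k) (b % 2 ^ k) c (Nat.mod_lt _ hp) (Nat.mod_lt _ hp)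
    have e2 : ∀ z : K, z = -z → z = 0 := fun z e =>
      (mul_eq_zero.mp (show (2 : K) * z = 0 by linear_combination e)).resolve_left h2
    have hX := fun v w => (hl k (Nat.lt_succ_self k) v w).1
    have hW := fun v w => (hl k (Nat.lt_succ_self k) v w).2
    have ha0 : a / 2 ^ k ≠ 1 := by
      intro h1
      have := hW (x, 0) (0, y)
      simp [formW, opW, h1, Nat.div_self hp, Nat.mod_self, opW_one, opW_zero, formW_zero_left, formW_zero_right,
        formW_neg_right] at this
      exact hxy (e2 _ this.symm)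
    have hb0 : b / 2 ^ k ≠ 1 := by
      intro h1
      have := hX (x, 0) (y, 0)
      simp [formW, opW, h1, ha0, Nat.div_self hp, Nat.mod_self, opW_one, opW_zero, formW_zero_left, formW_zero_right] at this
      exact hxy (e2 _ this.symm)
    have ha' := hq a ha ha0
    have hb' := hq b hb hb0
    have key : ∀ p q (g : ℕ → K), p < 2 ^ k → q < 2 ^ k →
        (∀ v w, formW (k + 1) a b (ms c) (opW (k + 1) p q g v) (opW (k + 1) p q g w) = formW (k + 1) a b (ms c) v w) →
        ∀ v w, formW k a b (ms c) (opW k p q g v) (opW k p q g w) = formW k a b (ms c) v w := by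
      intro p q g hp' hq' h v w
      have := h (v, 0) (w, 0)
      simpa [formW, opW, Nat.div_eq_of_lt hp', Nat.div_eq_of_lt hq', Nat.div_eq_of_lt ha', Nat.div_eq_of_lt hb',
        Nat.mod_eq_of_lt hp', Nat.mod_eq_of_lt hq', Nat.mod_eq_of_lt ha', Nat.mod_eq_of_lt hb', opW_zero,
        formW_zero_left, formW_zero_right] using this
    exact first_only h2 hleaf hnz k a b c ha' hb' (fun g hg' => key 0 0 g hp hp (hg g hg')) fun t ht v w =>
      have htp : 2 ^ t < 2 ^ k := Nat.pow_lt_pow_right (by norm_num) ht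
      ⟨key _ _ _ htp hp (fun v w => (hl t (by omega) v w).1) v w,
        key _ _ _ hp htp (fun v w => (hl t (by omega) v w).2) v w⟩

end Invariant

variable {A V : Type u} [Group A] [Finite A] [AddCommGroup V] [Finite V] [DistribMulAction A V]
  {Z F L₀ : Subgroup A} {hf : Frame A V Z F L₀} {S : Spec} {ν : @Num (Sc V Z) hf.base.field.toField}
  {ce : Fin 4 → A} {X W zs : ℕ → A} {b₀ b₁ : V}

/-- The leaf forms are kept exactly by the leaf matrices. -/
def Spec.exactB (S : Spec) : Bool :=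
  (List.range 4).all fun d => S.o.congrM (S.mats.getD d []) (S.forms.getD 0 []) == S.o.scaleM 1 (S.forms.getD 0 [])

namespace Fits

variable (H : Fits hf S ν ce X W zs b₀ b₁)
variable {a : A} {T : Tree (Sc V Z) S.k → Tree (Sc V Z) S.k} (hT : Move hf S X b₀ b₁ a T)

include H hT

theorem card_field : letI := hf.base.field.toField; Nat.card (Sc V Z) = ν.q := by
  letI := hf.base.field.toField
  let φ : Fin ν.q → Sc V Z := fun i => ν.dec i.1
  have : Function.Bijective φ := ⟨fun i j e => Fin.ext (H.ok.inj _ _ i.2 j.2 e), fun r => by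
    obtain ⟨n, hn, e⟩ := H.ok.surj r; exact ⟨⟨n, hn⟩, e⟩⟩
  rw [← Nat.card_eq_of_bijective φ this, Nat.card_fin]

/-- The weighted sum of the forms is moved as the scalars are. -/
theorem phi_move (hphi : S.phiB = true) (hx : a • vecJ hf S ν X b₀ b₁ S.x = vecJ hf S ν X b₀ b₁ S.x)
    (hy : a • vecJ hf S ν X b₀ b₁ S.y = vecJ hf S ν X b₀ b₁ S.y) {π : Equiv.Perm (Fin S.n)}
    (hπ : ∀ f : Fin S.n, els S ce X W zs (π f) = a * els S ce X W zs f * a⁻¹) (f : Fin S.n) :
    letI := hf.base.field.toField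
    ∀ r ∈ [S.rx, S.ry], ∀ v ∈ [S.x, S.y],
      ν.dec (S.o.dot r (S.op (π f) v)) = scalarAut hf.base a (ν.dec (S.o.dot r (S.op f v))) := by
  classical
  letI := hf.base.field.toField
  haveI : Fintype (Sc V Z) := Fintype.ofFinite _
  set σ := scalarAut hf.base a
  let N := 4 * 4 ^ S.k
  let fm : Fin N → Tree (Sc V Z) S.k → Tree (Sc V Z) S.k → Sc V Z := fun g =>
    formW S.k (S.ia g) (S.ib g) (decMs ν S.forms ⟨g.1 % 4, Nat.mod_lt _ (by norm_num)⟩)
  let w₀ : Fin N → Sc V Z := fun g => fm g (decT ν S.k S.x) (decT ν S.k S.x) ^ (S.q - 2)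
  let Φ : Tree (Sc V Z) S.k → Tree (Sc V Z) S.k → Sc V Z := fun u w => ∑ g, w₀ g * fm g u w
  have hxT := H.move_fixed hT hx
  have hparts : ∀ g : Fin N, S.ia g < 2 ^ S.k ∧ S.ib g < 2 ^ S.k :=
    fun g => ⟨Nat.mod_lt _ (pow_pos two_pos _), Nat.mod_lt _ (pow_pos two_pos _)⟩
  have hone : ∀ g : Fin N, ∃ (g' : Fin N) (r : Sc V Z), ∀ u w, σ.symm (fm g (T u) (T w)) = r * fm g' u w := by
    intro g
    obtain ⟨i, hi, j, hj, c, r, h⟩ := H.transport_form hT (S.ia g) (S.ib g) ⟨g.1 % 4, Nat.mod_lt _ (by norm_num)⟩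
    have hlt : S.idx c i j 0 < N := by
      show _ < 4 * 4 ^ S.k
      rw [Spec.idx, Spec.four_pow]
      have h1 : i + 2 ^ S.k * (j + 2 ^ S.k * 0) < 2 ^ S.k * 2 ^ S.k := by nlinarith
      nlinarith [c.2]
    refine ⟨⟨S.idx c i j 0, hlt⟩, r, fun u w => ?_⟩
    have hp : 0 < 2 ^ S.k := pow_pos two_pos _
    have e1 : S.idx c i j 0 / 4 = i + 2 ^ S.k * j := by
      rw [Spec.idx, Nat.add_mul_div_left _ _ (by norm_num), Nat.div_eq_of_lt c.2, mul_zero, add_zero, zero_add]
    have ei : S.ia (S.idx c i j 0) = i := by rw [Spec.ia, e1, Nat.add_mul_mod_self_left, Nat.mod_eq_of_lt hi]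
    have ej : S.ib (S.idx c i j 0) = j := by
      rw [Spec.ib, ← Nat.div_div_eq_div_mul, e1, Nat.add_mul_div_left _ _ hp, Nat.div_eq_of_lt hi, zero_add,
        Nat.mod_eq_of_lt hj]
    have ec : S.idx c i j 0 % 4 = c := by rw [Spec.idx, Nat.add_mul_mod_self_left, Nat.mod_eq_of_lt c.2]
    show _ = r * formW S.k (S.ia (S.idx c i j 0)) (S.ib (S.idx c i j 0)) (decMs ν S.forms ⟨S.idx c i j 0 % 4, _⟩) u w
    rw [ei, ej, show (⟨S.idx c i j 0 % 4, Nat.mod_lt _ (by norm_num)⟩ : Fin 4) = c from Fin.ext ec]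
    exact h u w
  choose τ r hτ using hone
  have hne : ∀ g : Fin N, ∃ v w, fm g v w ≠ 0 := fun g => H.forms_ne_zero _ _ _ (hparts g).1 (hparts g).2
  have hr : ∀ g, r g ≠ 0 := by
    intro g e
    obtain ⟨v, w, h⟩ := hne g
    obtain ⟨v', rfl⟩ := (H.move_bijective hT).2 v
    obtain ⟨w', rfl⟩ := (H.move_bijective hT).2 w
    have := hτ g v' w'
    rw [e, zero_mul, map_eq_zero_iff _ σ.symm.injective] at this
    exact h this
  have hτinj : Function.Injective τ := by
    intro g g' e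
    have hprop : ∀ v w, fm g v w = σ (r g / r g') * fm g' v w := by
      intro v w
      obtain ⟨v', rfl⟩ := (H.move_bijective hT).2 v
      obtain ⟨w', rfl⟩ := (H.move_bijective hT).2 w
      have h1 := hτ g v' w'
      have h2 := hτ g' v' w'
      rw [RingEquiv.symm_apply_eq] at h1 h2
      rw [h1, h2, e, ← map_mul]
      congr 1
      field_simp [hr g']
    obtain ⟨ei, ej, ec⟩ := H.forms_injective _ _ _ _ _ _ _ (hparts g).1 (hparts g).2 (hparts g').1 (hparts g').2 hprop
    have ec' : g.1 % 4 = g'.1 % 4 := congrArg Fin.val ec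
    have hkey : ∀ x : Fin N, x.1 % 4 + 4 * (S.ia x + 2 ^ S.k * S.ib x) = x.1 := fun x => by
      have hx : x.1 / (4 * 2 ^ S.k) < 2 ^ S.k := by
        rw [Nat.div_lt_iff_lt_mul (by positivity)]
        have := x.2
        simp only [N, Spec.four_pow] at this
        linarith
      rw [Spec.ia, Spec.ib, Nat.mod_eq_of_lt hx, ← Nat.div_div_eq_div_mul, Nat.mod_add_div, Nat.mod_add_div]
    exact Fin.ext (by rw [← hkey g, ← hkey g', ei, ej, ec'])
  have hτbij : Function.Bijective τ := Finite.injective_iff_bijective.mp hτinj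
  have hq2 : S.q - 2 + 1 = Fintype.card (Sc V Z) - 1 := by
    rw [← Nat.card_eq_fintype_card, H.card_field hT, H.size]
    have := H.ok.one_lt
    omega
  have hterm : ∀ g u w, σ.symm (w₀ g * fm g (T u) (T w)) = w₀ (τ g) * fm (τ g) u w := by
    intro g u w
    have e0 : σ.symm (fm g (decT ν S.k S.x) (decT ν S.k S.x)) = r g * fm (τ g) (decT ν S.k S.x) (decT ν S.k S.x) := by
      rw [← hτ, hxT]
    simp only [w₀]
    rw [map_mul, map_pow, e0, hτ]
    have := FiniteField.pow_card_sub_one_eq_one (r g) (hr g)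
    rw [← hq2, pow_succ] at this
    rw [mul_pow]
    linear_combination fm (τ g) (decT ν S.k S.x) (decT ν S.k S.x) ^ (S.q - 2) * fm (τ g) u w * this
  have hΦ : ∀ u w, Φ (T u) (T w) = σ (Φ u w) := by
    intro u w
    rw [← RingEquiv.symm_apply_eq]
    simp only [Φ, map_sum, hterm]
    exact hτbij.sum_comp (fun g => w₀ g * fm g u w)
  have hrow : ∀ (L v : List ℕ), ν.dec (S.o.dot (S.phiRow L) v) = Φ (decT ν S.k L) (decT ν S.k v) := by
    intro L v
    simp only [Spec.phiRow, H.ops]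
    rw [(dot_foldr v _ fun r hr' => by
      obtain ⟨g, -, rfl⟩ := List.mem_map.mp hr'
      rw [List.length_map, Ops.rowR_length]).2, List.map_map, ← List.sum_toFinset _ List.nodup_range,
      List.toFinset_range, Finset.sum_range]
    refine Finset.sum_congr rfl fun g _ => ?_
    simp only [Function.comp_apply]
    rw [dot_map_mul, dot_rowR]
    congr 1
    rw [Spec.weight, H.ops, dec_iterate_mul, dot_rowR]
    rfl
  simp only [Spec.phiB, Bool.and_eq_true, beq_iff_eq] at hphi
  intro r hr' v hv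
  have hrr : ∃ L, T (decT ν S.k L) = decT ν S.k L ∧ r = S.phiRow L := by
    simp only [List.mem_cons, List.not_mem_nil, or_false] at hr'
    rcases hr' with rfl | rfl
    · exact ⟨S.x, hxT, hphi.1.symm⟩
    · exact ⟨S.y, H.move_fixed hT hy, hphi.2.symm⟩
  obtain ⟨L, hL, rfl⟩ := hrr
  have hv' : a • vecJ hf S ν X b₀ b₁ v = vecJ hf S ν X b₀ b₁ v := by
    simp only [List.mem_cons, List.not_mem_nil, or_false] at hv
    rcases hv with rfl | rfl <;> assumption
  rw [hrow, hrow, ← H.move_op hT hπ hv' f, ← hΦ, hL]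

/-- The first form is moved to itself or to a multiple. -/
theorem first_move (hfirst : S.firstRowB = true) (hex : S.exactB = true) (hsq : ∀ r : Sc V Z, r ≠ 0 → r * r = 1)
    (hid : ∀ r : Sc V Z, scalarAut hf.base a r = r) :
    letI := hf.base.field.toField
    ∃ r : Sc V Z, r * r = 1 ∧ ∀ u w, formW S.k 0 0 (decMs ν S.forms 0) (T u) (T w) =
      r * formW S.k 0 0 (decMs ν S.forms 0) u w := by
  letI := hf.base.field.toField
  have hfam := H.family
  simp only [Spec.firstRowB, Bool.and_eq_true] at hfirst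
  have hsymm : ∀ r : Sc V Z, (scalarAut hf.base a).symm r = r := fun r => by rw [RingEquiv.symm_apply_eq, hid]
  obtain ⟨i, hi, j, hj, c, r, h⟩ := H.transport_form hT 0 0 0
  simp only [hsymm] at h
  have hr : r ≠ 0 := by
    intro e
    obtain ⟨v, w, hvw⟩ := H.forms_ne_zero 0 0 0 (pow_pos two_pos _) (pow_pos two_pos _)
    obtain ⟨v', rfl⟩ := (H.move_bijective hT).2 v
    obtain ⟨w', rfl⟩ := (H.move_bijective hT).2 w
    exact hvw (by rw [h, e, zero_mul])
  have hexact : ∀ d : Fin 4, ∀ k p q (v w : Tree (Sc V Z) k), formW k 0 0 (decMs ν S.forms 0)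
      (opW k p q (decMs ν S.mats d) v) (opW k p q (decMs ν S.mats d) w) = formW k 0 0 (decMs ν S.forms 0) v w := by
    intro d
    simp only [Spec.exactB, List.all_eq_true, List.mem_range, beq_iff_eq] at hex
    refine first_exact fun v w => ?_
    have := hex d.1 d.2
    rw [H.ops] at this
    show formW 0 0 0 (decM ν (S.forms.getD 0 [])) (opW 0 0 0 (decM ν (S.mats.getD d.1 [])) v)
      (opW 0 0 0 (decM ν (S.mats.getD d.1 [])) w) = _
    rw [← congrM_formW, this, scaleM_formW, ν.dec_one, one_mul]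
    rfl
  have hne := fun p q (d : Fin 4) (v : Tree (Sc V Z) S.k) => H.move_opW hT p q d
  have hinv : ∀ p q (d : Fin 4), ∀ v w, formW S.k i j (decMs ν S.forms c) (opW S.k p q (decMs ν S.mats d) v)
      (opW S.k p q (decMs ν S.mats d) w) = formW S.k i j (decMs ν S.forms c) v w := by
    intro p q d v w
    obtain ⟨ρ, p', q', d', hρ⟩ := H.move_opW hT p q d
    refine mul_left_cancel₀ hr ?_
    rw [← h, ← h, hρ, hρ, formW_smul, hexact]
    rcases eq_or_ne ρ 0 with e | e
    · exfalso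
      obtain ⟨v₀, w₀, hvw⟩ := H.forms_ne_zero 0 0 0 (pow_pos two_pos _) (pow_pos two_pos _)
      obtain ⟨z, hz, i₁, -, j₁, -, c₁, ez⟩ :=
        H.cover _ (hf.normal.conj_mem _ (elt_mem H.gens _ le_rfl p q d) a)
      have hb : Function.Bijective fun v : Tree (Sc V Z) S.k => opW S.k p q (decMs ν S.mats d) v := by
        haveI : Finite (Tree (Sc V Z) S.k) := Finite.of_injective _ (coordJ_injective H.gens H.two S.k le_rfl)
        refine Finite.injective_iff_bijective.mp fun u u' eu => coordJ_injective H.gens H.two _ le_rfl ?_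
        have eu' := congrArg (coordJ b₀ b₁ X S.k) eu
        rw [← elt_smul H.gens _ le_rfl, ← elt_smul H.gens _ le_rfl] at eu'
        exact smul_left_cancel _ eu'
      obtain ⟨u, hu⟩ := ((H.move_bijective hT).comp hb).2 v₀
      apply hvw
      rw [← hu, Function.comp_apply, hρ, e]
      have := formW_smul S.k 0 0 (decMs ν S.forms 0) 0 1 (opW S.k p' q' (decMs ν S.mats d') (T u)) w₀
      have h1 : smulT (1 : Sc V Z) S.k w₀ = w₀ := by
        refine coordJ_injective H.gens H.two _ le_rfl ?_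
        rw [coordJ_smul H.gens _ le_rfl]; rfl
      rw [h1, zero_mul, zero_mul] at this
      exact this
    · rw [hsq ρ e, one_mul]
  simp only [Ops.familyB, Bool.and_eq_true] at hfam
  have h0 := decMs_zero (ν := ν) H.family
  obtain ⟨ei, ej, ec⟩ := first_only (ms := decMs ν S.forms) H.two
    (fun c' e1 e2 => first_spec H.ok (by have := hfirst.2; rw [H.ops] at this; exact this) c' e1 e2)
    (fun k' p q d hp hq => by
      obtain ⟨h1, h2⟩ := distinct_spec H.ok hfam.1.2
      by_contra hz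
      push Not at hz
      have hd : ∀ c : Fin 4, c ≠ c + 1 := by decide
      exact hd d (form_injective H.two h1 h2 k' p q d p q (d + 1) 0 hp hq hp hq fun v w => by
        rw [hz, zero_mul]).2.2)
    S.k i j c hi hj
    (fun g hg => by rcases hg with rfl | rfl <;> [exact hinv 0 0 1; exact hinv 0 0 2])
    (fun t _ v w => ⟨by rw [← h0, ← h0]; exact hinv _ _ 0 v w, by rw [← h0, ← h0]; exact hinv _ _ 0 v w⟩)
  subst ei ej ec
  exact ⟨r, hsq r hr, h⟩

end Fits

end CfsgLib.BaseTwo
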